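import Cfsg.Agent.Lib.Char.Integral
import Cfsg.Agent.Lib.CharDegree.Counting
import Mathlib.Tactic

/-!
Owner: helper14. Values of characters at elements of order two, three and six.
-/

set_option autoImplicit false

namespace CfsgLib.Recog.G2Spectrum

open CfsgLib.Char Module
open scoped ComplexConjugate Classical

variable {G : Type*} [Group G] [Finite G]

/-- A rational algebraic integer: divisibility form. -/
theorem dvd_of_isIntegral_intDiv {n d : ℤ} (hd : d ≠ 0) (h : IsIntegral ℤ ((n : ℂ) / (d : ℂ))) :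
    d ∣ n := by
  have hs : IsIntegral ℤ ((n.natAbs : ℂ) / (d.natAbs : ℂ)) := by
    rcases Int.natAbs_eq n with hn | hn <;> rcases Int.natAbs_eq d with hd' | hd' <;>
      rw [hn, hd'] at h
    · simpa only [Int.cast_natCast] using h
    · simpa only [Int.cast_natCast, Int.cast_neg, div_neg, IsIntegral.neg_iff] using h
    · simpa only [Int.cast_natCast, Int.cast_neg, neg_div, IsIntegral.neg_iff] using h
    · simpa only [Int.cast_natCast, Int.cast_neg, neg_div_neg_eq] using h
  exact Int.natAbs_dvd_natAbs.1 (CharIntegral.dvd_of_isIntegral_div (Int.natAbs_ne_zero.2 hd) hs)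

/-- eigenvalues of an element in an irreducible character -/
theorem exists_values_at (χ : Cfsg.IrrCharacter G) {g : G} {m : ℕ} (hg : g ^ m = 1) :
    ∃ μ : Fin (Cfsg.charDegree (χ : G → ℂ)) → ℂ, (∀ i, μ i ^ m = 1) ∧
      ∀ k : ℕ, (χ : G → ℂ) (g ^ k) = ∑ i, μ i ^ k := by
  obtain ⟨n, ρ, -, hρ, hn⟩ := CfsgLib.CharDegree.exists_rep χ
  obtain ⟨b, μ, -, hord, -, -, hpow⟩ := CfsgLib.CharIntegral.exists_eigenbasis_apply ρ g
  have hc : finrank ℂ (Fin n → ℂ) = Cfsg.charDegree (χ : G → ℂ) := by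
    rw [Module.finrank_fin_fun]; exact hn.symm ▸ rfl
  refine ⟨fun i => μ (Fin.cast hc.symm i), fun i => ?_, fun k => ?_⟩
  · obtain ⟨c, rfl⟩ := orderOf_dvd_of_pow_eq_one hg
    rw [pow_mul, hord, one_pow]
  · rw [show (χ : G → ℂ) (g ^ k) = ρ.character (g ^ k) from (congrFun hρ _).symm, hpow k]
    exact (Equiv.sum_comp (finCongr hc.symm) (fun i => μ i ^ k)).symm

theorem value_involution (χ : Cfsg.IrrCharacter G) {t : G} (ht : t * t = 1) :
    ∃ k : ℤ, (χ : G → ℂ) t = k ∧ |k| ≤ Cfsg.charDegree (χ : G → ℂ) ∧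
      2 ∣ (Cfsg.charDegree (χ : G → ℂ) : ℤ) - k := by
  obtain ⟨μ, h2, hs⟩ := exists_values_at χ (m := 2) (by rw [pow_two, ht])
  have hsum := hs 1
  simp only [pow_one] at hsum
  set S := Finset.univ.filter fun i => μ i = -1 with hS
  have h1 : ∀ i, μ i = 1 - 2 * (if μ i = -1 then 1 else 0) := fun i => by
    rcases sq_eq_one_iff.1 (h2 i) with h | h <;> rw [h] <;> norm_num
  have hle : S.card ≤ Cfsg.charDegree (χ : G → ℂ) := by
    simpa using Finset.card_le_univ S
  refine ⟨(Cfsg.charDegree (χ : G → ℂ) : ℤ) - 2 * S.card, ?_, ?_, ⟨S.card, by ring⟩⟩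
  · rw [hsum, Finset.sum_congr rfl (fun i _ => h1 i), Finset.sum_sub_distrib, ← Finset.mul_sum,
      Finset.sum_boole, ← hS]
    simp
  · rw [abs_le]
    constructor <;> omega

theorem value_three (χ : Cfsg.IrrCharacter G) {g : G} (hg : g ^ 3 = 1)
    (hreal : conj ((χ : G → ℂ) g) = (χ : G → ℂ) g) :
    ∃ k : ℕ, (χ : G → ℂ) g = (((Cfsg.charDegree (χ : G → ℂ) : ℤ) - 3 * k : ℤ) : ℂ) ∧
      2 * k ≤ Cfsg.charDegree (χ : G → ℂ) := by
  obtain ⟨μ, h3, hs⟩ := exists_values_at χ (m := 3) hg
  have hsum := hs 1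
  simp only [pow_one] at hsum
  set S := Finset.univ.filter fun i => μ i ≠ 1 with hS
  have hre : ∀ i, (μ i).re = 1 - (3 / 2 : ℝ) * (if μ i ≠ 1 then 1 else 0) := by
    intro i
    by_cases h : μ i = 1
    · simp [h]
    · have hq : μ i ^ 2 + μ i + 1 = 0 := by
        have : (μ i - 1) * (μ i ^ 2 + μ i + 1) = 0 := by
          linear_combination h3 i
        exact (mul_eq_zero.1 this).resolve_left (sub_ne_zero.2 h)
      have e1 := congrArg Complex.re hq
      have e2 := congrArg Complex.im hq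
      simp only [pow_two, Complex.add_re, Complex.mul_re, Complex.one_re, Complex.zero_re,
        Complex.add_im, Complex.mul_im, Complex.one_im, Complex.zero_im, add_zero] at e1 e2
      rcases eq_or_ne (μ i).im 0 with him | him
      · rw [him] at e1
        exfalso
        nlinarith [sq_nonneg ((μ i).re + 1 / 2)]
      · have : (2 * (μ i).re + 1) = 0 := by
          have : (μ i).im * (2 * (μ i).re + 1) = 0 := by linarith
          exact (mul_eq_zero.1 this).resolve_left him
        rw [if_pos h]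
        linarith
  have hval : (χ : G → ℂ) g =
      ((((2 * (Cfsg.charDegree (χ : G → ℂ) : ℤ) - 3 * S.card : ℤ)) : ℂ) / ((2 : ℤ) : ℂ)) := by
    have him : ((χ : G → ℂ) g).im = 0 := Complex.conj_eq_iff_im.1 hreal
    have hre' : ((χ : G → ℂ) g).re =
        (Cfsg.charDegree (χ : G → ℂ) : ℝ) - 3 / 2 * S.card := by
      rw [hsum, Complex.re_sum, Finset.sum_congr rfl (fun i _ => hre i), Finset.sum_sub_distrib,
        ← Finset.mul_sum, Finset.sum_boole, ← hS]
      simp
    apply Complex.ext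
    · rw [hre']
      push_cast
      simp
      ring
    · rw [him]; simp
  have hint : IsIntegral ℤ ((χ : G → ℂ) g) := IsChar.isIntegral (IsIrr.isCharacter χ.2) g
  rw [hval] at hint
  obtain ⟨c, hc⟩ : (2 : ℤ) ∣ 3 * (S.card : ℤ) := by
    have h := dvd_of_isIntegral_intDiv two_ne_zero hint
    omega
  have hle : S.card ≤ Cfsg.charDegree (χ : G → ℂ) := by simpa using Finset.card_le_univ S
  obtain ⟨k, hk⟩ : 2 ∣ S.card := by omega
  refine ⟨k, ?_, by omega⟩
  rw [hval, hk]
  push_cast
  ring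

/-- At commuting elements of order two and three the two values agree modulo two. -/
theorem value_six (χ : Cfsg.IrrCharacter G) {g t : G} (hg : g ^ 3 = 1) (ht : t * t = 1)
    (hc : Commute g t) : IsIntegral ℤ (((χ : G → ℂ) (g * t) - (χ : G → ℂ) g) / 2) := by
  have h4 : (g * t) ^ 4 = g := by
    rw [hc.mul_pow, show g ^ 4 = g ^ 3 * g from pow_succ g 3, hg, one_mul,
      show t ^ 4 = (t * t) * (t * t) by simp only [pow_succ, pow_zero, one_mul, mul_assoc], ht, one_mul, mul_one]
  have h6 : (g * t) ^ 6 = 1 := by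
    rw [hc.mul_pow, show g ^ 6 = g ^ 3 * g ^ 3 from pow_add g 3 3, hg, one_mul,
      show t ^ 6 = (t * t) * (t * t) * (t * t) by simp only [pow_succ, pow_zero, one_mul, mul_assoc], ht,
      one_mul, one_mul]; simp
  obtain ⟨μ, h, hs⟩ := exists_values_at χ (m := 6) h6
  have h1 := hs 1
  have h2 := hs 4
  rw [h4] at h2
  simp only [pow_one] at h1
  rw [h1, h2, ← Finset.sum_sub_distrib, Finset.sum_div]
  refine IsIntegral.sum _ fun i _ => ?_
  have hsq : (μ i ^ 3) ^ 2 = 1 := by rw [← pow_mul]; exact h i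
  rcases sq_eq_one_iff.1 hsq with h3 | h3
  · rw [pow_succ (μ i) 3, h3, one_mul, sub_self, zero_div]
    exact isIntegral_zero
  · rw [pow_succ (μ i) 3, h3, show (μ i - -1 * μ i) / 2 = μ i by ring]
    exact IsIntegral.of_pow (by norm_num : 0 < 6) (by rw [h i]; exact isIntegral_one)

/-- The class multiplication sum is a nonnegative real number. -/
theorem re_sum_three_nonneg [Fintype G] [Fintype (Cfsg.IrrCharacter G)] (x y w : G) :
    0 ≤ (∑ χ : Cfsg.IrrCharacter G,
      (χ : G → ℂ) x * (χ : G → ℂ) y * (χ : G → ℂ) w / (χ : G → ℂ) 1).re := by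
  have h := congrArg Complex.re (CfsgLib.CharDegree.sum_three x y w)
  rw [Complex.natCast_re] at h
  simp only [Complex.mul_re, Complex.natCast_re, Complex.natCast_im, zero_mul, sub_zero] at h
  have hN : (0 : ℝ) < (Nat.card G : ℝ) := Nat.cast_pos.2 Nat.card_pos
  exact nonneg_of_mul_nonneg_right (h ▸ Nat.cast_nonneg _) hN

end CfsgLib.Recog.G2Spectrum
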