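import Cfsg.Agent.Lib.Perm.FewSylowTable
import Cfsg.Agent.Lib.Recog.G2Spectrum.CharTools

/-!
Owner: helper14. The principal block for a self-centralising Sylow subgroup of prime order, in the
form used for the orders `4032`, `6048` and `12096`.
-/

set_option autoImplicit false

namespace CfsgLib.Recog.G2Spectrum

open Cfsg CfsgLib.Char CfsgLib.Perm.FewSylow
open scoped ComplexConjugate Classical

variable {G : Type*} [Group G] [Fintype G] [Fintype (Cfsg.IrrCharacter G)] {p : ℕ} [Fact p.Prime]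

/-- What is used of the block: `X` non-exceptional with signs, `Y` exceptional. -/
structure Block (x : G) (p : ℕ) (e t : ℕ) (X Y : Finset (IrrCharacter G)) (δ : IrrCharacter G → ℤ)
    (ε : ℤ) : Prop where
  disj : Disjoint X Y
  triv : trivChar G ∈ X
  triv_sign : δ (trivChar G) = 1
  cardX : X.card = e
  cardY : Y.card = t
  sign : ∀ χ ∈ X, δ χ = 1 ∨ δ χ = -1
  deg : ∀ χ ∈ X, (charDegree (χ : G → ℂ) : ℤ) ≡ δ χ [ZMOD p]
  val : ∀ χ ∈ X, (χ : G → ℂ) x = (δ χ : ℂ)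
  eps : ε = 1 ∨ ε = -1
  degY : ∀ θ ∈ Y, (charDegree (θ : G → ℂ) : ℤ) ≡ ε * (e : ℤ) [ZMOD p]
  agree : ∀ θ ∈ Y, ∀ θ' ∈ Y, ∀ g : G, ¬ p ∣ orderOf g → (θ : G → ℂ) g = (θ' : G → ℂ) g
  rel : ∀ θ ∈ Y, ∀ g : G, ¬ p ∣ orderOf g →
    (ε : ℂ) * (θ : G → ℂ) g = ∑ χ ∈ X, (δ χ : ℂ) * (χ : G → ℂ) g
  others : ∀ χ, χ ∉ X ∪ Y → (χ : G → ℂ) x = 0
  nonempty : Y.Nonempty
  ysum : ∑ θ ∈ Y, (θ : G → ℂ) x = -(ε : ℂ)

theorem exists_block_data {P : Sylow p G} {a : G} {e t n : ℕ} (F : Frame P a e t n) {x : G}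
    (hx : x ∈ star (P : Subgroup G)) :
    ∃ X Y δ ε, Block x p e t X Y δ ε := by
  obtain ⟨X, Y, δ, ε, hdisj, hT, hT1, hXc, hYc, hX, hε, hYdeg, hag, hrel, -, hK, -⟩ :=
    exists_values F
  have hne : Y.Nonempty := Finset.card_pos.1 (by rw [hYc]; exact F.t_pos)
  refine ⟨X, Y, δ, ε, hdisj, hT, hT1, hXc, hYc, fun χ h => (hX χ h).1, fun χ h => (hX χ h).2.1,
    fun χ h => (hX χ h).2.2 x hx, hε, hYdeg, hag, hrel, fun χ h => hK χ h x hx, hne, ?_⟩
  obtain ⟨θ, hθ⟩ := hne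
  have hx1 : x ≠ 1 := (mem_star.1 hx).1
  have h1 : ¬ p ∣ orderOf (1 : G) := by rw [orderOf_one]; exact (Fact.out : p.Prime).not_dvd_one
  have horth := CfsgLib.CharDegree.sum_degree_mul_eq_ite x
  rw [if_neg hx1, ← Finset.sum_subset (Finset.subset_univ (X ∪ Y)) (fun χ _ hχ => by
    rw [hK χ hχ x hx, mul_zero]), Finset.sum_union hdisj] at horth
  have eX : ∑ χ ∈ X, (χ : G → ℂ) 1 * (χ : G → ℂ) x = (ε : ℂ) * (θ : G → ℂ) 1 := by
    rw [hrel θ hθ 1 h1]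
    exact Finset.sum_congr rfl fun χ h => by rw [(hX χ h).2.2 x hx, mul_comm]
  have eY : ∑ θ' ∈ Y, (θ' : G → ℂ) 1 * (θ' : G → ℂ) x =
      (θ : G → ℂ) 1 * ∑ θ' ∈ Y, (θ' : G → ℂ) x := by
    rw [Finset.mul_sum]
    exact Finset.sum_congr rfl fun θ' h => by rw [hag θ' h θ hθ 1 h1]
  rw [eX, eY] at horth
  refine mul_left_cancel₀ (IsIrr.apply_one_ne_zero θ.2) ?_
  linear_combination horth

variable {x : G} {e t : ℕ} {X Y : Finset (IrrCharacter G)} {δ : IrrCharacter G → ℤ} {ε : ℤ}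
  (D : Block x p e t X Y δ ε)
include D

theorem Block.mem_or {χ : IrrCharacter G} (h : (χ : G → ℂ) x ≠ 0) : χ ∈ X ∨ χ ∈ Y := by
  by_contra hc
  exact h (D.others χ (by simpa [Finset.mem_union, not_or] using hc))

theorem Block.value_ne {χ : IrrCharacter G} (h : χ ∈ X) : (χ : G → ℂ) x ≠ 0 := by
  rw [D.val χ h]
  rcases D.sign χ h with e | e <;> simp [e]

/-- A non-exceptional character whose degree occurs only once is real. -/
theorem Block.real {χ : IrrCharacter G} (hχ : χ ∈ X)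
    (hu : ∀ ψ ∈ X ∪ Y, charDegree (ψ : G → ℂ) = charDegree (χ : G → ℂ) → ψ = χ) (g : G) :
    conj ((χ : G → ℂ) g) = (χ : G → ℂ) g := by
  let ψ : IrrCharacter G := ⟨fun y => conj ((χ : G → ℂ) y), IsIrr.conj χ.2⟩
  have hd : charDegree (ψ : G → ℂ) = charDegree (χ : G → ℂ) := by
    have h : ((charDegree (ψ : G → ℂ) : ℕ) : ℂ) = ((charDegree (χ : G → ℂ) : ℕ) : ℂ) := by
      rw [CfsgLib.CharDegree.cast_irrDegree, CfsgLib.CharDegree.cast_irrDegree]
      show conj ((χ : G → ℂ) 1) = (χ : G → ℂ) 1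
      rw [← CfsgLib.CharDegree.cast_irrDegree χ, map_natCast]
    exact_mod_cast h
  have hm : ψ ∈ X ∪ Y := by
    rw [Finset.mem_union]
    refine D.mem_or (χ := ψ) ?_
    show conj ((χ : G → ℂ) x) ≠ 0
    rw [Ne, map_eq_zero]
    exact D.value_ne hχ
  exact congrFun (congrArg Subtype.val (hu ψ hm hd)) g

/-- The class multiplication sum with the element `x`. -/
theorem Block.sum_three {θ : IrrCharacter G} (hθ : θ ∈ Y) {g h : G} (hg : ¬ p ∣ orderOf g)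
    (hh : ¬ p ∣ orderOf h) (h1 : ¬ p ∣ orderOf (1 : G)) :
    ∑ χ : IrrCharacter G, (χ : G → ℂ) g * (χ : G → ℂ) h * (χ : G → ℂ) x / (χ : G → ℂ) 1 =
      ∑ χ ∈ X, (δ χ : ℂ) * ((χ : G → ℂ) g * (χ : G → ℂ) h / (χ : G → ℂ) 1) -
        (ε : ℂ) * ((θ : G → ℂ) g * (θ : G → ℂ) h / (θ : G → ℂ) 1) := by
  rw [← Finset.sum_subset (Finset.subset_univ (X ∪ Y)) (fun χ _ hχ => by
    rw [D.others χ hχ, mul_zero, zero_div]), Finset.sum_union D.disj, sub_eq_add_neg]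
  congr 1
  · exact Finset.sum_congr rfl fun χ hχ => by rw [D.val χ hχ]; ring
  · rw [show -((ε : ℂ) * ((θ : G → ℂ) g * (θ : G → ℂ) h / (θ : G → ℂ) 1)) =
      (θ : G → ℂ) g * (θ : G → ℂ) h / (θ : G → ℂ) 1 * (∑ θ' ∈ Y, (θ' : G → ℂ) x) by
        rw [D.ysum]; ring, Finset.mul_sum]
    exact Finset.sum_congr rfl fun θ' hθ' => by
      rw [D.agree θ' hθ' θ hθ g hg, D.agree θ' hθ' θ hθ h hh, D.agree θ' hθ' θ hθ 1 h1]; ring

/-- No pair of conjugates of two involutions has product `x⁻¹` if `x` is not inverted by one. -/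
theorem Block.sum_three_involution_eq_zero {θ : IrrCharacter G} (hθ : θ ∈ Y) {u : G}
    (hu : u * u = 1) (hp2 : ¬ p ∣ 2) (hinv : ∀ v : G, v * v = 1 → v * x * v⁻¹ ≠ x⁻¹) :
    ∑ χ ∈ X, (δ χ : ℂ) * ((χ : G → ℂ) u * (χ : G → ℂ) u / (χ : G → ℂ) 1) -
        (ε : ℂ) * ((θ : G → ℂ) u * (θ : G → ℂ) u / (θ : G → ℂ) 1) = 0 := by
  have hdu : orderOf u ∣ 2 := orderOf_dvd_of_pow_eq_one (by rw [pow_two, hu])
  have hgu : ¬ p ∣ orderOf u := fun hd => hp2 (hd.trans hdu)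
  have h1 : ¬ p ∣ orderOf (1 : G) := fun hd => hp2 (hd.trans (by rw [orderOf_one]; exact one_dvd 2))
  rw [← D.sum_three hθ hgu hgu h1]
  have hN : (Nat.card G : ℂ) ≠ 0 := Nat.cast_ne_zero.2 Nat.card_pos.ne'
  refine mul_left_cancel₀ hN ?_
  rw [CfsgLib.CharDegree.sum_three u u x, mul_zero, Nat.cast_eq_zero, Nat.card_eq_zero]
  left
  constructor
  rintro ⟨⟨c, d⟩, h⟩
  simp only at h
  set v := c * u * c⁻¹ with hv
  set v' := d * u * d⁻¹ with hv'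
  have hvv : v * v = 1 := by rw [hv, show c * u * c⁻¹ * (c * u * c⁻¹) = c * (u * u) * c⁻¹ by group, hu]; group
  have hvv' : v' * v' = 1 := by
    rw [hv', show d * u * d⁻¹ * (d * u * d⁻¹) = d * (u * u) * d⁻¹ by group, hu]; group
  have hx : x = v' * v := by
    have e1 : v' * x = v := by
      have := congrArg (fun y => v * y) h
      simp only [mul_one, ← mul_assoc, hvv, one_mul] at this
      exact this
    have := congrArg (fun y => v' * y) e1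
    simp only [← mul_assoc, hvv', one_mul] at this
    exact this
  refine hinv v hvv ?_
  refine eq_inv_of_mul_eq_one_left ?_
  rw [hx]
  calc v * (v' * v) * v⁻¹ * (v' * v) = v * (v' * v') * v := by group
    _ = 1 := by rw [hvv', mul_one, hvv]

end CfsgLib.Recog.G2Spectrum
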