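import Cfsg.Agent.Lib.Recog.G2Spectrum.Data

/-!
Owner: helper14. The table checks.
-/

set_option autoImplicit false

namespace CfsgLib.Recog.G2Spectrum

theorem search_three : (searchAt 3 0 && searchAt 3 2 && searchAt 3 4 && searchAt 3 6) = true := by
  decide +kernel

theorem search_five : (searchAt 5 0 && searchAt 5 2 && searchAt 5 4 && searchAt 5 6) = true := by
  decide +kernel

end CfsgLib.Recog.G2Spectrum
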