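import Cfsg.Agent.Lib.Recog.G2Spectrum.Data

/-!
Owner: helper14. The table checks.
-/

set_option autoImplicit false

namespace CfsgLib.Recog.G2Spectrum

theorem search_one : (searchAt 1 0 && searchAt 1 2 && searchAt 1 4 && searchAt 1 6) = true := by
  decide +kernel

theorem search_seven : (searchAt 7 0 && searchAt 7 2 && searchAt 7 4 && searchAt 7 6) = true := by
  decide +kernel

end CfsgLib.Recog.G2Spectrum
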