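import Cfsg.Agent.Lib.Recog.G2Spectrum.Gens
import Cfsg.Agent.Lib.Recog.G2Spectrum.SearchA
import Cfsg.Agent.Lib.Recog.G2Spectrum.SearchB
import Mathlib.GroupTheory.Perm.Basic
import Mathlib.Tactic

/-!
Owner: helper14. The permutation representation of degree 28 of a simple group of order `6048` is the
tabulated one.
-/

set_option autoImplicit false

namespace CfsgLib.Recog.G2Spectrum

open Cfsg CfsgLib.Char Subgroup
open scoped ComplexConjugate Classical

/-- the permutation given by a table -/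
noncomputable def tablePerm (f : ℕ → ℕ) (h1 : ∀ p : Fin 28, f p < 28)
    (h2 : ∀ p q : Fin 28, f p = f q → p = q) : Equiv.Perm (Fin 28) :=
  Equiv.ofBijective (fun p => (⟨f p, h1 p⟩ : Fin 28))
    (Finite.injective_iff_bijective.1 fun p q e => h2 p q (congrArg Fin.val e))

@[simp] theorem tablePerm_apply (f : ℕ → ℕ) (h1 h2) (p : Fin 28) :
    ((tablePerm f h1 h2 p : Fin 28) : ℕ) = f p := rfl

theorem table_la : (∀ p : Fin 28, lU 9 p < 28) ∧ ∀ p q : Fin 28, lU 9 p = lU 9 q → p = q := by decide +kernel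
theorem table_lb : (∀ p : Fin 28, lU 3 p < 28) ∧ ∀ p q : Fin 28, lU 3 p = lU 3 q → p = q := by decide +kernel
theorem table_t : (∀ p : Fin 28, tpU 1 p < 28) ∧ ∀ p q : Fin 28, tpU 1 p = tpU 1 q → p = q := by decide +kernel

/-- the first generator -/
noncomputable def laP : Equiv.Perm (Fin 28) := tablePerm _ table_la.1 table_la.2
/-- the second generator -/
noncomputable def lbP : Equiv.Perm (Fin 28) := tablePerm _ table_lb.1 table_lb.2
/-- the automorphism -/
noncomputable def tP : Equiv.Perm (Fin 28) := tablePerm _ table_t.1 table_t.2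
/-- the permutation found by the search -/
noncomputable def w0P : Equiv.Perm (Fin 28) :=
  tablePerm (fld w0C) (fun p => (w0_perm p).1) fun p q => (w0_perm p).2 q

/-- the group of degree 28 found -/
noncomputable def model : Subgroup (Equiv.Perm (Fin 28)) :=
  closure {laP, lbP, tP, w0P}

theorem tp_table : ∀ n : Fin 8, tpU n 0 = 0 ∧ tpU n 27 = 27 ∧
    ∀ p : Fin 28, (n.val % 2 = 1 → p.val = 1 → tpU n p = 2) ∧
      (p.val ≤ 2 → tpU 2 p = p) ∧ (2 < p.val → p.val < 27 → tpU 2 p ≠ p) := by decide +kernel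

theorem tp_orbit : ∀ n : Fin 8, tpU n rep1 ≠ rep2 ∧ tpU n rep1 ≠ rep3 ∧ tpU n rep2 ≠ rep3 := by decide +kernel

theorem tp_mul : ∀ j n : Fin 8, j.val % 2 = 1 → (j.val * (j.val * n.val)) % 8 = n.val % 8 := by decide +kernel

theorem orb_zero : ∀ u : Fin 27, u.val ≤ 2 → fld orbC u = 0 := by decide +kernel

theorem orb_lt : ∀ u : Fin 27, fld orbC u < 4 := by decide +kernel

theorem fU_tail : ∀ (j y1 y2 y3 y : ℕ), fld orbC y ≤ 1 → fU j y1 0 0 y = fU j y1 y2 y3 y := by
  intro j y1 y2 y3 y hy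
  unfold fU pick
  rcases (by omega : fld orbC y = 0 ∨ fld orbC y = 1) with e | e <;> simp [e]

theorem fU_tail' : ∀ (j y1 y2 y3 y : ℕ), fld orbC y ≤ 2 → fU j y1 y2 0 y = fU j y1 y2 y3 y := by
  intro j y1 y2 y3 y hy
  unfold fU pick
  rcases (by omega : fld orbC y = 0 ∨ fld orbC y = 1 ∨ fld orbC y = 2) with e | e | e <;> simp [e]

section
attribute [local irreducible] searchAt

theorem search_all (j m : ℕ) (hj : j = 1 ∨ j = 3 ∨ j = 5 ∨ j = 7) (hm : m = 0 ∨ m = 2 ∨ m = 4 ∨ m = 6) :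
    searchAt j m = true := by
  have h1 := search_one; have h3 := search_three; have h5 := search_five; have h7 := search_seven
  simp only [Bool.and_eq_true] at h1 h3 h5 h7
  rcases hj with rfl | rfl | rfl | rfl <;> rcases hm with rfl | rfl | rfl | rfl <;>
    simp only [h1, h3, h5, h7]

end

theorem tpU_mod (n p : ℕ) : tpU (n % 8) p = tpU n p := by simp [tpU]

variable {T : Type*} [Group T]

/-- the points -/
def pt (S S₁ : Sylow 3 T) (a b z : T) (n : ℕ) : Sylow 3 T :=
  if n = 27 then S else nf a b z n • S₁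

variable [Fintype T] {χ θ : IrrCharacter T} (h : Hyp48 T) (hc : Chars T χ θ)
  {S S₁ : Sylow 3 T} {a b z t : T}

theorem Gens.nf_zero (G : Gens S S₁ a b z t) : nf a b z 0 = 1 := by simp [nf]

theorem Gens.nf_smul_S (G : Gens S S₁ a b z t) (n : ℕ) : nf a b z n • S = S :=
  Sylow.smul_eq_iff_mem_normalizer.2 (Subgroup.le_normalizer (G.mem n))

theorem Gens.smul_pt (G : Gens S S₁ a b z t) {u p : ℕ} (hu : u < 27) (hp : p < 28) :
    lU u p < 28 ∧ nf a b z u • pt S S₁ a b z p = pt S S₁ a b z (lU u p) := by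
  by_cases h27 : p = 27
  · subst h27
    exact ⟨by simp [lU], by simp only [pt, lU, if_pos]; exact G.nf_smul_S u⟩
  · have hp' : p < 27 := by omega
    have hm := mulU_lt hu hp'
    refine ⟨by simp only [lU, if_neg h27]; omega, ?_⟩
    simp only [pt, lU, if_neg h27, if_neg (show mulU u p ≠ 27 by omega)]
    rw [← mul_smul, G.heis.nf_mul hu hp']

theorem Gens.t_pt (G : Gens S S₁ a b z t) {p : ℕ} (hp : p < 28) :
    t • pt S S₁ a b z p = pt S S₁ a b z (tpU 1 p) := by
  obtain ⟨-, -, hiff, -⟩ := tp_succ 1 ⟨p, hp⟩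
  simp only [Fin.val_one] at hiff
  by_cases h27 : p = 27
  · rw [hiff.2 h27, h27]; simp only [pt, if_pos]; exact G.tS
  · simp only [pt, if_neg h27, if_neg (fun e => h27 (hiff.1 e))]
    have e := G.act ⟨p, by omega⟩
    rw [← e, mul_smul, mul_smul]
    congr 2
    exact (inv_smul_eq_iff.2 G.tS₁.symm).symm

theorem Gens.t_pow_pt (G : Gens S S₁ a b z t) {p : ℕ} (hp : p < 28) :
    ∀ n : ℕ, tpU n p < 28 ∧ t ^ n • pt S S₁ a b z p = pt S S₁ a b z (tpU n p)
  | 0 => by
    obtain ⟨-, -, -, h0⟩ := tp_succ 0 ⟨p, hp⟩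
    rw [h0, pow_zero, one_smul]
    exact ⟨hp, rfl⟩
  | n + 1 => by
    obtain ⟨h1, h2⟩ := G.t_pow_pt hp n
    have hs := tp_succ ⟨n % 8, Nat.mod_lt _ (by norm_num)⟩ ⟨p, hp⟩
    simp only at hs
    have e : tpU (n + 1) p = tpU 1 (tpU n p) := by
      rw [← tpU_mod (n + 1), show (n + 1) % 8 = (n % 8 + 1) % 8 by omega, tpU_mod, hs.1, tpU_mod]
    refine ⟨e ▸ (tp_succ 1 ⟨_, h1⟩).2.1, ?_⟩
    rw [pow_succ', mul_smul, h2, G.t_pt h1, e]

theorem Gens.nf_inv (G : Gens S S₁ a b z t) {x : ℕ} (hx : x < 27) :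
    (nf a b z x)⁻¹ = nf a b z (mulU x x) := by
  have hp : ∀ u : Fin 27, mulU (mulU u u) u = 0 := by decide +kernel
  apply inv_eq_of_mul_eq_one_left
  rw [G.heis.nf_mul (mulU_lt hx hx) hx, hp ⟨x, hx⟩, G.nf_zero]

include h hc

theorem Gens.pt_inj (G : Gens S S₁ a b z t) (hS₁ : S₁ ≠ S) {p q : ℕ} (hp : p < 28) (hq : q < 28)
    (e : pt S S₁ a b z p = pt S S₁ a b z q) : p = q := by
  have hne : ∀ n, nf a b z n • S₁ ≠ S := fun n e => hS₁ (MulAction.injective (nf a b z n) (e.trans (G.nf_smul_S n).symm))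
  simp only [pt] at e
  split_ifs at e with e1 e2 e2
  · omega
  · exact absurd e.symm (hne _)
  · exact absurd e (hne _)
  · have h1 := eq_one_of_fix h hc (S := S) (mul_mem (inv_mem (G.mem q)) (G.mem p)) (R := S₁)
      (by rw [mul_smul, e, inv_smul_smul]) hS₁
    exact congrArg Fin.val (G.inj ⟨p, by omega⟩ ⟨q, by omega⟩ (inv_mul_eq_one.1 h1).symm)

theorem Gens.pt_surj (G : Gens S S₁ a b z t) (hS₁ : S₁ ≠ S) (R : Sylow 3 T) :
    ∃ p < 28, pt S S₁ a b z p = R := by
  let f : Fin 28 → Sylow 3 T := fun p => pt S S₁ a b z p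
  have hf : Function.Injective f := fun p q e => Fin.ext (G.pt_inj h hc hS₁ p.2 q.2 e)
  obtain ⟨p, hp⟩ := (hf.bijective_of_nat_card_le (by rw [(card_sylow_normalizer h hc S).2, Nat.card_fin])).2 R
  exact ⟨p, p.2, hp⟩

theorem Gens.stab (G : Gens S S₁ a b z t) (hS₁ : S₁ ≠ S) {g : T} (hg : g • S = S) :
    ∃ u < 27, ∃ m : Fin 8, g = nf a b z u * t ^ m.val := by
  obtain ⟨p, hp, e⟩ := G.pt_surj h hc hS₁ (g • S₁)
  have hp27 : p ≠ 27 := by
    intro e'
    simp only [pt, e', if_pos] at e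
    exact hS₁ (MulAction.injective g (e.symm.trans hg.symm))
  simp only [pt, if_neg hp27] at e
  obtain ⟨m, hm⟩ := G.two_point ((nf a b z p)⁻¹ * g)
    (by rw [mul_smul, hg, inv_smul_eq_iff]; exact (G.nf_smul_S p).symm)
    (by rw [mul_smul, ← e, inv_smul_smul])
  exact ⟨p, by omega, m, by rw [← hm, mul_inv_cancel_left]⟩

/-- the swap of the two base points is the one found by the search -/
theorem Gens.exists_swap (G : Gens S S₁ a b z t) (hS₁ : S₁ ≠ S) :
    ∃ w : T, ∃ k : Fin 8, w • S = S₁ ∧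
      ∀ p < 28, w • pt S S₁ a b z p = pt S S₁ a b z (fld w0C (tpU k p)) := by
  set P := pt S S₁ a b z with hP
  have hP27 : P 27 = S := by simp [hP, pt]
  have hP0 : P 0 = S₁ := by simp [hP, pt, G.nf_zero]
  have hinj : ∀ {p q : ℕ}, p < 28 → q < 28 → P p = P q → p = q := fun hp hq => G.pt_inj h hc hS₁ hp hq
  haveI : Fact (Nat.Prime 3) := ⟨Nat.prime_three⟩
  -- a swap of the two points
  obtain ⟨w₁, hw₁, hw₁'⟩ : ∃ w : T, w • S = S₁ ∧ w • S₁ = S := by
    obtain ⟨g, hg⟩ := MulAction.exists_smul_eq T S S₁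
    obtain ⟨s, hs, e⟩ := exists_unique_translate h hc hS₁ (R := g⁻¹ • S) (fun e => hS₁ (by
      rw [inv_smul_eq_iff, hg] at e; exact e.symm))
    have hsS : s • S = S := Sylow.smul_eq_iff_mem_normalizer.2 (Subgroup.le_normalizer hs)
    exact ⟨g * s, by rw [mul_smul, hsS, hg], by rw [mul_smul, e, smul_inv_smul]⟩
  have hexp : ∀ w : T, w • S = S₁ → w • S₁ = S → ∃ j : Fin 8, j.val % 2 = 1 ∧ w * t * w⁻¹ = t ^ j.val := by
    intro w e1 e2
    have i1 : w⁻¹ • S₁ = S := by rw [inv_smul_eq_iff]; exact e1.symm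
    have i2 : w⁻¹ • S = S₁ := by rw [inv_smul_eq_iff]; exact e2.symm
    obtain ⟨j, hj⟩ := G.two_point (w * t * w⁻¹) (by rw [mul_smul, mul_smul, i2, G.tS₁, e2])
      (by rw [mul_smul, mul_smul, i1, G.tS, e1])
    refine ⟨j, ?_, hj⟩
    have ho : orderOf (t ^ j.val) = 8 := by
      rw [← hj, show w * t * w⁻¹ = MulAut.conj w t from rfl, MulEquiv.orderOf_eq, G.order]
    by_contra hodd
    have h4 : (t ^ j.val) ^ 4 = 1 := by
      rw [← pow_mul, ← orderOf_dvd_iff_pow_eq_one, G.order]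
      omega
    have := orderOf_dvd_of_pow_eq_one h4
    rw [ho] at this
    norm_num at this
  obtain ⟨j, hjodd, hj₁⟩ := hexp w₁ hw₁ hw₁'
  have himg : ∀ {w : T}, w • S = S₁ → w • S₁ = S → ∀ {p : ℕ}, 0 < p → p < 27 →
      ∃ q, 0 < q ∧ q < 27 ∧ w • P p = P q := by
    intro w e1 e2 p hp0 hp
    obtain ⟨q, hq, e⟩ := G.pt_surj h hc hS₁ (w • P p)
    refine ⟨q, ?_, ?_, e.symm⟩
    · by_contra hq0
      rw [show q = 0 by omega, show pt S S₁ a b z 0 = S₁ from hP0, ← e1] at e
      have := MulAction.injective w e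
      rw [← hP27] at this
      have := hinj (by norm_num) (by omega) this
      omega
    · by_contra hq27
      rw [show q = 27 by omega, show pt S S₁ a b z 27 = S from hP27, ← e2] at e
      have := MulAction.injective w e
      rw [← hP0] at this
      have := hinj (by norm_num) (by omega) this
      omega
  have hact : ∀ {w : T}, w * t * w⁻¹ = t ^ j.val → ∀ {p q : ℕ}, p < 28 → q < 28 → w • P p = P q →
      ∀ n : ℕ, w • P (tpU n p) = P (tpU (j.val * n) q) := by
    intro w hw p q hp hq e n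
    have hwn : w * t ^ n = t ^ (j.val * n) * w := by
      rw [pow_mul, ← hw, conj_pow]; group
    rw [hP, ← (G.t_pow_pt hp n).2, ← mul_smul, hwn, mul_smul, ← hP, e, hP, (G.t_pow_pt hq _).2]
  -- it may be taken to fix the point `1`
  obtain ⟨w, hw, hw', hwt, hw1⟩ : ∃ w : T, w • S = S₁ ∧ w • S₁ = S ∧ w * t * w⁻¹ = t ^ j.val ∧ w • P 1 = P 1 := by
    obtain ⟨q, hq0, hq, e⟩ := himg hw₁ hw₁' (p := 1) (by norm_num) (by norm_num)
    have h2 := hact hj₁ (by norm_num) (by omega) e 2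
    have hfix1 : tpU 2 1 = 1 := ((tp_table 0).2.2 ⟨1, by norm_num⟩).2.1 (by norm_num)
    rw [hfix1, e] at h2
    have hq2 : q ≤ 2 := by
      by_contra hgt
      have e2 := hinj (p := q) (q := tpU (j.val * 2) q) (by omega) (G.t_pow_pt (by omega) _).1 h2
      have hfix2 : tpU 2 q ≠ q := ((tp_table 0).2.2 ⟨q, by omega⟩).2.2 (by simp only; omega) hq
      have e3 : t ^ (j.val * 2) • P q = P q := by
        rw [hP, (G.t_pow_pt (by omega) _).2, ← e2]
      have e4 : t ^ (j.val * (j.val * 2)) • P q = P q := by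
        rw [show j.val * (j.val * 2) = (j.val * 2) * j.val by ring, pow_mul]
        exact MulAction.mem_stabilizer_iff.1 (pow_mem (MulAction.mem_stabilizer_iff.2 e3) _)
      rw [hP, (G.t_pow_pt (by omega) _).2, ← tpU_mod] at e4
      rw [tp_mul j ⟨2, by norm_num⟩ hjodd] at e4
      exact hfix2 (hinj (G.t_pow_pt (by omega) _).1 (by omega) e4)
    rcases (by omega : q = 1 ∨ q = 2) with rfl | rfl
    · exact ⟨w₁, hw₁, hw₁', hj₁, e⟩
    · refine ⟨w₁ * t, by rw [mul_smul, G.tS, hw₁], by rw [mul_smul, G.tS₁, hw₁'], ?_, ?_⟩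
      · rw [← hj₁]; group
      · have h3 := hact hj₁ (by norm_num) (by norm_num) e 1
        rw [mul_one] at h3
        rw [mul_smul, hP, G.t_pt (by norm_num), ← hP, h3]
        have e5 : tpU j 2 = 1 := by
          have key : ∀ j : Fin 8, j.val % 2 = 1 → tpU j 2 = 1 := by decide +kernel
          exact key j hjodd
        rw [e5]
  -- the square
  obtain ⟨m, hm⟩ := G.two_point (w * w) (by rw [mul_smul, hw, hw']) (by rw [mul_smul, hw', hw])
  have hmeven : m.val % 2 = 0 := by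
    by_contra hodd
    have e : (w * w) • P 1 = P 1 := by rw [mul_smul, hw1, hw1]
    rw [hm, hP, (G.t_pow_pt (by norm_num) _).2] at e
    have e2 : tpU m 1 = 2 := ((tp_table m).2.2 ⟨1, by norm_num⟩).1 (by omega) rfl
    rw [e2] at e
    have := hinj (p := 2) (q := 1) (by norm_num) (by norm_num) e
    omega
  -- images of the representatives
  obtain ⟨y1, hy1, hy1', f1⟩ := himg hw hw' (p := rep1) (by norm_num [rep1]) (by norm_num [rep1])
  obtain ⟨y2, hy2, hy2', f2⟩ := himg hw hw' (p := rep2) (by norm_num [rep2]) (by norm_num [rep2])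
  obtain ⟨y3, hy3, hy3', f3⟩ := himg hw hw' (p := rep3) (by norm_num [rep3]) (by norm_num [rep3])
  obtain ⟨-, -, -, -, hrep, horb0⟩ := rep_check
  have hf : ∀ u, 0 < u → u < 27 → fU j y1 y2 y3 u < 28 ∧ w • P u = P (fU j y1 y2 y3 u) := by
    intro u hu0 hu
    have hpick : pick rep1 rep2 rep3 (fld orbC u) < 27 ∧ pick y1 y2 y3 (fld orbC u) < 27 ∧
        w • P (pick rep1 rep2 rep3 (fld orbC u)) = P (pick y1 y2 y3 (fld orbC u)) := by
      have := orb_lt ⟨u, hu⟩
      simp only at this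
      rcases (by omega : fld orbC u = 0 ∨ fld orbC u = 1 ∨ fld orbC u = 2 ∨ fld orbC u = 3) with o | o | o | o <;>
        simp only [pick, o] <;> norm_num
      · exact hw1
      · exact ⟨by norm_num [rep1], hy1', f1⟩
      · exact ⟨by norm_num [rep2], hy2', f2⟩
      · exact ⟨by norm_num [rep3], hy3', f3⟩
    have e := hrep ⟨u, hu⟩ (by simp only; omega)
    simp only at e
    refine ⟨(G.t_pow_pt (by omega) _).1, ?_⟩
    conv_lhs => rw [e]
    exact hact hwt (by omega) (by omega) hpick.2.2 _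
  set W := wU j.val y1 y2 y3 with hW
  have hWp : ∀ p < 28, W p < 28 ∧ w • P p = P (W p) := by
    intro p hp
    simp only [hW, wU]
    split_ifs with e1 e2
    · subst e1; rw [hP27, hw, hP0]; exact ⟨by norm_num, rfl⟩
    · subst e2; rw [hP0, hw', hP27]; exact ⟨by norm_num, rfl⟩
    · exact hf p (by omega) (by omega)
  -- the candidates are in the list
  have hfix : ∀ {q p : ℕ}, 2 < p → p < 27 → 0 < q → q < 27 → w • P p = P q → ¬ q ≤ 2 := by
    intro q p hp hp' hq0 hq e hle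
    have h2 : fU j y1 y2 y3 q < 28 ∧ w • P q = P (fU j y1 y2 y3 q) := hf q hq0 hq
    have hq' : w • P q = P q := by
      have e' := hact hwt (by norm_num) (by norm_num) hw1 1
      rcases (by omega : q = 1 ∨ q = 2) with rfl | rfl
      · exact hw1
      · have e6 : tpU 1 1 = 2 := by decide +kernel
        have key : ∀ j : Fin 8, j.val % 2 = 1 → tpU j 1 = 2 := by decide +kernel
        rw [e6, mul_one, key j hjodd] at e'
        exact e'
    rw [← hq'] at e
    have := hinj (by omega) (by omega) (MulAction.injective w e)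
    omega
  have hys : ∀ {q p : ℕ}, 2 < p → p < 27 → 0 < q → q < 27 → w • P p = P q → q ∈ ys := by
    intro q p hp hp' hq0 hq e
    rw [ys, List.mem_filter]
    refine ⟨List.mem_range.2 hq, ?_⟩
    simp only [Bool.not_eq_true', decide_eq_false_iff_not]
    exact fun h0 => hfix hp hp' hq0 hq e (horb0 ⟨q, hq⟩ h0)
  have hys1 := hys (by norm_num [rep1]) (by norm_num [rep1]) hy1 hy1' f1
  have hys2 := hys (by norm_num [rep2]) (by norm_num [rep2]) hy2 hy2' f2
  have hys3 := hys (by norm_num [rep3]) (by norm_num [rep3]) hy3 hy3' f3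
  -- distinct orbits
  have horb : ∀ {p p' q q' : ℕ}, p < 27 → p' < 27 → 0 < q → q < 27 → 0 < q' → q' < 27 →
      (∀ n : Fin 8, tpU n p ≠ p') → w • P p = P q → w • P p' = P q' → ne12 q q' = true := by
    intro p p' q q' hp hp' hq0 hq hq0' hq' hne e e'
    simp only [ne12, Bool.not_eq_true', beq_eq_false_iff_ne, ne_eq]
    intro ho
    have e1 := hrep ⟨q, hq⟩ (by simp only; omega)
    have e2 := hrep ⟨q', hq'⟩ (by simp only; omega)
    simp only at e1 e2
    rw [← ho] at e2
    have hr' : pick rep1 rep2 rep3 (fld orbC q) < 28 := by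
      unfold pick; split_ifs <;> norm_num [rep1, rep2, rep3]
    generalize pick rep1 rep2 rep3 (fld orbC q) = r at e1 e2 hr' 
    generalize fld expC q = k at e1
    generalize fld expC q' = k' at e2
    -- `q'` is an image of `q` under the automorphism
    have hr : r < 28 := hr'
    obtain ⟨n, hn⟩ : ∃ n : ℕ, tpU n q = q' := by
      refine ⟨k' + 7 * k, hinj (G.t_pow_pt (by omega) _).1 (by omega) ?_⟩
      rw [hP, ← (G.t_pow_pt (by omega) _).2, e1, ← (G.t_pow_pt hr _).2, e2, ← (G.t_pow_pt hr _).2,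
        ← mul_smul, ← pow_add]
      rw [show k' + 7 * k + k = k' + 8 * k by ring, pow_add, pow_mul, ← G.order, pow_orderOf_eq_one,
        one_pow, mul_one]
    have h3 := hact hwt (by omega) (by omega) e (j.val * n)
    have hjn : j.val * (j.val * n) % 8 = n % 8 := by
      have := tp_mul j ⟨n % 8, Nat.mod_lt _ (by norm_num)⟩ hjodd
      simp only at this
      rw [← mul_assoc, Nat.mul_mod, Nat.mod_mod] at this
      rw [← mul_assoc, Nat.mul_mod]
      exact this
    rw [← tpU_mod (j.val * (j.val * n)), hjn, tpU_mod, hn, ← e'] at h3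
    refine hne ⟨j.val * n % 8, Nat.mod_lt _ (by norm_num)⟩ ?_
    simp only
    rw [tpU_mod]
    exact hinj (G.t_pow_pt (by omega) _).1 (by omega) (MulAction.injective w h3)
  have hne12 := horb (by norm_num [rep1]) (by norm_num [rep2]) hy1 hy1' hy2 hy2' (fun n => (tp_orbit n).1) f1 f2
  have hne13 := horb (by norm_num [rep1]) (by norm_num [rep3]) hy1 hy1' hy3 hy3' (fun n => (tp_orbit n).2.1) f1 f3
  have hne23 := horb (by norm_num [rep2]) (by norm_num [rep3]) hy2 hy2' hy3 hy3' (fun n => (tp_orbit n).2.2) f2 f3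
  -- the square condition
  have hsq : ∀ {r q : ℕ}, 0 < r → r < 27 → 0 < q → q < 27 → w • P r = P q →
      sqAt j m y1 y2 y3 r q = true := by
    intro r q hr0 hr hq0 hq e
    simp only [sqAt, beq_iff_eq]
    obtain ⟨h1, h2⟩ := hf q hq0 hq
    refine hinj h1 (G.t_pow_pt (by omega) _).1 ?_
    rw [← h2, ← e, ← mul_smul, hm, hP, (G.t_pow_pt (by omega) _).2]
  have hs1 := hsq (by norm_num [rep1]) (by norm_num [rep1]) hy1 hy1' f1
  have hs2 := hsq (by norm_num [rep2]) (by norm_num [rep2]) hy2 hy2' f2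
  have hs3 := hsq (by norm_num [rep3]) (by norm_num [rep3]) hy3 hy3' f3
  -- the double cosets
  have hcell : cells W = true := by
    simp only [cells, List.all_eq_true, List.mem_range, Bool.or_eq_true, beq_iff_eq]
    intro u hu
    by_cases hu0 : u = 0
    · exact Or.inl hu0
    refine Or.inr ?_
    set g : ℕ → ℕ := fun p => W (lU u (W p)) with hg
    have hgP : ∀ p < 28, g p < 28 ∧ (w * nf a b z u * w) • P p = P (g p) := by
      intro p hp
      obtain ⟨h1, e1⟩ := hWp p hp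
      obtain ⟨h2, e2⟩ := G.smul_pt hu h1
      obtain ⟨h3, e3⟩ := hWp _ h2
      exact ⟨h3, by rw [mul_smul, mul_smul, e1, hP, e2, ← hP, e3]⟩
    have hg27 : 0 < g 27 ∧ g 27 < 27 := by
      obtain ⟨q, hq0, hq, e⟩ := himg hw hw' (p := u) (by omega) hu
      obtain ⟨h1, e1⟩ := hgP 27 (by norm_num)
      have : g 27 = q := hinj h1 (by omega) (by
        rw [← e1, ← e, hP27, mul_smul, mul_smul, hw]
        simp [hP, pt, show u ≠ 27 by omega])
      omega
    obtain ⟨hg27l, hg27P⟩ := hgP 27 (by norm_num)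
    have hstab : ((nf a b z (g 27) * w)⁻¹ * (w * nf a b z u * w)) • S = S := by
      rw [mul_smul, inv_smul_eq_iff, ← hP27, hg27P, hP27, mul_smul, hw]
      simp [hP, pt, show g 27 ≠ 27 by omega]
    obtain ⟨x, hx, n, hxn⟩ := G.stab h hc hS₁ hstab
    have hfac : ∀ p : ℕ, p < 28 → g p = lU (g 27) (W (lU x (tpU n p))) := by
      intro p hp
      obtain ⟨h1, e1⟩ := hgP p hp
      obtain ⟨h2, e2⟩ := G.t_pow_pt hp n.val
      obtain ⟨h3, e3⟩ := G.smul_pt hx h2
      obtain ⟨h4, e4⟩ := hWp _ h3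
      obtain ⟨h5, e5⟩ := G.smul_pt hg27.2 h4
      refine hinj h1 h5 ?_
      rw [← e1, show w * nf a b z u * w = (nf a b z (g 27) * w) * (nf a b z x * t ^ n.val) by
        rw [← hxn, mul_inv_cancel_left], mul_smul, mul_smul, mul_smul, hP, e2, e3, ← hP, e4, hP, e5]
    simp only [cellAt, List.any_eq_true, List.all_eq_true, List.mem_range, Bool.and_eq_true, beq_iff_eq]
    refine ⟨x, hx, ?_, n, n.2, hfac⟩
    have e0 := hfac 0 (by norm_num)
    rw [(tp_table n).1] at e0
    have hlx : lU x 0 = x := by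
      simp only [lU, show (0 : ℕ) ≠ 27 by norm_num, if_false]
      exact (tp_one ⟨x, hx⟩).2.1
    rw [hlx] at e0
    exact e0.symm
  -- the search
  have hsearch : searchAt j m = true := search_all _ _ (by omega) (by omega)
  rw [searchAt, List.all_eq_true] at hsearch
  have h4 := hsearch y1 hys1
  have hnot1 : ¬ (fld orbC y1 ≤ 1 ∧ sqAt j m y1 0 0 rep1 y1 = false) := by
    rintro ⟨ho, hs⟩
    rw [sqAt, fU_tail _ _ y2 y3 _ ho, ← sqAt.eq_def j.val m.val y1 y2 y3 rep1 y1, hs1] at hs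
    exact Bool.noConfusion hs
  simp only [Bool.or_eq_true, Bool.and_eq_true, decide_eq_true_eq, Bool.not_eq_true', List.all_eq_true] at h4
  have h6 := (h4.resolve_left hnot1) y2 hys2
  have hnot2 : ¬ (fld orbC y1 ≤ 2 ∧ sqAt j m y1 y2 0 rep1 y1 = false) := by
    rintro ⟨ho, hs⟩
    rw [sqAt, fU_tail' _ _ _ y3 _ ho, ← sqAt.eq_def j.val m.val y1 y2 y3 rep1 y1, hs1] at hs
    exact Bool.noConfusion hs
  have hnot3 : ¬ (fld orbC y2 ≤ 2 ∧ sqAt j m y1 y2 0 rep2 y2 = false) := by
    rintro ⟨ho, hs⟩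
    rw [sqAt, fU_tail' _ _ _ y3 _ ho, ← sqAt.eq_def j.val m.val y1 y2 y3 rep2 y2, hs2] at hs
    exact Bool.noConfusion hs
  rcases h6 with ((h6 | h6) | h6) | h6
  · rw [hne12] at h6; exact absurd h6 (by simp)
  · exact absurd h6 hnot2
  · exact absurd h6 hnot3
  have h7 := h6 y3 hys3
  rw [hne13, hne23, hs1, hs2, hs3, ← hW, hcell] at h7
  simp only [Bool.true_eq_false, false_or] at h7
  simp only [isFound, List.any_eq_true, List.all_eq_true, List.mem_range, beq_iff_eq] at h7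
  obtain ⟨k, hk, hW0⟩ := h7
  exact ⟨w, ⟨k, hk⟩, hw, fun p hp => by rw [(hWp p hp).2, hW0 p hp]⟩

/-- a simple group of order `6048` with the given spectrum is the tabulated group -/
theorem exists_coords : ∃ e : Sylow 3 T ≃ Fin 28,
    ((e.permCongrHom).toMonoidHom.comp (MulAction.toPermHom T (Sylow 3 T))).range = model ∧
      ∀ g ∈ model, g ⟨27, by norm_num⟩ = ⟨27, by norm_num⟩ →
        ∃ u < 27, ∃ m : Fin 8, ∀ p : Fin 28, ((g p : Fin 28) : ℕ) = lU u (tpU m p) := by
  haveI : Fact (Nat.Prime 3) := ⟨Nat.prime_three⟩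
  obtain ⟨S⟩ := (inferInstance : Nonempty (Sylow 3 T))
  obtain ⟨S₁, a, b, z, t, hS₁, G⟩ := exists_gens h hc S
  obtain ⟨w, k, hw, hwp⟩ := G.exists_swap h hc hS₁
  let f : Fin 28 → Sylow 3 T := fun p => pt S S₁ a b z p
  have hbij : Function.Bijective f := ⟨fun p q e => Fin.ext (G.pt_inj h hc hS₁ p.2 q.2 e), fun R => by
    obtain ⟨p, hp, e⟩ := G.pt_surj h hc hS₁ R
    exact ⟨⟨p, hp⟩, e⟩⟩
  set e := (Equiv.ofBijective f hbij).symm with he
  refine ⟨e, ?_⟩
  suffices hrange : ((e.permCongrHom).toMonoidHom.comp (MulAction.toPermHom T (Sylow 3 T))).range = model by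
    refine ⟨hrange, fun g hg h27 => ?_⟩
    rw [← hrange] at hg
    obtain ⟨g₀, rfl⟩ := hg
    have hS : g₀ • S = S := by
      have : e (g₀ • e.symm ⟨27, by norm_num⟩) = ⟨27, by norm_num⟩ := h27
      rw [e.apply_eq_iff_eq_symm_apply] at this
      simpa [he, f, pt] using this
    obtain ⟨u, hu, m, rfl⟩ := G.stab h hc hS₁ hS
    refine ⟨u, hu, m, fun p => ?_⟩
    obtain ⟨h1, e1⟩ := G.t_pow_pt p.2 m.val
    obtain ⟨h2, e2⟩ := G.smul_pt hu h1
    have : e ((nf a b z u * t ^ m.val) • e.symm p) = ⟨_, h2⟩ := by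
      rw [e.apply_eq_iff_eq_symm_apply]
      show (nf a b z u * t ^ m.val) • pt S S₁ a b z p = pt S S₁ a b z (lU u (tpU m p))
      rw [mul_smul, e1, e2]
    exact congrArg Fin.val this
  set φ := (e.permCongrHom).toMonoidHom.comp (MulAction.toPermHom T (Sylow 3 T)) with hφ
  have hkey : ∀ (g : T) (p q : Fin 28), g • f p = f q → φ g p = q := by
    intro g p q hpq
    show e (g • e.symm p) = q
    rw [e.apply_eq_iff_eq_symm_apply]
    exact hpq
  have ha : φ a = laP := Equiv.ext fun p => hkey _ _ _ (by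
    show a • pt S S₁ a b z p = pt S S₁ a b z (laP p : ℕ)
    rw [laP, tablePerm_apply, ← (G.smul_pt (u := 9) (by norm_num) p.2).2]
    simp [nf])
  have hb : φ b = lbP := Equiv.ext fun p => hkey _ _ _ (by
    show b • pt S S₁ a b z p = pt S S₁ a b z (lbP p : ℕ)
    rw [lbP, tablePerm_apply, ← (G.smul_pt (u := 3) (by norm_num) p.2).2]
    simp [nf])
  have ht : φ t = tP := Equiv.ext fun p => hkey _ _ _ (by
    show t • pt S S₁ a b z p = pt S S₁ a b z (tP p : ℕ)
    rw [tP, tablePerm_apply, G.t_pt p.2])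
  have hwk : φ (w * (t ^ k.val)⁻¹) = w0P := Equiv.ext fun p => hkey _ _ _ (by
    show (w * (t ^ k.val)⁻¹) • pt S S₁ a b z p = pt S S₁ a b z (w0P p : ℕ)
    obtain ⟨q, hq, eq⟩ := G.pt_surj h hc hS₁ ((t ^ k.val)⁻¹ • pt S S₁ a b z p)
    obtain ⟨h1, e1⟩ := G.t_pow_pt hq k.val
    have : tpU k q = (p : ℕ) := G.pt_inj h hc hS₁ h1 p.2 (by rw [← e1, eq, smul_inv_smul])
    rw [mul_smul, ← eq, hwp q hq, w0P, tablePerm_apply, this])
  have htop : (⊤ : Subgroup T) = closure {a, b, t, w * (t ^ k.val)⁻¹} := by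
    set L := closure {a, b, t, w * (t ^ k.val)⁻¹}
    have hLa : a ∈ L := subset_closure (by simp)
    have hLb : b ∈ L := subset_closure (by simp)
    have hLt : t ∈ L := subset_closure (by simp)
    have hLw : w ∈ L := by
      have := mul_mem (subset_closure (show w * (t ^ k.val)⁻¹ ∈ ({a, b, t, w * (t ^ k.val)⁻¹} : Set T) by simp))
        (pow_mem hLt k.val)
      rwa [inv_mul_cancel_right] at this
    have hz : z ∈ L := by
      have : z = a * b * a⁻¹ * b⁻¹ := by rw [G.heis.ab]; group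
      rw [this]
      exact mul_mem (mul_mem (mul_mem hLa hLb) (inv_mem hLa)) (inv_mem hLb)
    have hnf : ∀ n, nf a b z n ∈ L := fun n =>
      mul_mem (mul_mem (pow_mem hLa _) (pow_mem hLb _)) (pow_mem hz _)
    have hH : ∀ g : T, g • S = S → g ∈ L := fun g hg => by
      obtain ⟨u, -, m, rfl⟩ := G.stab h hc hS₁ hg
      exact mul_mem (hnf u) (pow_mem hLt _)
    refine (eq_top_iff.2 fun g _ => ?_).symm
    obtain ⟨p, hp, e⟩ := G.pt_surj h hc hS₁ (g • S)
    by_cases h27 : p = 27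
    · exact hH g (by rw [← e, h27]; simp [pt])
    · simp only [pt, if_neg h27] at e
      have : ((nf a b z p * w)⁻¹ * g) • S = S := by
        rw [mul_smul, ← e, inv_smul_eq_iff, mul_smul, hw]
      have := mul_mem (mul_mem (hnf p) hLw) (hH _ this)
      rwa [mul_inv_cancel_left] at this
  rw [MonoidHom.range_eq_map, htop, MonoidHom.map_closure, model]
  simp only [Set.image_insert_eq, Set.image_singleton, ha, hb, ht, hwk]

end CfsgLib.Recog.G2Spectrum
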