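import Mathlib.Data.List.Range
import Mathlib.Logic.Basic

/-!
Owner: helper14. Tables for the two-transitive action of degree 28 with stabiliser `3^(1+2):8`.
The point `n < 27` is the element `a^i b^j z^k` with `n = 9 i + 3 j + k`; the point `27` is the fixed one.
-/

set_option autoImplicit false

namespace CfsgLib.Recog.G2Spectrum

/-- field `p` of a packed table -/
def fld (c p : ℕ) : ℕ := (c >>> (5 * p)) &&& 31

/-- multiplication table -/
def mulC : ℕ := 0xc7352b53e30290620810735ab79ca99c69cd62d498c1e41942011cc8aded2a4f1acb58e525707c46520041320f7b569396b385a93183dcd60041320e329272a671ab56ea4ae0f8b58e10408398a41ca93c6b35bd92b53e30639a1008e641065a4e5ace2f6ac1f16b1ca4ace64106508059c6ad5bce547c60c7352b51907194801071acd6f69527183dcd62d4941cc520c4106b38bdab49c86520041320f7b569396b386b1ca4ae0f894831040839ad5bce54ce34c7352b53e3020ca1008e6456f695278d65cd62d498c1e2081073148395278d66b7b292b83e2d6382011cc820cb49cb59c5ed54ad4f8c18e68041320e329272a671ab56eb526307b9ac39904194201671ab56f39520f8b58e5256641c6520041c6b35bda549be30639a95a907314831041ace2f6ad2728c1ee6b16a4d6f695278d65cd62d498c1e41942011cc8bdab49cb59c358e525707c46520041320f6ade72a671a639a95a9f1814831040839a9396b38bdaa95a9f1831cd08047320832ce54ce356add6a4c60f73580104c838ca495278d66b7b292b83e2d63841020e629079c6ad5bce5483e2d6394959cc820ca100b1acd6f69526f8c18e6a56a320e3290020eb38bdab49ca307b9ac5a928398a418820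

/-- the product of two elements -/
def mulU (x y : ℕ) : ℕ := fld mulC (27 * x + y)

/-- powers of the automorphism of order eight -/
def tpC : ℕ := 0xda0c7ceb0f845ae61464adaf3a494b48440dce54320ec734652292bc6b307c6d5b8820dc22f94e8428d2a5daf53a0ce63758c8440db9ac8c1eb526f6aeb38a4e4520d0730820d94646b995b5f3ac20c77c22a5a67490440da92b19498d64c83ce54639b6ade0f88820ddaf54a96741a53a422f2147ac65cc68440deb38bdab49ca307b9ac5a928398a418820

/-- the `n`th power of the automorphism at a point -/
def tpU (n p : ℕ) : ℕ := fld tpC (28 * (n % 8) + p)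

/-- left translation at a point -/
def lU (u p : ℕ) : ℕ := if p = 27 then 27 else mulU u p

/-- orbit of a nonidentity element -/
def orbC : ℕ := 0xc2208c421842310c2210c231046208000

/-- position in the orbit -/
def expC : ℕ := 0x14a5318c318c421042139ce42100000400

/-- representative images -/
def pick (y1 y2 y3 o : ℕ) : ℕ :=
  if o = 0 then 1 else if o = 1 then y1 else if o = 2 then y2 else y3

/-- the candidate map on group elements -/
def fU (j y1 y2 y3 u : ℕ) : ℕ := tpU (j * fld expC u) (pick y1 y2 y3 (fld orbC u))

/-- the candidate permutation -/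
def wU (j y1 y2 y3 p : ℕ) : ℕ := if p = 27 then 0 else if p = 0 then 27 else fU j y1 y2 y3 p

/-- the permutation found -/
def w0C : ℕ := 0x3073cd4ae5ddaf460cad5227b48904883b

/-- the three orbit representatives -/
def rep1 : ℕ := 3
/-- the second representative -/
def rep2 : ℕ := 4
/-- the third representative -/
def rep3 : ℕ := 5

/-- possible images of the representatives -/
def ys : List ℕ := (List.range 27).filter fun y => !(decide (fld orbC y = 0))

/-- orbits distinct -/
def ne12 (y1 y2 : ℕ) : Bool := !(fld orbC y1 == fld orbC y2)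

/-- the square lies in the two point stabiliser, at a representative -/
def sqAt (j m y1 y2 y3 r y : ℕ) : Bool := fU j y1 y2 y3 y == tpU m r

/-- the double coset condition at `u` -/
def cellAt (w : ℕ → ℕ) (u : ℕ) : Bool :=
  let g := fun p => w (lU u (w p))
  (List.range 27).any fun x => (lU (g 27) (w x) == g 0) &&
    (List.range 8).any fun m => (List.range 28).all fun p => g p == lU (g 27) (w (lU x (tpU m p)))

/-- all double coset conditions -/
def cells (w : ℕ → ℕ) : Bool := (List.range 27).all fun u => u == 0 || cellAt w u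

/-- the candidate is the permutation found, up to the two point stabiliser -/
def isFound (w : ℕ → ℕ) : Bool :=
  (List.range 8).any fun k => (List.range 28).all fun p => w p == fld w0C (tpU k p)

/-- the enumeration for one exponent -/
def searchAt (j m : ℕ) : Bool :=
  ys.all fun y1 =>
    (decide (fld orbC y1 ≤ 1) && !(sqAt j m y1 0 0 rep1 y1)) ||
    ys.all fun y2 => !(ne12 y1 y2) ||
      (decide (fld orbC y1 ≤ 2) && !(sqAt j m y1 y2 0 rep1 y1)) ||
      (decide (fld orbC y2 ≤ 2) && !(sqAt j m y1 y2 0 rep2 y2)) ||
      ys.all fun y3 => !(ne12 y1 y3) || !(ne12 y2 y3) ||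
        !(sqAt j m y1 y2 y3 rep1 y1) || !(sqAt j m y1 y2 y3 rep2 y2) || !(sqAt j m y1 y2 y3 rep3 y3) ||
        !(cells (wU j y1 y2 y3)) || isFound (wU j y1 y2 y3)

end CfsgLib.Recog.G2Spectrum
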