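import Cfsg.Agent.Lib.Perm.FewSylowFrame
import Mathlib.Tactic

/-!
Owner: helper14. Sylow subgroups of order seven in groups with no elements of order 9, 14 or 21.
-/

set_option autoImplicit false

namespace CfsgLib.Recog.G2Spectrum

theorem dvd_of_eq_of_dvd {a b c : ℕ} (h : a = b) (h' : b ∣ c) : a ∣ c := h ▸ h'

open Subgroup

/-- no elements of order 9, 14, 21 -/
def NoBad (G : Type*) [Group G] : Prop :=
  ∀ g : G, orderOf g ≠ 9 ∧ orderOf g ≠ 14 ∧ orderOf g ≠ 21

variable {G : Type*} [Group G] [Finite G]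

omit [Finite G] in
theorem NoBad.of_injective {H : Type*} [Group H] (h : NoBad G) (f : H →* G)
    (hf : Function.Injective f) : NoBad H := fun x => by
  rw [← orderOf_injective f hf x]; exact h (f x)

theorem NoBad.not_seven_dvd_centralizer (h : NoBad G) {g : G}
    (hg : orderOf g = 2 ∨ orderOf g = 3) : ¬ 7 ∣ Nat.card (centralizer ({g} : Set G)) := by
  intro hd
  haveI : Fact (Nat.Prime 7) := ⟨by norm_num⟩
  obtain ⟨x, hx⟩ := exists_prime_orderOf_dvd_card' (G := centralizer ({g} : Set G)) 7 hd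
  have hx' : orderOf (x : G) = 7 := by rw [Subgroup.orderOf_coe, hx]
  have hc : Commute (x : G) g := mem_centralizer_singleton_iff.1 x.2
  have hcop : (orderOf (x : G)).Coprime (orderOf g) := by
    rcases hg with e | e <;> rw [hx', e] <;> norm_num
  have := hc.orderOf_mul_eq_mul_orderOf_of_coprime hcop
  rcases hg with e | e <;> rw [hx', e] at this
  · exact (h _).2.1 this
  · exact (h _).2.2 this

theorem NoBad.pow_three (h : NoBad G) {S : Subgroup G} (hS : Nat.card S = 27) {g : G} (hg : g ∈ S) :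
    g ^ 3 = 1 := by
  have h1 : orderOf g ∣ 3 ^ 3 := by
    have := Subgroup.orderOf_dvd_natCard S hg
    rwa [hS] at this
  obtain ⟨k, hk, hk'⟩ := (Nat.dvd_prime_pow Nat.prime_three).1 h1
  rcases k with _ | _ | k
  · rw [pow_zero, orderOf_eq_one_iff] at hk'; simp [hk']
  · rw [zero_add, pow_one] at hk'
    rw [← hk', pow_orderOf_eq_one]
  · exfalso
    obtain ⟨c, hc⟩ : 9 ∣ orderOf g := by
      rw [hk', pow_succ, pow_succ, mul_assoc]; exact Dvd.intro_left _ rfl
    have hpos := orderOf_pos g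
    refine (h (g ^ c)).1 ?_
    have hc0 : c ≠ 0 := by rintro rfl; omega
    rw [orderOf_pow_of_dvd hc0 ⟨9, by rw [hc, mul_comm]⟩, hc,
      Nat.mul_div_cancel _ (Nat.pos_of_ne_zero hc0)]

theorem NoBad.centralizer_sylow_seven (h : NoBad G) {m : ℕ} (hG : Nat.card G = 7 * m)
    (hm : m ∣ 1728) (P : Sylow 7 G) (hP : Nat.card (P : Subgroup G) = 7) :
    centralizer ((P : Subgroup G) : Set G) = (P : Subgroup G) := by
  haveI : Fact (Nat.Prime 7) := ⟨by norm_num⟩
  haveI : IsCyclic (P : Subgroup G) := isCyclic_of_prime_card hP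
  have hle : (P : Subgroup G) ≤ centralizer ((P : Subgroup G) : Set G) := fun x hx => by
    rw [mem_centralizer_iff]
    exact fun y hy => congrArg Subtype.val
      ((IsCyclic.commGroup (α := (P : Subgroup G))).mul_comm ⟨y, hy⟩ ⟨x, hx⟩)
  refine (eq_of_le_of_card_ge hle ?_).symm
  rw [hP]
  obtain ⟨c, hc⟩ : 7 ∣ Nat.card (centralizer ((P : Subgroup G) : Set G)) := by
    have := Subgroup.card_dvd_of_le hle; rwa [hP] at this
  have hd : c ∣ m := by
    have := Subgroup.card_subgroup_dvd_card (centralizer ((P : Subgroup G) : Set G))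
    rw [hc, hG] at this
    exact (Nat.mul_dvd_mul_iff_left (by norm_num)).1 this
  have key : ∀ r, r.Prime → (r = 2 ∨ r = 3) → ¬ r ∣ c := by
    intro r hr hr23 hrc
    haveI : Fact r.Prime := ⟨hr⟩
    obtain ⟨g, hg⟩ := exists_prime_orderOf_dvd_card' (G := centralizer ((P : Subgroup G) : Set G)) r
      (hc ▸ hrc.mul_left 7)
    have hg' : orderOf (g : G) = r := by rw [Subgroup.orderOf_coe, hg]
    have hgr : orderOf (g : G) = 2 ∨ orderOf (g : G) = 3 := by rcases hr23 with e | e <;> simp [hg', e]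
    refine h.not_seven_dvd_centralizer hgr (dvd_of_eq_of_dvd hP.symm ?_)
    refine Subgroup.card_dvd_of_le ?_
    intro x hx
    exact mem_centralizer_singleton_iff.2 ((mem_centralizer_iff.1 g.2) x hx)
  have hc1 : c = 1 := by
    by_contra hne
    obtain ⟨r, hr, hrc⟩ := Nat.exists_prime_and_dvd hne
    have h1728 : r ∣ 2 ^ 6 * 3 ^ 3 := (hrc.trans hd).trans hm
    rcases (Nat.Prime.dvd_mul hr).1 h1728 with e | e
    · exact key r hr (Or.inl ((Nat.prime_dvd_prime_iff_eq hr Nat.prime_two).1 (hr.dvd_of_dvd_pow e))) hrc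
    · exact key r hr (Or.inr ((Nat.prime_dvd_prime_iff_eq hr Nat.prime_three).1 (hr.dvd_of_dvd_pow e))) hrc
  omega

/-- The automiser of a Sylow subgroup of order seven. -/
theorem card_normalizer_seven {m : ℕ} (hG : Nat.card G = 7 * m) (P : Sylow 7 G)
    (hP : Nat.card (P : Subgroup G) = 7)
    (hC : centralizer ((P : Subgroup G) : Set G) = (P : Subgroup G)) :
    ∃ k, k ∣ 6 ∧ k ∣ m ∧ k % 7 = m % 7 ∧
      Nat.card (normalizer ((P : Subgroup G) : Set G)) = 7 * k ∧
      7 * k * Nat.card (Sylow 7 G) = 7 * m := by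
  haveI : Fact (Nat.Prime 7) := ⟨by norm_num⟩
  haveI : IsCyclic (P : Subgroup G) := isCyclic_of_prime_card hP
  set N := normalizer ((P : Subgroup G) : Set G) with hN
  let φ := (P : Subgroup G).normalizerMonoidHom
  have hker : φ.ker = (P : Subgroup G).subgroupOf N := by rw [normalizerMonoidHom_ker, hC]
  have hcard : Nat.card N = 7 * Nat.card φ.range := by
    rw [← φ.ker.index_mul_card, Subgroup.index_ker, hker,
      Nat.card_congr (subgroupOfEquivOfLe (Subgroup.le_normalizer (H := (P : Subgroup G)))).toEquiv, hP,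
      mul_comm]
  have h6 : Nat.card φ.range ∣ 6 := by
    have := Subgroup.card_subgroup_dvd_card φ.range
    rwa [IsCyclic.card_mulAut, hP, Nat.totient_prime (by norm_num)] at this
  have hn : 7 * Nat.card φ.range * Nat.card (Sylow 7 G) = 7 * m := by
    rw [← hcard, ← hG, hN, CfsgLib.Perm.card_normalizer_mul_card_sylow P]
  have hm' : Nat.card φ.range * Nat.card (Sylow 7 G) = m :=
    Nat.eq_of_mul_eq_mul_left (by norm_num : 0 < 7) (by rw [← mul_assoc, hn])
  have hs : Nat.card (Sylow 7 G) % 7 = 1 := card_sylow_modEq_one 7 G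
  refine ⟨Nat.card φ.range, h6, Dvd.intro _ hm', ?_, hcard, hn⟩
  rw [← hm', Nat.mul_mod, hs, mul_one, Nat.mod_mod]

end CfsgLib.Recog.G2Spectrum
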