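import Cfsg.Agent.Lib.Recog.G2Spectrum.Block
import Cfsg.Agent.Lib.Recog.G2Spectrum.Seven
import Cfsg.Agent.Lib.Perm.SimpleCount
import Cfsg.Agent.Lib.Perm.ThreePrimeOrder.PrincipalValue
import Mathlib.Tactic

/-!
Owner: helper14. A simple group of order `6048` without elements of order 9, 14 or 21: the character
values at elements of order three used to locate the Sylow 3-subgroups.
-/

set_option autoImplicit false

namespace CfsgLib.Recog.G2Spectrum

open Cfsg CfsgLib.Char Subgroup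
open scoped ComplexConjugate Classical commutatorElement

/-- the group to be identified with `U₃(3)` -/
structure Hyp48 (T : Type*) [Group T] : Prop where
  simple : IsSimpleGroup T
  card : Nat.card T = 6048
  nobad : NoBad T

/-- what is used of the characters of degree 6 and 32 -/
structure Chars (T : Type*) [Group T] [Fintype T] (χ θ : IrrCharacter T) : Prop where
  deg : (χ : T → ℂ) 1 = 6
  three : ∀ g : T, orderOf g = 3 → (χ : T → ℂ) g = 0 ∨ (χ : T → ℂ) g = -3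
  no_involution : ∀ g t : T, orderOf g = 3 → (χ : T → ℂ) g = 0 → orderOf t = 2 → ¬ Commute g t
  index_dvd : ∀ z : T, orderOf z = 3 → (χ : T → ℂ) z = -3 →
    8 ∣ (centralizer ({z} : Set T)).index ∧ 42 ≤ Nat.card (centralizer ({z} : Set T)) ∧
      (¬ IsConj z z⁻¹ → 84 ≤ Nat.card (centralizer ({z} : Set T)))

/-- signed degrees -/
def signedDegs : List ℤ := [-6, 8, -27, 36, -48]

theorem degree_pairs : ∀ d₁ ∈ signedDegs, ∀ d₂ ∈ signedDegs, ∀ s ∈ ([1, -1] : List ℤ),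
    (0 < s * (1 + d₁ + d₂) ∧ (7 : ℤ) ∣ s * (1 + d₁ + d₂) - 3 * s ∧
      (s * (1 + d₁ + d₂)).natAbs ∈ (List.range 78).filter fun y => decide (y ∣ 6048)) →
    ((d₁, d₂) ∈ [((-6 : ℤ), (8 : ℤ)), (8, -6)] ∧ s = 1) ∨
    ((d₁, d₂) ∈ [((8 : ℤ), (-27 : ℤ)), (-27, 8)] ∧ s = -1) ∨
    ((d₁, d₂) ∈ [((-6 : ℤ), (-27 : ℤ)), (-27, -6)] ∧ s = -1) := by decide +kernel

theorem degree_list : ∀ y : Fin 78, y.val ≠ 1 → y.val ∣ 6048 →
    (y.val % 7 = 1 → (y.val : ℤ) ∈ signedDegs) ∧ (y.val % 7 = 6 → -(y.val : ℤ) ∈ signedDegs) := by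
  decide +kernel

variable {T : Type*} [Group T] [Fintype T]

theorem not_seven_dvd_of_pow {g : T} {m : ℕ} (hm : ¬ 7 ∣ m) (hg : g ^ m = 1) : ¬ 7 ∣ orderOf g :=
  fun h => hm (h.trans (orderOf_dvd_of_pow_eq_one hg))

theorem eq_one_of_apply_eq [IsSimpleGroup T] {χ : IrrCharacter T} {n : ℕ}
    (hn : charDegree (χ : T → ℂ) = n) (h1 : n ≠ 1) {g : T}
    (hg : (χ : T → ℂ) g = (χ : T → ℂ) 1) : g = 1 := by
  haveI := CfsgLib.CharDegree.kerSubgroup_normal χ
  rcases (inferInstance : (CfsgLib.CharDegree.kerSubgroup χ).Normal).eq_bot_or_eq_top with h | h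
  · exact CfsgLib.CharDegree.kerSubgroup_eq_bot_iff.1 h g hg
  · exfalso
    have hc : ∀ y : T, (χ : T → ℂ) y = (χ : T → ℂ) 1 := fun y =>
      CfsgLib.CharDegree.mem_kerSubgroup.1 (h ▸ mem_top y)
    haveI := Fintype.ofFinite (IrrCharacter T)
    have h2 := classInner_irr χ χ
    rw [if_pos rfl, Cfsg.classInner, Finset.sum_congr rfl (fun y _ => by rw [hc y]), Finset.sum_const,
      Finset.card_univ, nsmul_eq_mul, ← Nat.card_eq_fintype_card, ← mul_assoc,
      inv_mul_cancel₀ (Nat.cast_ne_zero.2 Nat.card_pos.ne'), one_mul,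
      ← CfsgLib.CharDegree.cast_irrDegree, hn, map_natCast] at h2
    have h3 : n * n = 1 := by exact_mod_cast h2
    exact h1 (Nat.eq_one_of_mul_eq_one_right h3)

/-- the block for a simple group of order `6048` with given signs and degrees -/
structure Trio (x : T) (χ₁ χ₂ θ θ' : IrrCharacter T) (s₁ s₂ ε : ℤ) (f₁ f₂ y : ℕ) : Prop where
  deg₁ : charDegree (χ₁ : T → ℂ) = f₁
  deg₂ : charDegree (χ₂ : T → ℂ) = f₂
  degY : charDegree (θ : T → ℂ) = y
  real₁ : f₁ ≠ f₂ → f₁ ≠ y → f₁ ≠ 1 → ∀ g, conj ((χ₁ : T → ℂ) g) = (χ₁ : T → ℂ) g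
  real₂ : f₂ ≠ f₁ → f₂ ≠ y → f₂ ≠ 1 → ∀ g, conj ((χ₂ : T → ℂ) g) = (χ₂ : T → ℂ) g
  rel : ∀ g : T, ¬ 7 ∣ orderOf g →
    (ε : ℂ) * (θ : T → ℂ) g = 1 + (s₁ : ℂ) * (χ₁ : T → ℂ) g + (s₂ : ℂ) * (χ₂ : T → ℂ) g
  sum3 : ∀ g : T, ¬ 7 ∣ orderOf g →
    0 ≤ (1 + (s₁ : ℂ) * ((χ₁ : T → ℂ) g * (χ₁ : T → ℂ) g / (f₁ : ℂ)) +
      (s₂ : ℂ) * ((χ₂ : T → ℂ) g * (χ₂ : T → ℂ) g / (f₂ : ℂ)) -
      (ε : ℂ) * ((θ : T → ℂ) g * (θ : T → ℂ) g / (y : ℂ))).re
  inv0 : ∀ u : T, u * u = 1 →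
    1 + (s₁ : ℂ) * ((χ₁ : T → ℂ) u * (χ₁ : T → ℂ) u / (f₁ : ℂ)) +
      (s₂ : ℂ) * ((χ₂ : T → ℂ) u * (χ₂ : T → ℂ) u / (f₂ : ℂ)) -
      (ε : ℂ) * ((θ : T → ℂ) u * (θ : T → ℂ) u / (y : ℂ)) = 0
  agree : ∀ g : T, ¬ 7 ∣ orderOf g → (θ' : T → ℂ) g = (θ : T → ℂ) g
  distinct : χ₁ ≠ trivChar T ∧ θ ≠ trivChar T ∧ θ' ≠ trivChar T ∧ χ₁ ≠ θ ∧ χ₁ ≠ θ' ∧ θ ≠ θ'

theorem regular_three {g : T} (hg : orderOf g = 3) : ¬ 7 ∣ orderOf g := by rw [hg]; norm_num

theorem regular_one : ¬ 7 ∣ orderOf (1 : T) := by rw [orderOf_one]; norm_num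

theorem apply_one_eq {χ : IrrCharacter T} {n : ℕ} (h : charDegree (χ : T → ℂ) = n) :
    (χ : T → ℂ) 1 = n := by
  rw [← CfsgLib.CharDegree.cast_irrDegree, h]

/-- degrees `6, 8, 3` do not occur -/
theorem not_trio_three (h : Hyp48 T) {x : T} {χ₁ χ₂ θ θ' : IrrCharacter T}
    (R : Trio x χ₁ χ₂ θ θ' (-1) 1 1 6 8 3) : False := by
  haveI := h.simple
  haveI : Fact (Nat.Prime 3) := ⟨by norm_num⟩
  obtain ⟨S⟩ := (inferInstance : Nonempty (Sylow 3 T))
  have hS : Nat.card (S : Subgroup T) = 3 ^ 3 :=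
    CfsgLib.Perm.sylow_card_eq S (m := 224) (by rw [h.card]; norm_num) (by norm_num)
  obtain ⟨d, hd⟩ := CfsgLib.Perm.CharAverage.exists_sum_eq (S : Subgroup T) (IsIrr.isCharacter θ.2)
  have hval : ∀ g : (S : Subgroup T), (θ : T → ℂ) g = if g = 1 then 3 else 0 := by
    intro g
    by_cases hg : g = 1
    · rw [if_pos hg, hg, OneMemClass.coe_one, apply_one_eq R.degY]; rfl
    · rw [if_neg hg]
      have hg1 : (g : T) ≠ 1 := fun e => hg (Subtype.ext e)
      have h3 : (g : T) ^ 3 = 1 := h.nobad.pow_three (by rw [hS]; norm_num) g.2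
      have ho : orderOf (g : T) = 3 := orderOf_eq_prime h3 hg1
      have e := R.rel g (regular_three ho)
      push_cast at e
      obtain ⟨k₁, hk₁, -⟩ := value_three χ₁ h3 (R.real₁ (by norm_num) (by norm_num) (by norm_num) _)
      obtain ⟨k₂, hk₂, -⟩ := value_three χ₂ h3 (R.real₂ (by norm_num) (by norm_num) (by norm_num) _)
      rw [hk₁, hk₂, one_mul, one_mul] at e
      have hθ : conj ((θ : T → ℂ) g) = (θ : T → ℂ) g := by
        rw [e]; simp only [map_add, map_mul, map_neg, map_one, map_intCast]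
      obtain ⟨k, hk, hkle⟩ := value_three θ h3 hθ
      rw [R.degY] at hk hkle
      have : k = 0 ∨ k = 1 := by omega
      rcases this with rfl | rfl
      · refine absurd (eq_one_of_apply_eq R.degY (by norm_num) ?_) hg1
        rw [hk, apply_one_eq R.degY]; norm_num
      · rw [hk]; norm_num
  simp only [hval, Finset.sum_ite_eq', Finset.mem_univ, if_true, hS] at hd
  have : (3 : ℕ) = 3 ^ 3 * d := by exact_mod_cast hd
  omega

/-- degrees `8, 27, 18` do not occur -/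
theorem not_trio_eighteen (h : Hyp48 T) {x : T} {χ₁ χ₂ θ θ' : IrrCharacter T}
    (R : Trio x χ₁ χ₂ θ θ' 1 (-1) (-1) 8 27 18) : False := by
  haveI := h.simple
  haveI : Fact (Nat.Prime 2) := ⟨Nat.prime_two⟩
  obtain ⟨u, hu⟩ := exists_prime_orderOf_dvd_card' (G := T) 2 (by rw [h.card]; norm_num)
  have huu : u * u = 1 := by rw [← pow_two, ← hu, pow_orderOf_eq_one]
  obtain ⟨a, ha, -⟩ := value_involution χ₁ huu
  obtain ⟨b, hb, -⟩ := value_involution χ₂ huu
  have e := R.rel u (by rw [hu]; norm_num)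
  have e0 := R.inv0 u huu
  rw [ha, hb] at e e0
  push_cast at e e0
  have e2 : (θ : T → ℂ) u = -(1 + (a : ℂ) - b) := by linear_combination -e
  rw [e2] at e0
  have e3 : ((216 + 27 * a * a - 8 * b * b + 12 * (1 + a - b) * (1 + a - b) : ℤ) : ℂ) = ((0 : ℤ) : ℂ) := by
    push_cast
    linear_combination (216 : ℂ) * e0
  have e4 : 216 + 27 * a * a - 8 * b * b + 12 * (1 + a - b) * (1 + a - b) = 0 := Int.cast_inj.1 e3
  have ha8 : a = 8 := by nlinarith [sq_nonneg (b - 3 * (1 + a)), sq_nonneg (a - 8)]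
  refine absurd (eq_one_of_apply_eq R.deg₁ (by norm_num) ?_) (fun h1 : u = 1 => ?_)
  · rw [ha, ha8, apply_one_eq R.deg₁]; norm_num
  · rw [h1, orderOf_one] at hu; norm_num at hu

/-- The values for the degrees `6, 27, 32`. -/
theorem chars_of_trio (h : Hyp48 T) {x : T} {χ₁ χ₂ θ θ' : IrrCharacter T}
    (R : Trio x χ₁ χ₂ θ θ' (-1) (-1) (-1) 6 27 32) : Chars T χ₁ θ := by
  haveI := h.simple
  haveI : Fact (Nat.Prime 7) := ⟨by norm_num⟩
  haveI := Fintype.ofFinite (IrrCharacter T)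
  have v27 : ∀ g : T, 3 ∣ orderOf g → (χ₂ : T → ℂ) g = 0 := fun g hg =>
    CfsgLib.Perm.ThreePrimeOrder.vanish_of_full Nat.prime_three (by rw [R.deg₂, h.card]; norm_num) hg
  have v32 : ∀ g : T, 2 ∣ orderOf g → (θ : T → ℂ) g = 0 := fun g hg =>
    CfsgLib.Perm.ThreePrimeOrder.vanish_of_full Nat.prime_two (by rw [R.degY, h.card]; norm_num) hg
  have hθ : ∀ g : T, orderOf g = 3 → (θ : T → ℂ) g = (χ₁ : T → ℂ) g - 1 := by
    intro g hg
    have e := R.rel g (regular_three hg)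
    rw [v27 g (by rw [hg])] at e
    push_cast at e
    linear_combination -e
  have three : ∀ g : T, orderOf g = 3 → (χ₁ : T → ℂ) g = 0 ∨ (χ₁ : T → ℂ) g = -3 := by
    intro g hg
    have h3 : g ^ 3 = 1 := hg ▸ pow_orderOf_eq_one g
    obtain ⟨k, hk, hkle⟩ := value_three χ₁ h3 (R.real₁ (by norm_num) (by norm_num) (by norm_num) _)
    rw [R.deg₁] at hk hkle
    have e := R.sum3 g (regular_three hg)
    rw [hθ g hg, v27 g (by rw [hg]), hk] at e
    have hk3 : k ≤ 3 := by omega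
    interval_cases k
    · refine absurd (eq_one_of_apply_eq R.deg₁ (by norm_num) ?_) (fun h1 : g = 1 => ?_)
      · rw [hk, apply_one_eq R.deg₁]; norm_num
      · rw [h1, orderOf_one] at hg; norm_num at hg
    · exfalso
      norm_num at e
    · left; rw [hk]; norm_num
    · right; rw [hk]; norm_num
  refine ⟨by rw [apply_one_eq R.deg₁]; norm_num, three, ?_, ?_⟩
  · intro g t hg h0 ht hc
    have htt : t * t = 1 := by rw [← pow_two, ← ht, pow_orderOf_eq_one]
    have ho : orderOf (g * t) = 6 := by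
      rw [hc.orderOf_mul_eq_mul_orderOf_of_coprime (by rw [hg, ht]; norm_num), hg, ht]
    have e := R.rel (g * t) (by rw [ho]; norm_num)
    rw [v27 _ (by rw [ho]; norm_num), v32 _ (by rw [ho]; norm_num)] at e
    push_cast at e
    have e1 : (χ₁ : T → ℂ) (g * t) = 1 := by linear_combination e
    have hi := value_six χ₁ (hg ▸ pow_orderOf_eq_one g) htt hc
    rw [e1, h0, sub_zero] at hi
    have := dvd_of_isIntegral_intDiv (n := 1) (d := 2) two_ne_zero (by simpa using hi)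
    norm_num at this
  · intro z hz hv
    have hθz : (θ : T → ℂ) z = -4 := by rw [hθ z hz, hv]; norm_num
    have hidx : 8 ∣ (centralizer ({z} : Set T)).index := by
      have hi := CfsgLib.CharDegree.isIntegral_centralChar θ z
      rw [Cfsg.centralChar, hθz, apply_one_eq R.degY] at hi
      have := dvd_of_isIntegral_intDiv (n := ((centralizer ({z} : Set T)).index : ℤ) * (-4)) (d := 32)
        (by norm_num) (by simpa using hi)
      omega
    obtain ⟨n1, n2, n3, n4, n5, n6⟩ := R.distinct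
    let U : Finset (IrrCharacter T) := {trivChar T, χ₁, θ, θ'}
    have hθ'z : (θ' : T → ℂ) z = -4 := by rw [R.agree z (regular_three hz), hθz]
    have hU : ∀ f : IrrCharacter T → ℂ,
        ∑ χ ∈ U, f χ = f (trivChar T) + (f χ₁ + (f θ + f θ')) := fun f => by
      simp only [U]
      rw [Finset.sum_insert (by simp [n1.symm, n2.symm, n3.symm]),
        Finset.sum_insert (by simp [n4, n5]), Finset.sum_pair n6]
    set C := Nat.card (centralizer ({z} : Set T)) with hC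
    have hsq : ∑ χ : IrrCharacter T, ‖(χ : T → ℂ) z‖ ^ 2 = (C : ℝ) := by
      have := column_orthogonality z z
      rw [if_pos (IsConj.refl z)] at this
      have h2 := congrArg Complex.re this
      rw [Complex.re_sum, Complex.natCast_re] at h2
      rw [hC, ← h2]
      exact Finset.sum_congr rfl fun χ _ => by
        rw [Complex.mul_conj, Complex.ofReal_re, Complex.normSq_eq_norm_sq]
    have hUsq : ∑ χ ∈ U, ‖(χ : T → ℂ) z‖ ^ 2 = 42 := by
      have hc : ((∑ χ ∈ U, ‖(χ : T → ℂ) z‖ ^ 2 : ℝ)) =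
          (∑ χ ∈ U, ((‖(χ : T → ℂ) z‖ ^ 2 : ℝ) : ℂ)).re := by
        rw [Complex.re_sum]; simp only [Complex.ofReal_re]
      rw [hc, hU, trivChar_apply, hv, hθz, hθ'z]
      norm_num
    have hrest : ∑ χ ∈ Uᶜ, ‖(χ : T → ℂ) z‖ ^ 2 = (C : ℝ) - 42 := by
      rw [← hUsq, ← hsq, ← Finset.sum_add_sum_compl U]
      ring
    refine ⟨hidx, ?_, fun hnc => ?_⟩
    · have : (0 : ℝ) ≤ (C : ℝ) - 42 := hrest ▸ Finset.sum_nonneg fun χ _ => sq_nonneg _
      have h42 : ((42 : ℕ) : ℝ) ≤ (C : ℝ) := by push_cast; linarith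
      exact_mod_cast h42
    · have h0 := column_orthogonality z z⁻¹
      rw [if_neg hnc] at h0
      simp only [fun (χ : IrrCharacter T) (g : T) => IsIrr.map_inv χ.2 g, Complex.conj_conj] at h0
      rw [← Finset.sum_add_sum_compl U, hU, trivChar_apply, hv, hθz, hθ'z] at h0
      have e : ∑ χ ∈ Uᶜ, (χ : T → ℂ) z * (χ : T → ℂ) z = -42 := by linear_combination h0
      have hle := norm_sum_le Uᶜ fun χ : IrrCharacter T => (χ : T → ℂ) z * (χ : T → ℂ) z
      rw [e, Finset.sum_congr rfl (fun χ _ => by rw [norm_mul, ← pow_two]), hrest] at hle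
      norm_num at hle
      have h84 : ((84 : ℕ) : ℝ) ≤ (C : ℝ) := by push_cast; linarith
      exact_mod_cast h84

theorem Hyp48.exists_chars (h : Hyp48 T) : ∃ χ θ : IrrCharacter T, Chars T χ θ := by
  haveI := h.simple
  haveI : Fact (Nat.Prime 7) := ⟨by norm_num⟩
  haveI := Fintype.ofFinite (IrrCharacter T)
  obtain ⟨P⟩ := (inferInstance : Nonempty (Sylow 7 T))
  have hP : Nat.card (P : Subgroup T) = 7 := by
    rw [CfsgLib.Perm.sylow_card_eq P (k := 1) (m := 864) (by rw [h.card]; norm_num) (by norm_num), pow_one]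
  have hC := h.nobad.centralizer_sylow_seven (m := 864) (by rw [h.card]) (by norm_num) P hP
  obtain ⟨k, hk6, -, hkm, hN, -⟩ := card_normalizer_seven (m := 864) (by rw [h.card]) P hP hC
  have hk3 : k = 3 := by
    have := Nat.le_of_dvd (by norm_num) hk6
    omega
  subst hk3
  have hperf : commutator T = ⊤ := by
    rcases (inferInstance : (commutator T).Normal).eq_bot_or_eq_top with hb | hb
    · exfalso
      have hcomm : ∀ a b : T, a * b = b * a := fun a b => by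
        have : ⁅a, b⁆ ∈ commutator T := commutator_mem_commutator (mem_top a) (mem_top b)
        rw [hb, mem_bot] at this
        exact commutatorElement_eq_one_iff_mul_comm.1 this
      have h1 : (P : Subgroup T).Normal :=
        ⟨fun a ha g => by rw [hcomm g a, mul_assoc, mul_inv_cancel, mul_one]; exact ha⟩
      rcases h1.eq_bot_or_eq_top with e | e <;> rw [e] at hP
      · rw [card_bot] at hP; norm_num at hP
      · rw [card_top, h.card] at hP; norm_num at hP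
    · exact hb
  obtain ⟨a, e, t, n, F⟩ := CfsgLib.Perm.FewSylow.exists_frame P hP hC hperf
  obtain rfl : e = 3 := by
    have := F.cardN; rw [hN] at this; omega
  obtain rfl : t = 2 := by have := F.et; omega
  obtain ⟨x, hx⟩ : (CfsgLib.Perm.FewSylow.star (P : Subgroup T)).Nonempty :=
    Finset.card_pos.1 (by rw [F.card_Pstar]; norm_num)
  obtain ⟨hx1, hxP⟩ := CfsgLib.Perm.FewSylow.mem_star.1 hx
  obtain ⟨X, Y, δ, ε, D⟩ := exists_block_data F hx
  obtain ⟨χ₁, χ₂, h12, hXe⟩ := Finset.card_eq_two.1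
    (show (X.erase (trivChar T)).card = 2 by rw [Finset.card_erase_of_mem D.triv, D.cardX])
  obtain ⟨θ, θ', hθθ, hYe⟩ := Finset.card_eq_two.1 D.cardY
  have hXmem : ∀ χ, χ ∈ X → χ = trivChar T ∨ χ = χ₁ ∨ χ = χ₂ := by
    intro χ hχ
    by_cases e : χ = trivChar T
    · exact Or.inl e
    · have : χ ∈ X.erase (trivChar T) := Finset.mem_erase.2 ⟨e, hχ⟩
      rw [hXe] at this
      simpa using Or.inr this
  have h1X : χ₁ ∈ X.erase (trivChar T) := by rw [hXe]; simp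
  have h2X : χ₂ ∈ X.erase (trivChar T) := by rw [hXe]; simp
  have hθY : θ ∈ Y := by rw [hYe]; simp
  have hθ'Y : θ' ∈ Y := by rw [hYe]; simp
  rw [Finset.mem_erase] at h1X h2X
  have hsumX : ∀ f : IrrCharacter T → ℂ, ∑ χ ∈ X, f χ = f (trivChar T) + (f χ₁ + f χ₂) := fun f => by
    rw [← Finset.add_sum_erase _ _ D.triv, hXe, Finset.sum_pair h12]
  have hne1 : ∀ χ : IrrCharacter T, χ ≠ trivChar T → charDegree (χ : T → ℂ) ≠ 1 := fun χ hχ e =>
    hχ (CfsgLib.Perm.FewSylow.eq_trivChar hperf χ e)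
  have hle : ∀ χ : IrrCharacter T, charDegree (χ : T → ℂ) ≤ 77 := by
    intro χ
    have h2 : ∑ ψ : IrrCharacter T, charDegree (ψ : T → ℂ) ^ 2 = 6048 := by
      rw [← h.card, ← Nat.cast_inj (R := ℂ), Nat.cast_sum, ← sum_sq_degree]
      exact Finset.sum_congr rfl fun ψ _ => by rw [Nat.cast_pow, CfsgLib.CharDegree.cast_irrDegree]
    have h3 := Finset.single_le_sum (f := fun ψ : IrrCharacter T => charDegree (ψ : T → ℂ) ^ 2)
      (fun _ _ => Nat.zero_le _) (Finset.mem_univ χ)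
    rw [h2] at h3
    nlinarith
  have hdvd : ∀ χ : IrrCharacter T, charDegree (χ : T → ℂ) ∣ 6048 := fun χ =>
    h.card ▸ CfsgLib.CharDegree.charDegree_dvd_card χ
  have hsigned : ∀ χ ∈ X, χ ≠ trivChar T → δ χ * (charDegree (χ : T → ℂ) : ℤ) ∈ signedDegs := by
    intro χ hχ hne
    have hm := Int.modEq_iff_dvd.1 (D.deg χ hχ)
    obtain ⟨hp, hq⟩ := degree_list ⟨charDegree (χ : T → ℂ), by have := hle χ; omega⟩ (hne1 χ hne) (hdvd χ)
    rcases D.sign χ hχ with e | e <;> rw [e] at hm ⊢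
    · rw [one_mul]; exact hp (by simp only; omega)
    · rw [neg_one_mul]; exact hq (by simp only; omega)
  have hrel1 : (ε : ℤ) * charDegree (θ : T → ℂ) =
      1 + δ χ₁ * charDegree (χ₁ : T → ℂ) + δ χ₂ * charDegree (χ₂ : T → ℂ) := by
    have e := D.rel θ hθY 1 regular_one
    rw [hsumX, D.triv_sign, trivChar_apply] at e
    simp only [← CfsgLib.CharDegree.cast_irrDegree] at e
    apply Int.cast_injective (α := ℂ)
    push_cast at e ⊢
    linear_combination e
  have hy : ε * (1 + δ χ₁ * charDegree (χ₁ : T → ℂ) + δ χ₂ * charDegree (χ₂ : T → ℂ)) =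
      charDegree (θ : T → ℂ) := by
    rw [← hrel1]; rcases D.eps with e | e <;> rw [e] <;> ring
  have hεmem : ε ∈ ([1, -1] : List ℤ) := by rcases D.eps with e | e <;> simp [e]
  have key := degree_pairs _ (hsigned χ₁ h1X.2 h1X.1) _ (hsigned χ₂ h2X.2 h2X.1) ε hεmem
    ⟨by rw [hy]; exact_mod_cast CfsgLib.CharDegree.charDegree_pos θ, by
      rw [hy]
      have hm := Int.modEq_iff_dvd.1 (D.degY θ hθY)
      push_cast at hm
      omega, by
      rw [hy, Int.natAbs_natCast, List.mem_filter, List.mem_range, decide_eq_true_iff]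
      exact ⟨by have := hle θ; omega, hdvd θ⟩⟩
  have hinv : ∀ v : T, v * v = 1 → v * x * v⁻¹ ≠ x⁻¹ := by
    intro v hv hcj
    have hz : zpowers x = (P : Subgroup T) := by
      refine eq_of_le_of_card_ge (zpowers_le.2 hxP) ?_
      rw [hP, Nat.card_zpowers]
      have := Subgroup.orderOf_dvd_natCard (P : Subgroup T) hxP
      rw [hP] at this
      rcases (Nat.dvd_prime (by norm_num)).1 this with e | e
      · exact absurd (orderOf_eq_one_iff.1 e) hx1
      · exact e.ge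
    have hvN : v ∈ normalizer ((P : Subgroup T) : Set T) := by
      rw [← hz, mem_normalizer_iff]
      intro w
      have hconj : ∀ w, w ∈ zpowers x → v * w * v⁻¹ ∈ zpowers x := by
        rintro w ⟨i, rfl⟩
        exact ⟨-i, by simp only [← conj_zpow, hcj, zpow_neg, inv_zpow]⟩
      refine ⟨hconj w, fun hw => ?_⟩
      have := hconj _ hw
      have e : v * (v * w * v⁻¹) * v⁻¹ = w := by
        rw [show v * (v * w * v⁻¹) * v⁻¹ = (v * v) * w * (v * v)⁻¹ by group, hv]; group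
      rwa [e] at this
    have ho : orderOf v ∣ 21 := by
      have := Subgroup.orderOf_dvd_natCard _ hvN
      rwa [hN] at this
    have ho2 : orderOf v ∣ 2 := orderOf_dvd_of_pow_eq_one (by rw [pow_two, hv])
    have : orderOf v = 1 := Nat.dvd_one.1 ((by norm_num : Nat.gcd 21 2 = 1) ▸ Nat.dvd_gcd ho ho2)
    rw [orderOf_eq_one_iff] at this
    rw [this, one_mul, inv_one, mul_one] at hcj
    have : orderOf x ∣ 2 := orderOf_dvd_of_pow_eq_one (by rw [pow_two, ← eq_inv_iff_mul_eq_one]; exact hcj)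
    have h7 : orderOf x = 7 := by rw [← Nat.card_zpowers, hz, hP]
    rw [h7] at this
    norm_num at this
  have mk : ∀ c d : IrrCharacter T, c ∈ X → d ∈ X → c ≠ trivChar T → d ≠ trivChar T →
      (∀ f : IrrCharacter T → ℂ, ∑ χ ∈ X, f χ = f (trivChar T) + (f c + f d)) →
      (∀ χ, χ ∈ X → χ = trivChar T ∨ χ = c ∨ χ = d) → ∀ (s₁ s₂ : ℤ) (f₁ f₂ y : ℕ), δ c = s₁ → δ d = s₂ →
      charDegree (c : T → ℂ) = f₁ → charDegree (d : T → ℂ) = f₂ → charDegree (θ : T → ℂ) = y →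
      Trio x c d θ θ' s₁ s₂ ε f₁ f₂ y := by
    intro c d hc hd hc1 hd1 hs hm s₁ s₂ f₁ f₂ y e₁ e₂ g₁ g₂ gy
    have hY : ∀ ψ ∈ Y, charDegree (ψ : T → ℂ) = y := fun ψ hψ => by
      rw [← gy]
      have e := D.agree ψ hψ θ hθY 1 regular_one
      rw [← CfsgLib.CharDegree.cast_irrDegree, ← CfsgLib.CharDegree.cast_irrDegree] at e
      exact_mod_cast e
    have ht1 : charDegree (trivChar T : T → ℂ) = 1 := by
      have e : (charDegree (trivChar T : T → ℂ) : ℂ) = ((1 : ℕ) : ℂ) := by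
        rw [CfsgLib.CharDegree.cast_irrDegree, trivChar_apply, Nat.cast_one]
      exact_mod_cast e
    refine ⟨g₁, g₂, gy, fun n1 n2 n3 => D.real hc fun ψ hψ e => ?_,
      fun n1 n2 n3 => D.real hd fun ψ hψ e => ?_, fun g hg => ?_, fun g hg => ?_, fun u hu => ?_,
      fun g hg => D.agree θ' hθ'Y θ hθY g hg, hc1, ?_, ?_, ?_, ?_, hθθ⟩
    · rcases Finset.mem_union.1 hψ with hψ | hψ
      · rcases hm ψ hψ with rfl | rfl | rfl
        · exact absurd (ht1.symm.trans (e.trans g₁)).symm n3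
        · rfl
        · exact absurd (g₂.symm.trans (e.trans g₁)).symm n1
      · exact absurd ((hY ψ hψ).symm.trans (e.trans g₁)).symm n2
    · rcases Finset.mem_union.1 hψ with hψ | hψ
      · rcases hm ψ hψ with rfl | rfl | rfl
        · exact absurd (ht1.symm.trans (e.trans g₂)).symm n3
        · exact absurd (g₁.symm.trans (e.trans g₂)).symm n1
        · rfl
      · exact absurd ((hY ψ hψ).symm.trans (e.trans g₂)).symm n2
    · rw [D.rel θ hθY g hg, hs, D.triv_sign, trivChar_apply, e₁, e₂, Int.cast_one, one_mul, add_assoc]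
    · have := re_sum_three_nonneg g g x
      rw [D.sum_three hθY hg hg regular_one, hs, D.triv_sign, trivChar_apply, e₁, e₂,
        apply_one_eq g₁, apply_one_eq g₂, apply_one_eq gy, Int.cast_one, trivChar_apply] at this
      simpa [add_assoc] using this
    · have := D.sum_three_involution_eq_zero hθY hu (by norm_num) hinv
      rw [hs, D.triv_sign, trivChar_apply, e₁, e₂, apply_one_eq g₁, apply_one_eq g₂, apply_one_eq gy,
        Int.cast_one, trivChar_apply] at this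
      simpa [add_assoc] using this
    · exact fun e => Finset.disjoint_left.1 D.disj D.triv (e ▸ hθY)
    · exact fun e => Finset.disjoint_left.1 D.disj D.triv (e ▸ hθ'Y)
    · exact fun e => Finset.disjoint_left.1 D.disj hc (e ▸ hθY)
    · exact fun e => Finset.disjoint_left.1 D.disj hc (e ▸ hθ'Y)
  have split : ∀ χ ∈ X, ∀ (s : ℤ) (f : ℕ), 0 < f → (s = 1 ∨ s = -1) →
      δ χ * (charDegree (χ : T → ℂ) : ℤ) = s * f → δ χ = s ∧ charDegree (χ : T → ℂ) = f := by
    intro χ hχ s f hf hs e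
    have hp := CfsgLib.CharDegree.charDegree_pos χ
    rcases D.sign χ hχ with e1 | e1 <;> rcases hs with rfl | rfl <;> rw [e1] at e <;> omega
  have hswap : ∀ f : IrrCharacter T → ℂ, ∑ χ ∈ X, f χ = f (trivChar T) + (f χ₂ + f χ₁) := fun f => by
    rw [hsumX, add_comm (f χ₁)]
  have hmswap : ∀ χ, χ ∈ X → χ = trivChar T ∨ χ = χ₂ ∨ χ = χ₁ := fun χ hχ => by
    rcases hXmem χ hχ with e | e | e <;> simp [e]
  simp only [List.mem_cons, List.not_mem_nil, or_false, Prod.mk.injEq] at key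
  rcases key with ⟨⟨a1, a2⟩ | ⟨a1, a2⟩, hε⟩ | ⟨⟨a1, a2⟩ | ⟨a1, a2⟩, hε⟩ | ⟨⟨a1, a2⟩ | ⟨a1, a2⟩, hε⟩
  all_goals rw [a1, a2, hε] at hy
  all_goals subst hε
  · obtain ⟨p1, q1⟩ := split χ₁ h1X.2 (-1) 6 (by norm_num) (Or.inr rfl) (by rw [a1]; norm_num)
    obtain ⟨p2, q2⟩ := split χ₂ h2X.2 1 8 (by norm_num) (Or.inl rfl) (by rw [a2]; norm_num)
    exact (not_trio_three h (mk _ _ h1X.2 h2X.2 h1X.1 h2X.1 hsumX hXmem _ _ _ _ 3 p1 p2 q1 q2 (by omega))).elim
  · obtain ⟨p1, q1⟩ := split χ₁ h1X.2 1 8 (by norm_num) (Or.inl rfl) (by rw [a1]; norm_num)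
    obtain ⟨p2, q2⟩ := split χ₂ h2X.2 (-1) 6 (by norm_num) (Or.inr rfl) (by rw [a2]; norm_num)
    exact (not_trio_three h (mk _ _ h2X.2 h1X.2 h2X.1 h1X.1 hswap hmswap _ _ _ _ 3 p2 p1 q2 q1 (by omega))).elim
  · obtain ⟨p1, q1⟩ := split χ₁ h1X.2 1 8 (by norm_num) (Or.inl rfl) (by rw [a1]; norm_num)
    obtain ⟨p2, q2⟩ := split χ₂ h2X.2 (-1) 27 (by norm_num) (Or.inr rfl) (by rw [a2]; norm_num)
    exact (not_trio_eighteen h (mk _ _ h1X.2 h2X.2 h1X.1 h2X.1 hsumX hXmem _ _ _ _ 18 p1 p2 q1 q2 (by omega))).elim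
  · obtain ⟨p1, q1⟩ := split χ₁ h1X.2 (-1) 27 (by norm_num) (Or.inr rfl) (by rw [a1]; norm_num)
    obtain ⟨p2, q2⟩ := split χ₂ h2X.2 1 8 (by norm_num) (Or.inl rfl) (by rw [a2]; norm_num)
    exact (not_trio_eighteen h (mk _ _ h2X.2 h1X.2 h2X.1 h1X.1 hswap hmswap _ _ _ _ 18 p2 p1 q2 q1 (by omega))).elim
  · obtain ⟨p1, q1⟩ := split χ₁ h1X.2 (-1) 6 (by norm_num) (Or.inr rfl) (by rw [a1]; norm_num)
    obtain ⟨p2, q2⟩ := split χ₂ h2X.2 (-1) 27 (by norm_num) (Or.inr rfl) (by rw [a2]; norm_num)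
    exact ⟨χ₁, θ, chars_of_trio h (mk _ _ h1X.2 h2X.2 h1X.1 h2X.1 hsumX hXmem _ _ _ _ 32 p1 p2 q1 q2 (by omega))⟩
  · obtain ⟨p1, q1⟩ := split χ₁ h1X.2 (-1) 27 (by norm_num) (Or.inr rfl) (by rw [a1]; norm_num)
    obtain ⟨p2, q2⟩ := split χ₂ h2X.2 (-1) 6 (by norm_num) (Or.inr rfl) (by rw [a2]; norm_num)
    exact ⟨χ₂, θ, chars_of_trio h (mk _ _ h2X.2 h1X.2 h2X.1 h1X.1 hswap hmswap _ _ _ _ 32 p2 p1 q2 q1 (by omega))⟩

end CfsgLib.Recog.G2Spectrum
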