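import Cfsg.Agent.Lib.Recog.G2Spectrum.Data

/-!
Owner: helper14. Properties of the tables.
-/

set_option autoImplicit false

namespace CfsgLib.Recog.G2Spectrum

/-- powers of an element -/
def powU (y : ℕ) : ℕ → ℕ
  | 0 => 0
  | n + 1 => mulU (powU y n) y

/-- the commutator of two elements -/
def commU (y b : ℕ) : ℕ := mulU (mulU (mulU y b) (mulU y y)) (mulU b b)

/-- the endomorphism with given images of the generators -/
def endU (y b x : ℕ) : ℕ :=
  mulU (mulU (powU y (x / 9)) (powU b (x / 3 % 3))) (powU (commU y b) (x % 3))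

/-- the possible actions of a two point stabiliser of the normaliser -/
def autPairs : List (ℕ × ℕ) :=
  ((List.range 27).flatMap fun y => (List.range 8).map fun j => (y, j)).filter fun q =>
    ((List.range 27).all fun x => endU q.1 (tpU q.2 q.1) (tpU 1 x) == tpU q.2 (endU q.1 (tpU q.2 q.1) x)) &&
      ((List.range 27).all fun x => x == 0 || !(endU q.1 (tpU q.2 q.1) x == 0))

theorem mul_check : ∀ x y : Fin 27, mulU x y = ((x.val / 9 + y.val / 9) % 3) * 9 +
    ((x.val / 3 % 3 + y.val / 3 % 3) % 3) * 3 +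
      (x.val % 3 + y.val % 3 + 2 * (y.val / 9) * (x.val / 3 % 3)) % 3 := by decide +kernel

theorem tp_one : ∀ x : Fin 27, tpU 1 x = endU 3 13 x ∧ mulU x 0 = x ∧ mulU 0 x = x := by decide +kernel

theorem tp_succ : ∀ n : Fin 8, ∀ p : Fin 28, tpU (n.val + 1) p = tpU 1 (tpU n p) ∧ tpU n p < 28 ∧
    (tpU n p = 27 ↔ p.val = 27) ∧ tpU 0 p = p := by decide +kernel

theorem order_three : ∀ x : Fin 27, ∀ m : Fin 8, (∀ p : Fin 28,
    lU x (tpU m (lU x (tpU m (lU x (tpU m p))))) = p) → m.val = 0 := by decide +kernel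

theorem w0_perm : ∀ p : Fin 28, fld w0C p < 28 ∧ ∀ q : Fin 28, fld w0C p = fld w0C q → p = q := by
  decide +kernel

theorem rep_check : fld orbC rep1 = 1 ∧ fld orbC rep2 = 2 ∧ fld orbC rep3 = 3 ∧ rep1 = 3 ∧
    (∀ u : Fin 27, u.val ≠ 0 → u.val = tpU (fld expC u) (pick rep1 rep2 rep3 (fld orbC u))) ∧
    (∀ u : Fin 27, fld orbC u = 0 → u.val ≤ 2) := by decide +kernel

theorem autPairs_length : autPairs.length ≤ 16 := by decide +kernel

end CfsgLib.Recog.G2Spectrum
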