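import Cfsg.Agent.Lib.Recog.G2Spectrum.Local
import Cfsg.Agent.Lib.Recog.G2Spectrum.Tables
import Mathlib.Tactic

/-!
Owner: helper14. Coordinates in a Sylow 3-normaliser of a simple group of order `6048`.
-/

set_option autoImplicit false

namespace CfsgLib.Recog.G2Spectrum

open Cfsg CfsgLib.Char Subgroup
open scoped ComplexConjugate Classical

/-! ### the group of order 27 -/

section Heis

variable {M : Type*} [Group M] {a b z : M}

/-- the element with given coordinates -/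
def nf (a b z : M) (n : ℕ) : M := a ^ (n / 9) * b ^ (n / 3 % 3) * z ^ (n % 3)

/-- the defining relations -/
structure Heis (a b z : M) : Prop where
  a3 : a ^ 3 = 1
  b3 : b ^ 3 = 1
  z3 : z ^ 3 = 1
  az : Commute a z
  bz : Commute b z
  ab : a * b = z * (b * a)

theorem pow_mod_three {x : M} (h : x ^ 3 = 1) (n : ℕ) : x ^ n = x ^ (n % 3) :=
  pow_eq_pow_mod n h

theorem Heis.swap (h : Heis a b z) (i j : ℕ) : b ^ j * a ^ i = a ^ i * b ^ j * z ^ (2 * i * j) := by
  have h1 : b * a = a * b * z ^ 2 := by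
    rw [h.ab, mul_assoc z, mul_assoc b, (h.az.pow_right 2).eq, ← mul_assoc b, (h.bz.pow_right 2).eq,
      mul_assoc, ← mul_assoc z, ← pow_succ', h.z3, one_mul]
  have h2 : ∀ i, b * a ^ i = a ^ i * b * z ^ (2 * i) := by
    intro i
    induction i with
    | zero => simp
    | succ i ih =>
      calc b * a ^ (i + 1) = b * a ^ i * a := by rw [pow_succ, mul_assoc]
        _ = a ^ i * b * (z ^ (2 * i) * a) := by rw [ih, mul_assoc]
        _ = a ^ i * (b * a) * z ^ (2 * i) := by rw [← (h.az.pow_right _).eq]; simp only [mul_assoc]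
        _ = a ^ (i + 1) * b * z ^ (2 * (i + 1)) := by
          rw [h1, pow_succ a, show 2 * (i + 1) = 2 + 2 * i by ring, pow_add z]; simp only [mul_assoc]
  induction j with
  | zero => simp
  | succ j ih =>
    calc b ^ (j + 1) * a ^ i = b * (b ^ j * a ^ i) := by rw [pow_succ', mul_assoc]
      _ = (b * a ^ i) * b ^ j * z ^ (2 * i * j) := by rw [ih]; simp only [mul_assoc]
      _ = a ^ i * b * (z ^ (2 * i) * b ^ j) * z ^ (2 * i * j) := by rw [h2]; simp only [mul_assoc]
      _ = a ^ i * b ^ (j + 1) * z ^ (2 * i * (j + 1)) := by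
        rw [← (h.bz.pow_pow j (2 * i)).eq, show 2 * i * (j + 1) = 2 * i + 2 * i * j by ring, pow_add z, pow_succ' b]
        simp only [mul_assoc]

theorem Heis.nf_mul (h : Heis a b z) {x y : ℕ} (hx : x < 27) (hy : y < 27) :
    nf a b z x * nf a b z y = nf a b z (mulU x y) := by
  have hm := mul_check ⟨x, hx⟩ ⟨y, hy⟩
  simp only at hm
  rw [hm]
  simp only [nf]
  generalize x / 9 = i, x / 3 % 3 = j, x % 3 = k, y / 9 = i', y / 3 % 3 = j', y % 3 = k'
  calc a ^ i * b ^ j * z ^ k * (a ^ i' * b ^ j' * z ^ k')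
      = a ^ i * b ^ j * (z ^ k * a ^ i') * b ^ j' * z ^ k' := by simp only [mul_assoc]
    _ = a ^ i * (b ^ j * a ^ i') * (z ^ k * b ^ j') * z ^ k' := by
        rw [← (h.az.pow_pow i' k).eq]; simp only [mul_assoc]
    _ = a ^ i * a ^ i' * b ^ j * z ^ (2 * i' * j) * (b ^ j' * z ^ k) * z ^ k' := by
        rw [h.swap, (h.bz.pow_pow j' k).eq]; simp only [mul_assoc]
    _ = a ^ i * a ^ i' * b ^ j * (z ^ (2 * i' * j) * b ^ j') * z ^ k * z ^ k' := by simp only [mul_assoc]
    _ = a ^ (i + i') * b ^ (j + j') * z ^ (2 * i' * j + (k + k')) := by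
        rw [← (h.bz.pow_pow j' (2 * i' * j)).eq]; simp only [pow_add, mul_assoc]
    _ = _ := by
        rw [pow_mod_three h.a3 (i + i'), pow_mod_three h.b3 (j + j'), pow_mod_three h.z3 (2 * i' * j + (k + k')),
          add_comm (2 * i' * j)]
        have e : ∀ p q r : ℕ, p < 3 → q < 3 → r < 3 →
            (p * 9 + q * 3 + r) / 9 = p ∧ (p * 9 + q * 3 + r) / 3 % 3 = q ∧ (p * 9 + q * 3 + r) % 3 = r := by
          intro p q r _ _ _; omega
        obtain ⟨e1, e2, e3⟩ := e ((i + i') % 3) ((j + j') % 3) ((k + k' + 2 * i' * j) % 3)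
          (Nat.mod_lt _ (by norm_num)) (Nat.mod_lt _ (by norm_num)) (Nat.mod_lt _ (by norm_num))
        rw [e1, e2, e3]

theorem Heis.nf_pow (h : Heis a b z) {x : ℕ} (hx : x < 27) : ∀ n, powU x n < 27 ∧ nf a b z (powU x n) = nf a b z x ^ n
  | 0 => ⟨by norm_num [powU], by simp [powU, nf]⟩
  | n + 1 => by
    obtain ⟨h1, h2⟩ := Heis.nf_pow h hx n
    refine ⟨mul_lt h1 hx, ?_⟩
    rw [powU, ← h.nf_mul h1 hx, h2, pow_succ]
where
  mul_lt {x y : ℕ} (hx : x < 27) (hy : y < 27) : mulU x y < 27 := by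
    have hm := mul_check ⟨x, hx⟩ ⟨y, hy⟩
    simp only at hm
    omega

theorem mulU_lt {x y : ℕ} (hx : x < 27) (hy : y < 27) : mulU x y < 27 := by
  have hm := mul_check ⟨x, hx⟩ ⟨y, hy⟩
  simp only at hm
  omega

theorem Heis.nf_comm (h : Heis a b z) {x y : ℕ} (hx : x < 27) (hy : y < 27) :
    commU x y < 27 ∧
      nf a b z (commU x y) = nf a b z x * nf a b z y * (nf a b z x)⁻¹ * (nf a b z y)⁻¹ := by
  have hp : ∀ u : Fin 27, mulU (mulU u u) u = 0 := by decide +kernel
  have hi : ∀ {u : ℕ}, u < 27 → (nf a b z u)⁻¹ = nf a b z (mulU u u) := fun {u} hu => by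
    apply inv_eq_of_mul_eq_one_left
    rw [h.nf_mul (mulU_lt hu hu) hu, hp ⟨u, hu⟩]
    simp [nf]
  have h1 := mulU_lt (mulU_lt hx hy) (mulU_lt hx hx)
  refine ⟨mulU_lt h1 (mulU_lt hy hy), ?_⟩
  rw [commU, ← h.nf_mul h1 (mulU_lt hy hy), ← h.nf_mul (mulU_lt hx hy) (mulU_lt hx hx), ← h.nf_mul hx hy,
    hi hx, hi hy]

/-- an endomorphism given on the generators agrees with the table -/
theorem Heis.map_nf (h : Heis a b z) (f : M →* M) {y q : ℕ} (hy : y < 27) (hq : q < 27)
    (ha : f a = nf a b z y) (hb : f b = nf a b z q) (x : ℕ) :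
    endU y q x < 27 ∧ f (nf a b z x) = nf a b z (endU y q x) := by
  have hz : z = a * b * a⁻¹ * b⁻¹ := by rw [h.ab]; group
  obtain ⟨hcl, hc⟩ := h.nf_comm hy hq
  have hfz : f z = nf a b z (commU y q) := by
    conv_lhs => rw [hz]
    rw [map_mul, map_mul, map_mul, map_inv, map_inv, ha, hb, hc]
  obtain ⟨p1, e1⟩ := h.nf_pow hy (x / 9)
  obtain ⟨p2, e2⟩ := h.nf_pow hq (x / 3 % 3)
  obtain ⟨p3, e3⟩ := h.nf_pow hcl (x % 3)
  refine ⟨mulU_lt (mulU_lt p1 p2) p3, ?_⟩
  rw [endU, ← h.nf_mul (mulU_lt p1 p2) p3, ← h.nf_mul p1 p2, e1, e2, e3, ← hfz, ← ha, ← hb, nf,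
    map_mul, map_mul, map_pow, map_pow, map_pow]

end Heis

/-! ### the normaliser of a Sylow 3-subgroup -/

variable {T : Type*} [Group T] [Fintype T] {χ θ : IrrCharacter T}
variable (h : Hyp48 T) (hc : Chars T χ θ)
include h hc

theorem eq_one_of_fix {S R : Sylow 3 T} {s : T} (hs : s ∈ (S : Subgroup T)) (hR : s • R = R) (hne : R ≠ S) :
    s = 1 := by
  by_contra h1
  haveI : Fact (Nat.Prime 3) := ⟨Nat.prime_three⟩
  have hsR : s ∈ (R : Subgroup T) := by
    have hp : IsPGroup 3 (zpowers s) :=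
      S.isPGroup'.to_le (zpowers_le.2 hs)
    have := hp.inf_normalizer_sylow R
    have hm : s ∈ zpowers s ⊓ normalizer ((R : Subgroup T) : Set T) :=
      ⟨mem_zpowers s, Sylow.smul_eq_iff_mem_normalizer.1 hR⟩
    exact ((SetLike.ext_iff.1 this s).1 hm).2
  exact hne (eq_of_mem_inter h hc hs hsR h1)

theorem exists_second (S : Sylow 3 T) : ∃ S₁ : Sylow 3 T, S₁ ≠ S := by
  haveI : Nontrivial (Sylow 3 T) := by
    have := (card_sylow_normalizer h hc S).2
    exact Finite.one_lt_card_iff_nontrivial.1 (by omega)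
  exact exists_ne S

theorem exists_unique_translate {S S₁ R : Sylow 3 T} (hS₁ : S₁ ≠ S) (hR : R ≠ S) :
    ∃ s ∈ (S : Subgroup T), s • S₁ = R := by
  haveI : Fact (Nat.Prime 3) := ⟨Nat.prime_three⟩
  have hfix : ∀ s ∈ (S : Subgroup T), s • S = S := fun s hs =>
    Sylow.smul_eq_iff_mem_normalizer.2 (Subgroup.le_normalizer hs)
  let f : ↥(S : Subgroup T) → {R : Sylow 3 T // R ≠ S} := fun s => ⟨(s : T) • S₁, fun e => hS₁ (by
    have := congrArg ((s : T)⁻¹ • ·) e
    simpa [hfix _ (inv_mem s.2)] using this)⟩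
  have hinj : Function.Injective f := by
    intro s s' e
    have e' : (s : T) • S₁ = (s' : T) • S₁ := congrArg Subtype.val e
    have := eq_one_of_fix h hc (S := S) (mul_mem (inv_mem s'.2) s.2) (R := S₁)
      (by rw [mul_smul, e', inv_smul_smul]) hS₁
    exact Subtype.ext (inv_mul_eq_one.1 this).symm
  have hbij := hinj.bijective_of_nat_card_le (by
    haveI := Fintype.ofFinite (Sylow 3 T)
    rw [card_sylow_three h, Nat.card_eq_fintype_card, Fintype.card_subtype_compl,
      Fintype.card_subtype_eq, ← Nat.card_eq_fintype_card, (card_sylow_normalizer h hc S).2])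
  obtain ⟨s, hs⟩ := hbij.2 ⟨R, hR⟩
  exact ⟨s, s.2, congrArg Subtype.val hs⟩

/-- the two point stabiliser -/
theorem card_two_point {S S₁ : Sylow 3 T} (hS₁ : S₁ ≠ S) :
    Nat.card ↥(MulAction.stabilizer T S ⊓ MulAction.stabilizer T S₁) = 8 := by
  set H := MulAction.stabilizer T S with hH
  set K := H ⊓ MulAction.stabilizer T S₁ with hK
  have hHN : H = normalizer ((S : Subgroup T) : Set T) := by
    ext g; rw [hH, MulAction.mem_stabilizer_iff]; exact Sylow.smul_eq_iff_mem_normalizer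
  have hSH : (S : Subgroup T) ≤ H := hHN ▸ Subgroup.le_normalizer
  let f : ↥(S : Subgroup T) × ↥K → ↥H := fun p =>
    ⟨(p.1 : T) * (p.2 : T), mul_mem (hSH p.1.2) (mem_inf.1 p.2.2).1⟩
  have hinj : Function.Injective f := by
    rintro ⟨s, k⟩ ⟨s', k'⟩ e
    have e' : (s : T) * k = (s' : T) * k' := congrArg Subtype.val e
    have hss : (s' : T)⁻¹ * s = (k' : T) * (k : T)⁻¹ := by
      rw [eq_mul_inv_iff_mul_eq, mul_assoc, e', inv_mul_cancel_left]
    have h1 := eq_one_of_fix h hc (S := S) (mul_mem (inv_mem s'.2) s.2) (R := S₁)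
      (by rw [hss]; exact (mem_inf.1 (mul_mem k'.2 (inv_mem k.2))).2) hS₁
    have hs : (s' : T) = s := inv_mul_eq_one.1 h1
    rw [hs, mul_left_cancel_iff] at e'
    exact Prod.ext (Subtype.ext hs.symm) (Subtype.ext e')
  have hsurj : Function.Surjective f := by
    rintro ⟨g, hg⟩
    have hgS : g • S = S := hg
    obtain ⟨s, hs, e⟩ := exists_unique_translate h hc hS₁ (R := g • S₁) (fun e => hS₁ (MulAction.injective g (e.trans hgS.symm)))
    refine ⟨(⟨s, hs⟩, ⟨s⁻¹ * g, mem_inf.2 ⟨mul_mem (inv_mem (hSH hs)) hg, ?_⟩⟩), Subtype.ext (by simp [f])⟩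
    rw [MulAction.mem_stabilizer_iff, mul_smul, ← e, inv_smul_smul]
  have := Nat.card_congr (Equiv.ofBijective f ⟨hinj, hsurj⟩)
  rw [Nat.card_prod, card_sylow_three h, hHN, (card_sylow_normalizer h hc S).1] at this
  omega

theorem no_fix {S : Sylow 3 T} {z u s : T} (hz : IsCtr χ S z) (hu : orderOf u = 2)
    (huz : u * z * u⁻¹ ∈ zpowers z) (hs : s ∈ (S : Subgroup T)) (hfix : u * s * u⁻¹ * s⁻¹ ∈ zpowers z) :
    s ∈ zpowers z := by
  by_contra hsz
  have hu2 : u * u = 1 := by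
    have := pow_orderOf_eq_one u
    rwa [hu, pow_two] at this
  have hval : ∀ i : ℕ, s * z ^ i ∈ (S : Subgroup T) ∧ orderOf (s * z ^ i) = 3 ∧ (χ : T → ℂ) (s * z ^ i) = 0 := by
    intro i
    have hm := mul_mem hs (pow_mem hz.1 i)
    have hne : s * z ^ i ∉ zpowers z := fun hh => hsz (by
      simpa using mul_mem hh (inv_mem (pow_mem (mem_zpowers z) i)))
    have ho := orderOf_mem_sylow h hm (fun e => hne (e ▸ one_mem _))
    refine ⟨hm, ho, (hc.three _ ho).resolve_right fun e => ?_⟩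
    rcases IsCtr.eq_or h hc hz ⟨hm, ho, e⟩ with e' | e' <;> rw [e'] at hne
    · exact hne (mem_zpowers z)
    · exact hne (inv_mem (mem_zpowers z))
  have hcz : ∀ i : ℕ, u * z ^ i * u⁻¹ = (u * z * u⁻¹) ^ i := fun i => conj_pow.symm
  have hz3 : z ^ 3 = 1 := hz.2.1 ▸ pow_orderOf_eq_one z
  obtain ⟨m, hm⟩ := (mem_powers_iff_mem_zpowers (y := u * s * u⁻¹ * s⁻¹) (x := z)).2 hfix
  obtain ⟨e, he⟩ := (mem_powers_iff_mem_zpowers (y := u * z * u⁻¹) (x := z)).2 huz
  simp only at hm he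
  have hus : u * s * u⁻¹ = s * z ^ m := by
    have e1 := (IsCtr.central h hc hz hs).pow_right m
    rw [e1.eq, hm]; group
  have hui : ∀ i : ℕ, u * (s * z ^ i) * u⁻¹ = s * z ^ (m + e * i) := fun i => by
    calc u * (s * z ^ i) * u⁻¹ = (u * s * u⁻¹) * (u * z ^ i * u⁻¹) := by group
      _ = _ := by rw [hus, hcz, ← he, ← pow_mul, mul_assoc, ← pow_add]
  have h2 : z ^ (m + e * m) = 1 := by
    have := hui m
    rw [← hus, show u * (u * s * u⁻¹) * u⁻¹ = (u * u) * s * (u * u)⁻¹ by group, hu2, one_mul, inv_one,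
      mul_one] at this
    exact (left_eq_mul.1 this)
  have h3 : 3 ∣ m + e * m := hz.2.1 ▸ orderOf_dvd_of_pow_eq_one h2
  have he3 : e % 3 = 1 ∨ e % 3 = 2 := by
    have : e % 3 ≠ 0 := by
      intro h0
      have e1 : z ^ e = 1 := by rw [pow_eq_pow_mod e hz3, h0, pow_zero]
      rw [e1, eq_comm, mul_inv_eq_one, mul_eq_left] at he
      exact absurd (he ▸ hz.2.1 : orderOf (1 : T) = 3) (by simp)
    omega
  obtain ⟨i, hi⟩ : ∃ i, (m + e * i) % 3 = i % 3 := by
    have hme : (m + (e % 3) * m) % 3 = 0 := by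
      rw [Nat.add_mod, Nat.mul_mod, Nat.mod_mod, ← Nat.mul_mod, ← Nat.add_mod]; omega
    rcases he3 with e1 | e1
    · refine ⟨0, ?_⟩
      rw [e1] at hme
      omega
    · refine ⟨2 * m, ?_⟩
      rw [Nat.add_mod, Nat.mul_mod, e1]
      omega
  refine hc.no_involution _ u (hval i).2.1 (hval i).2.2 hu ?_
  have hfi := hui i
  rw [pow_eq_pow_mod (m + e * i) hz3, hi, ← pow_eq_pow_mod i hz3, mul_inv_eq_iff_eq_mul] at hfi
  exact hfi.symm

theorem not_commute {S : Sylow 3 T} {z g k : T} (hz : IsCtr χ S z) (hg : g ∈ (S : Subgroup T))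
    (hk : k ∈ (S : Subgroup T)) (hgz : g ∉ zpowers z) (hkb : k ∉ zpowers g ⊔ zpowers z) : ¬ Commute g k := by
  intro hcomm
  haveI : Fact (Nat.Prime 3) := ⟨Nat.prime_three⟩
  have hcc : ∀ (m : zpowers g) (n : zpowers k), Commute ((zpowers g).subtype m) ((zpowers k).subtype n) := by
    rintro ⟨_, i, rfl⟩ ⟨_, j, rfl⟩
    exact hcomm.zpow_zpow i j
  let f := MonoidHom.noncommCoprod (zpowers g).subtype (zpowers k).subtype hcc
  have hkey : ∀ p : zpowers g × zpowers k, (p.1 : T) * p.2 ∈ zpowers z → p = 1 := by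
    rintro ⟨x, y⟩ hxy
    simp only at hxy
    have hy : (y : T) ∈ zpowers g ⊔ zpowers z := by
      have : (y : T) = (x : T)⁻¹ * ((x : T) * y) := by group
      rw [this]
      exact mul_mem (mem_sup_left (inv_mem x.2)) (mem_sup_right hxy)
    have hy1 : (y : T) = 1 := by
      by_contra hne
      refine hkb ?_
      have hk1 : k ≠ 1 := fun e => hkb (e ▸ one_mem _)
      have hcard : Nat.card (zpowers k) = 3 := by rw [Nat.card_zpowers, orderOf_mem_sylow h hk hk1]
      have : zpowers (y : T) = zpowers k := Subgroup.eq_of_le_of_card_ge (zpowers_le.2 y.2) (by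
        rw [hcard, Nat.card_zpowers, orderOf_mem_sylow h ((zpowers_le.2 hk) y.2) hne])
      have h2 : k ∈ zpowers (y : T) := by rw [this]; exact mem_zpowers k
      exact (zpowers_le.2 hy) h2
    rw [hy1, mul_one] at hxy
    have hx1 : (x : T) = 1 := by
      by_contra hne
      refine hgz ?_
      have hg1 : g ≠ 1 := fun e => hgz (e ▸ one_mem _)
      have : zpowers (x : T) = zpowers g := Subgroup.eq_of_le_of_card_ge (zpowers_le.2 x.2) (by
        rw [Nat.card_zpowers, Nat.card_zpowers, orderOf_mem_sylow h hg hg1,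
          orderOf_mem_sylow h ((zpowers_le.2 hg) x.2) hne])
      exact (zpowers_le.2 hxy) (by rw [this]; exact mem_zpowers g)
    exact Prod.ext (Subtype.ext hx1) (Subtype.ext hy1)
  have hinj : Function.Injective f := by
    rw [← MonoidHom.ker_eq_bot_iff, eq_bot_iff]
    intro p hp
    rw [MonoidHom.mem_ker, MonoidHom.noncommCoprod_apply] at hp
    exact Subgroup.mem_bot.2 (hkey p (by rw [show (p.1 : T) * p.2 = 1 from hp]; exact one_mem _))
  obtain ⟨d, hd⟩ := CfsgLib.Perm.CharAverage.exists_sum_eq f.range (IsIrr.isCharacter χ.2)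
  have hcard : Nat.card f.range = 9 := by
    have hg1 : g ≠ 1 := fun e => hgz (e ▸ one_mem _)
    have hk1 : k ≠ 1 := fun e => hkb (e ▸ one_mem _)
    rw [← Nat.card_congr (MonoidHom.ofInjective hinj).toEquiv, Nat.card_prod, Nat.card_zpowers,
      Nat.card_zpowers, orderOf_mem_sylow h hg hg1, orderOf_mem_sylow h hk hk1]
  have hval : ∀ w : f.range, (χ : T → ℂ) w = if w = 1 then 6 else 0 := by
    intro w
    by_cases hw : w = 1
    · rw [if_pos hw, hw, OneMemClass.coe_one, hc.deg]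
    · rw [if_neg hw]
      obtain ⟨p, hp⟩ := w.2
      rw [MonoidHom.noncommCoprod_apply] at hp
      have hwS : (w : T) ∈ (S : Subgroup T) := hp ▸ mul_mem ((zpowers_le.2 hg) p.1.2) ((zpowers_le.2 hk) p.2.2)
      have ho := orderOf_mem_sylow h hwS fun e => hw (Subtype.ext e)
      refine (hc.three _ ho).resolve_right fun e => ?_
      have hwz : (p.1 : T) * p.2 ∈ zpowers z := by
        rw [show (p.1 : T) * p.2 = w from hp]
        rcases IsCtr.eq_or h hc hz ⟨hwS, ho, e⟩ with e' | e' <;> rw [e']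
        · exact mem_zpowers z
        · exact inv_mem (mem_zpowers z)
      have := hkey p hwz
      subst this
      exact hw (Subtype.ext (by rw [← hp]; simp))
  rw [Finset.sum_congr rfl (fun w _ => hval w), Finset.sum_ite_eq', if_pos (Finset.mem_univ _), hcard] at hd
  have : (6 : ℕ) = 9 * d := by exact_mod_cast hd
  omega

theorem mem_comm {S : Sylow 3 T} {z s s' : T} (hz : IsCtr χ S z) (hs : s ∈ (S : Subgroup T))
    (hs' : s' ∈ (S : Subgroup T)) : s * s' * s⁻¹ * s'⁻¹ ∈ zpowers z := by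
  haveI : Fact (Nat.Prime 3) := ⟨Nat.prime_three⟩
  set Z := (zpowers z).subgroupOf (S : Subgroup T) with hZ
  have hZn : Z.Normal := ⟨fun n hn a => by
    rw [hZ, mem_subgroupOf] at hn ⊢
    have haz : Commute (a : T) z := IsCtr.central h hc hz a.2
    obtain ⟨i, hi⟩ := hn
    refine ⟨i, ?_⟩
    simp only at hi
    simp only [Subgroup.coe_mul, InvMemClass.coe_inv, ← hi, (haz.zpow_right i).eq, mul_inv_cancel_right]⟩
  haveI := hZn
  have hidx : Nat.card (↥(S : Subgroup T) ⧸ Z) = 3 ^ 2 := by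
    have hZ3 : Nat.card Z = 3 := by
      rw [hZ, Nat.card_congr (subgroupOfEquivOfLe (zpowers_le.2 hz.1)).toEquiv, Nat.card_zpowers, hz.2.1]
    have := Z.card_eq_card_quotient_mul_card_subgroup
    rw [card_sylow_three h S, hZ3] at this
    omega
  have hcomm := IsPGroup.commutative_of_card_eq_prime_sq hidx
    ((⟨s'⁻¹, inv_mem hs'⟩ : ↥(S : Subgroup T)) : ↥(S : Subgroup T) ⧸ Z)
    ((⟨s⁻¹, inv_mem hs⟩ : ↥(S : Subgroup T)) : _ ⧸ Z)
  rw [← QuotientGroup.mk_mul, ← QuotientGroup.mk_mul, QuotientGroup.eq, hZ, mem_subgroupOf] at hcomm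
  simpa [mul_assoc] using hcomm

theorem exists_not_mem_sup {S : Sylow 3 T} {z g : T} (hz : IsCtr χ S z) (hg : g ∈ (S : Subgroup T)) :
    ∃ w ∈ (S : Subgroup T), w ∉ zpowers g ⊔ zpowers z := by
  have hgz : Commute g z := IsCtr.central h hc hz hg
  have hcc : ∀ (m : zpowers g) (n : zpowers z), Commute ((zpowers g).subtype m) ((zpowers z).subtype n) := by
    rintro ⟨_, i, rfl⟩ ⟨_, j, rfl⟩
    exact hgz.zpow_zpow i j
  refine SetLike.not_le_iff_exists.1 fun hle => ?_
  have h1 := Subgroup.card_le_of_le hle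
  have h2 : Nat.card ↥(zpowers g ⊔ zpowers z) ≤ 3 * 3 := by
    rw [← Subgroup.range_subtype (zpowers g), ← Subgroup.range_subtype (zpowers z),
      ← MonoidHom.noncommCoprod_range (comm := hcc)]
    refine (Nat.card_le_card_of_surjective _ (MonoidHom.rangeRestrict_surjective _)).trans ?_
    rw [Nat.card_prod, Nat.card_zpowers, Nat.card_zpowers, hz.2.1]
    refine Nat.mul_le_mul_right _ ?_
    by_cases e : g = 1
    · simp [e]
    · rw [orderOf_mem_sylow h hg e]
  rw [card_sylow_three h] at h1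
  omega

end CfsgLib.Recog.G2Spectrum
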