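import Cfsg.Agent.Lib.Recog.G2Spectrum.Six
import Cfsg.Agent.Lib.Perm.DihedralNormalizer
import Mathlib.Tactic

/-!
Owner: helper14. A group of order `12096` without elements of order 9, 14 or 21 has a normal simple
subgroup of order `6048` with trivial centralizer.
-/

set_option autoImplicit false

namespace CfsgLib.Recog.G2Spectrum

open Subgroup
open scoped commutatorElement

variable {G : Type*} [Group G] [Finite G]

theorem degree_two_check : ∀ q r : Fin 64,
    (64 * q.val + r.val) ∣ 4032 → ((64 * q.val + r.val + 1) ∣ 4032 → (64 * q.val + r.val) % 7 = 1 →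
      64 * q.val + r.val = 1 ∨ 64 * q.val + r.val = 8) ∧
      ((64 * q.val + r.val - 1) ∣ 4032 → (64 * q.val + r.val) % 7 = 6 → 64 * q.val + r.val ≤ 1) := by
  decide +kernel

theorem degree_two_list (y : Fin 4033) (hy : y.val ∣ 4032) :
    ((y.val + 1) ∣ 4032 → y.val % 7 = 1 → y.val = 1 ∨ y.val = 8) ∧
      ((y.val - 1) ∣ 4032 → y.val % 7 = 6 → y.val ≤ 1) := by
  have hlt := y.2
  by_cases h : y.val < 4032
  · have e : 64 * (y.val / 64) + y.val % 64 = y.val := Nat.div_add_mod _ _
    have := degree_two_check ⟨y.val / 64, by omega⟩ ⟨y.val % 64, Nat.mod_lt _ (by norm_num)⟩ (by rwa [e])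
    simp only [e] at this
    exact this
  · have e : y.val = 4032 := by omega
    rw [e]
    norm_num

theorem card_sup_inf {H : Type*} [Group H] (A B : Subgroup H) [B.Normal] :
    Nat.card ↥(A ⊔ B) * Nat.card ↥(A ⊓ B) = Nat.card A * Nat.card B := by
  have h1 : Nat.card B * B.relIndex (A ⊔ B) = Nat.card ↥(A ⊔ B) := by
    rw [← Subgroup.relIndex_bot_left, Subgroup.relIndex_mul_relIndex _ _ _ bot_le le_sup_right,
      Subgroup.relIndex_bot_left]
  have h2 : Nat.card ↥(A ⊓ B) * (A ⊓ B).relIndex A = Nat.card A := by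
    rw [← Subgroup.relIndex_bot_left, Subgroup.relIndex_mul_relIndex _ _ _ bot_le inf_le_left,
      Subgroup.relIndex_bot_left]
  rw [Subgroup.inf_relIndex_left] at h2
  rw [Subgroup.relIndex_sup_right] at h1
  rw [← h1, ← h2]
  ring

theorem le_normalizer_sup' {H : Type*} [Group H] {A B : Subgroup H} :
    normalizer (A : Set H) ⊓ normalizer (B : Set H) ≤ normalizer ((A ⊔ B : Subgroup H) : Set H) := by
  have key : ∀ t ∈ normalizer (A : Set H) ⊓ normalizer (B : Set H), ∀ y ∈ A ⊔ B, t * y * t⁻¹ ∈ A ⊔ B := by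
    intro t ht y hy
    have : A ⊔ B ≤ (A ⊔ B).comap (MulAut.conj t).toMonoidHom :=
      sup_le (fun a ha => mem_sup_left ((mem_normalizer_iff.1 ht.1 a).1 ha))
        (fun b hb => mem_sup_right ((mem_normalizer_iff.1 ht.2 b).1 hb))
    exact this hy
  intro t ht
  rw [mem_normalizer_iff]
  intro y
  refine ⟨key t ht y, fun hy => ?_⟩
  have := key t⁻¹ (inv_mem ht) _ hy
  simpa [mul_assoc] using this

theorem no_eight_square : ∀ c : Fin 47, ∀ w : Fin 17, w.val ≠ 0 → c.val * c.val ≠ 8 * (w.val * w.val) := by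
  decide +kernel

/-- the Sylow subgroup has order seven -/
theorem card_sylow (hG : Nat.card G = 12096) [Fact (Nat.Prime 7)] (P : Sylow 7 G) :
    Nat.card (P : Subgroup G) = 7 := by
  rw [CfsgLib.Perm.sylow_card_eq P (k := 1) (m := 1728) (by rw [hG]; norm_num) (by norm_num), pow_one]

theorem fixed_count [Fact (Nat.Prime 7)] (hG : Nat.card G = 12096) (hnb : NoBad G) (P : Sylow 7 G)
    (K : Subgroup G) (hPK : (P : Subgroup G) ≤ normalizer (K : Set G)) (h7 : ¬ 7 ∣ Nat.card K) :
    Nat.card K % 7 = 1 := by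
  have hP := card_sylow hG P
  have hC := hnb.centralizer_sylow_seven (m := 1728) (by rw [hG]) dvd_rfl P hP
  let ρ : (P : Subgroup G) →* MulAut K := K.normalizerMonoidHom.comp (Subgroup.inclusion hPK)
  letI : MulAction (P : Subgroup G) K := MulAction.compHom K ρ
  have hfix : ∀ k ∈ MulAction.fixedPoints (P : Subgroup G) K, k = 1 := by
    intro k hk
    have hkC : (k : G) ∈ centralizer ((P : Subgroup G) : Set G) := by
      rw [mem_centralizer_iff]
      intro p hp
      have e : p * (k : G) * p⁻¹ = k := congrArg Subtype.val (hk ⟨p, hp⟩)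
      exact mul_inv_eq_iff_eq_mul.1 e
    rw [hC] at hkC
    have h1 : orderOf (k : G) ∣ 7 := hP ▸ Subgroup.orderOf_dvd_natCard _ hkC
    rcases (Nat.dvd_prime (by norm_num)).1 h1 with e | e
    · exact Subtype.ext (orderOf_eq_one_iff.1 e)
    · exact absurd (e ▸ Subgroup.orderOf_dvd_natCard K k.2) h7
  have hm := (P.isPGroup').card_modEq_card_fixedPoints K
  have h1 : Nat.card (MulAction.fixedPoints (P : Subgroup G) K) = 1 := by
    rw [Nat.card_eq_one_iff_unique]
    exact ⟨⟨fun a b => Subtype.ext ((hfix a a.2).trans (hfix b b.2).symm)⟩, ⟨⟨1, fun g => map_one (ρ g)⟩⟩⟩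
  rw [h1] at hm
  exact hm

/-- a nontrivial Sylow 3-subgroup of a normal subgroup is normalised by no element of order seven -/
theorem not_seven_dvd_normalizer [Fact (Nat.Prime 7)] (hG : Nat.card G = 12096) (hnb : NoBad G) (Q : Subgroup G)
    (hQ : Nat.card Q = 9) : ¬ 7 ∣ Nat.card (normalizer (Q : Set G)) := by
  intro h7
  obtain ⟨x, hx⟩ := exists_prime_orderOf_dvd_card' (G := normalizer (Q : Set G)) 7 h7
  have hx' : orderOf (x : G) = 7 := by rw [Subgroup.orderOf_coe, hx]
  obtain ⟨P, hP⟩ := (IsPGroup.of_card (p := 7) (n := 1)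
    (by rw [Nat.card_zpowers, hx', pow_one] : Nat.card (zpowers (x : G)) = 7 ^ 1)).exists_le_sylow
  have hPe : zpowers (x : G) = (P : Subgroup G) :=
    Subgroup.eq_of_le_of_card_ge hP (by rw [card_sylow hG P, Nat.card_zpowers, hx'])
  have := fixed_count hG hnb P Q (hPe ▸ zpowers_le.2 x.2) (by rw [hQ]; norm_num)
  omega

theorem eq_bot_of_normal [Fact (Nat.Prime 7)] (hG : Nat.card G = 12096) (hnb : NoBad G) (K : Subgroup G)
    [hK : K.Normal] (h7 : ¬ 7 ∣ Nat.card K) : K = ⊥ := by
  have key : ∀ (L : Subgroup G), L.Normal → ¬ 7 ∣ Nat.card L → Nat.card L ∣ 1728 →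
      Nat.card L = 1 ∨ Nat.card L = 8 := by
    intro L hL h7 hd
    haveI := hL
    obtain ⟨P⟩ := (inferInstance : Nonempty (Sylow 7 G))
    have hmod := fixed_count hG hnb P L (by rw [normalizer_eq_top]; exact le_top) h7
    have hlt : Nat.card L < 1729 := Nat.lt_succ_of_le (Nat.le_of_dvd (by norm_num) hd)
    have hlist : ∀ y : Fin 1729, y.val ∣ 1728 → y.val % 7 = 1 →
        y.val = 1 ∨ y.val = 8 ∨ y.val = 64 ∨ y.val = 36 ∨ y.val = 288 := by decide +kernel
    rcases hlist ⟨_, hlt⟩ hd hmod with e | e | e | e | e <;> simp only at e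
    · exact Or.inl e
    · exact Or.inr e
    · exfalso
      -- the quotient of order 189 has a normal Sylow 7-subgroup
      have hPL : (P : Subgroup G) ⊓ L = ⊥ := Subgroup.inf_eq_bot_of_coprime (by
        rw [card_sylow hG P, e]; norm_num)
      haveI : Fact (Nat.Prime 7) := ⟨by norm_num⟩
      let q := QuotientGroup.mk' L
      obtain ⟨Pq, hPq⟩ : ∃ Pq : Sylow 7 (G ⧸ L), (Pq : Subgroup (G ⧸ L)) = (P : Subgroup G).map q :=
        ⟨P.mapSurjective (QuotientGroup.mk'_surjective L), rfl⟩
      have hcq : Nat.card (G ⧸ L) = 189 := by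
        have := L.card_eq_card_quotient_mul_card_subgroup
        rw [hG, e] at this
        omega
      have hs1 := card_sylow_modEq_one 7 (G ⧸ L)
      have hsd : Nat.card (Sylow 7 (G ⧸ L)) ∣ 189 := hcq ▸ CfsgLib.Perm.card_sylow_dvd_card 7
      have hlt' : Nat.card (Sylow 7 (G ⧸ L)) < 190 := Nat.lt_succ_of_le (Nat.le_of_dvd (by norm_num) hsd)
      have hlist' : ∀ y : Fin 190, y.val ∣ 189 → y.val % 7 = 1 → y.val = 1 := by decide +kernel
      have hone := hlist' ⟨_, hlt'⟩ hsd hs1
      haveI : Subsingleton (Sylow 7 (G ⧸ L)) := (Nat.card_eq_one_iff_unique.1 hone).1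
      have hnq : ((P : Subgroup G).map q).Normal := hPq ▸ Sylow.normal_of_subsingleton Pq
      set M := ((P : Subgroup G).map q).comap q with hM
      haveI : M.Normal := hnq.comap q
      have hPM : (P : Subgroup G) ≤ M := le_comap_map _ _
      have hfr := Sylow.normalizer_sup_eq_top (P.subtype hPM)
      rw [Sylow.coe_subtype, Subgroup.map_subgroupOf_eq_of_le hPM] at hfr
      have hMe : M = (P : Subgroup G) ⊔ L := by
        rw [hM, comap_map_eq, QuotientGroup.ker_mk']
      rw [hMe, ← sup_assoc, sup_of_le_left (Subgroup.le_normalizer)] at hfr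
      have hC := hnb.centralizer_sylow_seven (m := 1728) (by rw [hG]) dvd_rfl P (card_sylow hG P)
      obtain ⟨k, hk6, -, -, hN, -⟩ := card_normalizer_seven (m := 1728) (by rw [hG]) P (card_sylow hG P) hC
      have hle : Nat.card ↥(normalizer ((P : Subgroup G) : Set G) ⊔ L) ≤
          Nat.card ↥(normalizer ((P : Subgroup G) : Set G)) * Nat.card L := by
        rw [← card_sup_inf]
        exact Nat.le_mul_of_pos_right _ Nat.card_pos
      rw [hfr, Subgroup.card_top, hG, hN, e] at hle
      have := Nat.le_of_dvd (by norm_num) hk6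
      omega
    all_goals
      exfalso
      haveI : Fact (Nat.Prime 3) := ⟨Nat.prime_three⟩
      obtain ⟨Q⟩ := (inferInstance : Nonempty (Sylow 3 L))
      have hQ : Nat.card (Q : Subgroup L) = 9 := by
        rw [CfsgLib.Perm.sylow_card_eq Q (k := 2) (m := Nat.card L / 9) (by rw [e]; norm_num) (by rw [e]; norm_num)]
        norm_num
      have hfr := Sylow.normalizer_sup_eq_top Q
      set Q' := (Q : Subgroup L).map L.subtype with hQ'
      have hQ'c : Nat.card Q' = 9 := by
        rw [hQ', Subgroup.card_subtype, hQ]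
      have hle : Nat.card ↥(normalizer (Q' : Set G) ⊔ L) ∣
          Nat.card ↥(normalizer (Q' : Set G)) * Nat.card L := by
        rw [← card_sup_inf]
        exact Dvd.intro _ rfl
      rw [hfr, Subgroup.card_top, hG, e] at hle
      refine not_seven_dvd_normalizer hG hnb Q' hQ'c ?_
      have h7' : (7 : ℕ) ∣ Nat.card ↥(normalizer (Q' : Set G)) * _ := (by norm_num : 7 ∣ 12096).trans hle
      exact ((Nat.Prime.dvd_mul (by norm_num)).1 h7').resolve_right (by norm_num)
  have hdvd : ∀ (L : Subgroup G), ¬ 7 ∣ Nat.card L → Nat.card L ∣ 1728 := by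
    intro L hL
    have := L.card_subgroup_dvd_card
    rw [hG, show (12096 : ℕ) = 1728 * 7 by norm_num] at this
    exact ((Nat.Prime.coprime_iff_not_dvd (by norm_num)).2 hL).symm.dvd_of_dvd_mul_right this
  rcases key K hK h7 (hdvd K h7) with e | e
  · exact Subgroup.card_eq_one.1 e
  · exfalso
    let φ : G →* Equiv.Perm K := (MulAction.toPermHom (MulAut K) K).comp MulAut.conjNormal
    have hker : ∀ g ∈ φ.ker, ∀ k : K, g * (k : G) * g⁻¹ = k := by
      intro g hg k
      have := congrArg Subtype.val (Equiv.congr_fun hg k)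
      exact this
    have h7' : ¬ 7 ∣ Nat.card φ.ker := by
      intro hd
      obtain ⟨x, hx⟩ := exists_prime_orderOf_dvd_card' (G := φ.ker) 7 hd
      obtain ⟨k, hk⟩ := exists_prime_orderOf_dvd_card' (G := K) 2 (by rw [e]; norm_num)
      refine hnb.not_seven_dvd_centralizer (g := (k : G)) (Or.inl (by rw [Subgroup.orderOf_coe, hk])) ?_
      have hxc : (x : G) ∈ centralizer ({(k : G)} : Set G) :=
        mem_centralizer_singleton_iff.2 (mul_inv_eq_iff_eq_mul.1 (hker x x.2 k))
      have := Subgroup.orderOf_dvd_natCard _ hxc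
      rwa [Subgroup.orderOf_coe, hx] at this
    have h1 : Nat.card φ.ker * Nat.card φ.range = 12096 := by
      rw [← hG, ← φ.ker.card_mul_index, Subgroup.index_ker]
    have h2 : Nat.card φ.range ∣ 40320 := by
      have := φ.range.card_subgroup_dvd_card
      rwa [Nat.card_perm, e, show Nat.factorial 8 = 40320 from rfl] at this
    rcases key φ.ker inferInstance h7' (hdvd _ h7') with e' | e' <;> rw [e'] at h1
    · rw [show Nat.card φ.range = 12096 by omega] at h2; norm_num at h2
    · rw [show Nat.card φ.range = 1512 by omega] at h2; norm_num at h2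

theorem exists_hyp48 (hG : Nat.card G = 12096) (hnb : NoBad G) :
    ∃ T : Subgroup G, T.Normal ∧ Hyp48 T ∧ centralizer (T : Set G) = ⊥ := by
  classical
  haveI : Fact (Nat.Prime 7) := ⟨by norm_num⟩
  obtain ⟨P⟩ := (inferInstance : Nonempty (Sylow 7 G))
  have hP := card_sylow hG P
  have hC := hnb.centralizer_sylow_seven (m := 1728) (by rw [hG]) dvd_rfl P hP
  obtain ⟨k, hk6, -, hkm, hN, -⟩ := card_normalizer_seven (m := 1728) (by rw [hG]) P hP hC
  obtain rfl : k = 6 := by
    have := Nat.le_of_dvd (by norm_num) hk6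
    omega
  set T := normalClosure ((P : Subgroup G) : Set G) with hT
  haveI hTn : T.Normal := normalClosure_normal
  have hPT : (P : Subgroup G) ≤ T := subset_normalClosure
  have hsylT : ∀ Q : Sylow 7 G, (Q : Subgroup G) ≤ T := by
    intro Q
    obtain ⟨g, rfl⟩ := MulAction.exists_smul_eq G P Q
    intro y hy
    rw [Sylow.coe_subgroup_smul, mem_pointwise_smul_iff_inv_smul_mem] at hy
    have hz := hTn.conj_mem _ (hPT hy) g
    simpa [mul_assoc] using hz
  have h7T : 7 ∣ Nat.card T := hP ▸ Subgroup.card_dvd_of_le hPT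
  have hcent : centralizer (T : Set G) = ⊥ := by
    by_cases h7 : 7 ∣ Nat.card (centralizer (T : Set G))
    · exfalso
      obtain ⟨x, hx⟩ := exists_prime_orderOf_dvd_card' (G := centralizer (T : Set G)) 7 h7
      have hx' : orderOf (x : G) = 7 := by rw [Subgroup.orderOf_coe, hx]
      obtain ⟨Q, hQ⟩ := (IsPGroup.of_card (p := 7) (n := 1)
        (by rw [Nat.card_zpowers, hx', pow_one] : Nat.card (zpowers (x : G)) = 7 ^ 1)).exists_le_sylow
      have hQe : zpowers (x : G) = (Q : Subgroup G) :=
        Subgroup.eq_of_le_of_card_ge hQ (by rw [card_sylow hG Q, Nat.card_zpowers, hx'])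
      have hQC := hnb.centralizer_sylow_seven (m := 1728) (by rw [hG]) dvd_rfl Q (card_sylow hG Q)
      have hTQ : T ≤ (Q : Subgroup G) := by
        rw [← hQC]
        intro t ht
        rw [mem_centralizer_iff]
        intro y hy
        rw [← hQe] at hy
        obtain ⟨i, rfl⟩ := hy
        exact (Commute.zpow_left ((mem_centralizer_iff.1 x.2 t ht).symm) i).eq
      have hPn : (P : Subgroup G).Normal := by
        have : T = (P : Subgroup G) :=
          (Subgroup.eq_of_le_of_card_ge hPT ((Subgroup.card_le_of_le hTQ).trans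
            (by rw [card_sylow hG Q, hP]))).symm
        exact this ▸ hTn
      rw [normalizer_eq_top, card_top, hG] at hN
      norm_num at hN
    · exact eq_bot_of_normal hG hnb _ h7
  have hsimple : IsSimpleGroup T := by
    haveI : Nontrivial T := Finite.one_lt_card_iff_nontrivial.1 (by
      have := Nat.le_of_dvd Nat.card_pos h7T; omega)
    refine ⟨fun M hM => ?_⟩
    by_cases h7 : 7 ∣ Nat.card M
    · right
      obtain ⟨x, hx⟩ := exists_prime_orderOf_dvd_card' (G := M) 7 h7
      have hx' : orderOf (((x : T) : G)) = 7 := by rw [Subgroup.orderOf_coe, Subgroup.orderOf_coe, hx]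
      -- the Sylow subgroups of `T` are conjugate, so lie in `M`
      haveI : Fact (Nat.Prime 7) := ⟨by norm_num⟩
      have hcardT : ∀ R : Sylow 7 T, Nat.card (R : Subgroup T) = 7 := by
        intro R
        obtain ⟨c, hc⟩ := h7T
        rw [CfsgLib.Perm.sylow_card_eq R (k := 1) (m := c) (by rw [hc, pow_one]) ?_, pow_one]
        intro hdc
        have := Nat.mul_dvd_mul_left 7 hdc
        rw [← hc] at this
        have := this.trans T.card_subgroup_dvd_card
        rw [hG] at this
        norm_num at this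
      obtain ⟨R, hR⟩ := (IsPGroup.of_card (p := 7) (n := 1)
        (by rw [Nat.card_zpowers, Subgroup.orderOf_coe, hx, pow_one] :
          Nat.card (zpowers (x : T)) = 7 ^ 1)).exists_le_sylow
      have hRe : zpowers (x : T) = (R : Subgroup T) :=
        Subgroup.eq_of_le_of_card_ge hR (by rw [hcardT R, Nat.card_zpowers, Subgroup.orderOf_coe, hx])
      have hRM : ∀ R' : Sylow 7 T, (R' : Subgroup T) ≤ M := by
        intro R'
        obtain ⟨g, rfl⟩ := MulAction.exists_smul_eq T R R'
        intro y hy
        rw [Sylow.coe_subgroup_smul, mem_pointwise_smul_iff_inv_smul_mem] at hy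
        have hz := hM.conj_mem _ ((zpowers_le.2 x.2) (hRe ▸ hy)) g
        simpa [mul_assoc] using hz
      have hall : ∀ Q : Sylow 7 G, (Q : Subgroup G) ≤ M.map T.subtype := by
        intro Q y hy
        exact ⟨⟨y, hsylT Q hy⟩, hRM (Q.subtype (hsylT Q)) (mem_subgroupOf.2 hy), rfl⟩
      have hle : T ≤ M.map T.subtype := by
        show closure (Group.conjugatesOfSet ((P : Subgroup G) : Set G)) ≤ _
        rw [closure_le]
        intro y hy
        rw [Group.mem_conjugatesOfSet_iff] at hy
        obtain ⟨p, hp, hc⟩ := hy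
        obtain ⟨g, rfl⟩ := isConj_iff.1 hc
        refine hall (g • P) ?_
        rw [Sylow.coe_subgroup_smul, mem_pointwise_smul_iff_inv_smul_mem]
        simp only [SetLike.mem_coe] at hp
        simpa [mul_assoc] using hp
      rw [eq_top_iff]
      intro y _
      obtain ⟨m, hm, e⟩ := hle y.2
      rwa [← Subtype.ext (a1 := m) (a2 := y) e]
    · left
      -- a maximal normal subgroup of order prime to seven is normal in the whole group
      let S : Set (Subgroup G) := {L | L ≤ T ∧ T ≤ normalizer (L : Set G) ∧ ¬ 7 ∣ Nat.card L}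
      have hM' : M.map T.subtype ∈ S := by
        refine ⟨map_subtype_le M, ?_, by rwa [Subgroup.card_subtype]⟩
        intro t ht
        rw [mem_normalizer_iff]
        intro n
        constructor
        · rintro ⟨m, hm, rfl⟩
          exact ⟨⟨t, ht⟩ * m * ⟨t, ht⟩⁻¹, hM.conj_mem m hm _, rfl⟩
        · rintro ⟨m, hm, e⟩
          refine ⟨⟨t, ht⟩⁻¹ * m * ⟨t, ht⟩, ?_, ?_⟩
          · simpa using hM.conj_mem m hm (⟨t, ht⟩⁻¹)
          · simp only [Subgroup.coe_subtype] at e ⊢
            simp only [Subgroup.coe_mul, InvMemClass.coe_inv, e]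
            group
      obtain ⟨L, hML, ⟨hLT, hTL, hL7⟩, hLmax⟩ : ∃ L, M.map T.subtype ≤ L ∧ L ∈ S ∧ ∀ L' ∈ S, L ≤ L' → L' = L := by
        obtain ⟨L, hle, hmax⟩ := (Set.toFinite S).exists_le_maximal hM'
        exact ⟨L, hle, hmax.prop, fun L' hL' h => le_antisymm (hmax.le_of_ge hL' h) h⟩
      haveI hLn : L.Normal := by
        refine ⟨fun n hn g => ?_⟩
        set L' := L.map (MulAut.conj g).toMonoidHom with hL'
        have hn' : g * n * g⁻¹ ∈ L' := ⟨n, hn, rfl⟩
        have hL'T : L' ≤ T := by
          rintro _ ⟨l, hl, rfl⟩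
          exact hTn.conj_mem l (hLT hl) g
        have hTL' : T ≤ normalizer (L' : Set G) := by
          intro t ht
          have h1 : g⁻¹ * t * g ∈ normalizer (L : Set G) := hTL (by simpa using hTn.conj_mem t ht g⁻¹)
          rw [mem_normalizer_iff] at h1 ⊢
          intro y
          constructor
          · rintro ⟨l, hl, rfl⟩
            refine ⟨_, (h1 l).1 hl, ?_⟩
            simp only [MulEquiv.coe_toMonoidHom, MulAut.conj_apply]
            group
          · rintro ⟨l, hl, e⟩
            refine ⟨g⁻¹ * y * g, (h1 _).2 ?_, by simp only [MulEquiv.coe_toMonoidHom, MulAut.conj_apply]; group⟩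
            simp only [MulEquiv.coe_toMonoidHom, MulAut.conj_apply] at e
            rw [show g⁻¹ * t * g * (g⁻¹ * y * g) * (g⁻¹ * t * g)⁻¹ = g⁻¹ * (t * y * t⁻¹) * g by group, ← e]
            rwa [show g⁻¹ * (g * l * g⁻¹) * g = l by group]
        have hLsub : (L.subgroupOf T).Normal := Subgroup.normal_subgroupOf_iff_le_normalizer hLT |>.2 hTL
        have hL'sub : (L'.subgroupOf T).Normal := Subgroup.normal_subgroupOf_iff_le_normalizer hL'T |>.2 hTL'
        have hsup : L ⊔ L' ∈ S := by
          refine ⟨sup_le hLT hL'T, (le_inf hTL hTL').trans le_normalizer_sup', ?_⟩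
          intro h7
          have hc : Nat.card ↥(L ⊔ L') = Nat.card ↥(L.subgroupOf T ⊔ L'.subgroupOf T) := by
            rw [← Subgroup.subgroupOf_sup hLT hL'T, Nat.card_congr (subgroupOfEquivOfLe (sup_le hLT hL'T)).toEquiv]
          haveI := hL'sub
          have hd : Nat.card ↥(L.subgroupOf T ⊔ L'.subgroupOf T) ∣
              Nat.card ↥(L.subgroupOf T) * Nat.card ↥(L'.subgroupOf T) := by
            rw [← card_sup_inf]
            exact Dvd.intro _ rfl
          rw [Nat.card_congr (subgroupOfEquivOfLe hLT).toEquiv,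
            Nat.card_congr (subgroupOfEquivOfLe hL'T).toEquiv, ← hc,
            show Nat.card L' = Nat.card L from (Nat.card_congr
              (L.equivMapOfInjective _ (MulAut.conj g).injective).toEquiv).symm] at hd
          rcases (Nat.Prime.dvd_mul (by norm_num)).1 (h7.trans hd) with e | e <;> exact hL7 e
        have heq := hLmax _ hsup le_sup_left
        exact heq ▸ mem_sup_right hn'
      have hLbot := eq_bot_of_normal hG hnb L hL7
      rw [hLbot, le_bot_iff, Subgroup.map_eq_bot_iff_of_injective _ T.subtype_injective] at hML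
      exact hML
  refine ⟨T, hTn, ⟨hsimple, ?_, hnb.of_injective T.subtype T.subtype_injective⟩, hcent⟩
  -- the order
  obtain ⟨m, hm⟩ := h7T
  set PT := P.subtype hPT with hPTdef
  have hPTc : Nat.card (PT : Subgroup T) = 7 := by
    rw [hPTdef, Sylow.coe_subtype, Nat.card_congr (subgroupOfEquivOfLe hPT).toEquiv, hP]
  have hm1728 : m ∣ 1728 := by
    have := T.card_subgroup_dvd_card
    rw [hG, hm, show (12096 : ℕ) = 7 * 1728 by norm_num] at this
    exact (Nat.mul_dvd_mul_iff_left (by norm_num)).1 this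
  have hnbT := hnb.of_injective T.subtype T.subtype_injective
  have hCT := hnbT.centralizer_sylow_seven hm hm1728 PT hPTc
  obtain ⟨k, hk6, hkm', hkmod, hNT, -⟩ := card_normalizer_seven hm PT hPTc hCT
  -- Frattini
  have hfr := Sylow.normalizer_sup_eq_top PT
  rw [hPTdef, Sylow.coe_subtype, Subgroup.map_subgroupOf_eq_of_le hPT] at hfr
  have hinf : Nat.card ↥(normalizer ((P : Subgroup G) : Set G) ⊓ T) = 7 * k := by
    rw [← hNT, hPTdef, Sylow.coe_subtype, ← subgroupOf_normalizer_eq hPT, ← inf_subgroupOf_right,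
      Nat.card_congr (subgroupOfEquivOfLe inf_le_right).toEquiv]
  have hmk : m * 6 = 1728 * k := by
    have := card_sup_inf (normalizer ((P : Subgroup G) : Set G)) T
    rw [hfr, Subgroup.card_top, hG, hinf, hN, hm] at this
    linarith
  have hk2 : k = 1 ∨ k = 2 ∨ k = 3 ∨ k = 6 := by
    have hlt : k < 7 := Nat.lt_succ_of_le (Nat.le_of_dvd (by norm_num) hk6)
    interval_cases k <;> omega
  haveI := hsimple
  have hne : ¬ IsPGroup 7 T := by
    intro hp
    obtain ⟨j, hj⟩ := hp.exists_card_eq
    rcases hk2 with rfl | rfl | rfl | rfl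
    all_goals
      have h2 : 2 ∣ Nat.card T := by rw [hm]; exact Dvd.dvd.mul_left (by omega) 7
      rw [hj] at h2
      exact absurd (Nat.prime_two.dvd_of_dvd_pow h2) (by norm_num)
  rcases hk2 with rfl | rfl | rfl | rfl
  · exfalso
    refine CfsgLib.Perm.not_normalizer_le_centralizer PT (by rw [hm]; exact Dvd.intro _ rfl) hne ?_
    rw [hCT]
    exact le_of_eq (Subgroup.eq_of_le_of_card_ge Subgroup.le_normalizer (by rw [hNT, hPTc])).symm
  · exfalso
    obtain ⟨x, v, u, -, hx1, -, hxd, hxd1, hx7, heq, hv, -⟩ :=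
      CfsgLib.Perm.exists_degree_of_card_normalizer_two_mul' (by norm_num) PT hPTc hne (by rw [hNT])
    have hT : Nat.card T = 4032 := by omega
    rw [hT] at hxd hxd1 heq
    set C := Nat.card (centralizer ({u} : Set T))
    have hC : 0 < C := Nat.card_pos
    have hlt : x.natAbs < 4033 := Nat.lt_succ_of_le (Nat.le_of_dvd (by norm_num) hxd)
    obtain ⟨hp, hq⟩ := degree_two_list ⟨_, hlt⟩ hxd
    simp only at hp hq
    rcases Int.natAbs_eq x with e | e
    · have h1 : (x + 1).natAbs = x.natAbs + 1 := by omega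
      rcases hp (h1 ▸ hxd1) (by omega) with e' | e'
      · exact hx1 (by omega)
      · have hx8 : x = 8 := by omega
        subst hx8
        have hw : ((8 : ℤ) - v).natAbs < 17 := by omega
        have hc2 : ((C * C : ℕ) : ℤ) = ((8 * (((8 : ℤ) - v).natAbs * ((8 : ℤ) - v).natAbs) : ℕ) : ℤ) := by
          push_cast
          rw [abs_mul_abs_self]
          push_cast at heq
          rw [pow_two, pow_two] at heq
          linarith
        have hc2' := Int.ofNat.inj hc2
        have hC47 : C < 47 := by nlinarith [Nat.mul_le_mul (Nat.le_of_lt_succ hw) (Nat.le_of_lt_succ hw)]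
        refine no_eight_square ⟨C, hC47⟩ ⟨_, hw⟩ (fun e0 => ?_) hc2'
        simp only at e0
        rw [e0] at hc2'
        simp at hc2'
        omega
    · by_cases h0 : x.natAbs ≤ 1
      · have : x = 0 ∨ x = -1 := by omega
        rcases this with rfl | rfl
        · norm_num at hxd
        · omega
      · have h1 : (x + 1).natAbs = x.natAbs - 1 := by omega
        exact h0 (hq (h1 ▸ hxd1) (by omega))
  · omega
  · exfalso
    haveI := Fintype.ofFinite T
    have hT : Nat.card T = 12096 := by omega
    have hperf : _root_.commutator T = ⊤ := by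
      rcases (inferInstance : (_root_.commutator T).Normal).eq_bot_or_eq_top with h | h
      · exfalso
        have hcomm : ∀ a b : T, a * b = b * a := fun a b => by
          have : ⁅a, b⁆ ∈ _root_.commutator T := commutator_mem_commutator (mem_top a) (mem_top b)
          rw [h, mem_bot] at this
          exact commutatorElement_eq_one_iff_mul_comm.1 this
        have h1 : (PT : Subgroup T).Normal :=
          ⟨fun a ha g => by rw [hcomm g a, mul_assoc, mul_inv_cancel, mul_one]; exact ha⟩
        rcases h1.eq_bot_or_eq_top with e | e <;> rw [e] at hPTc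
        · rw [card_bot] at hPTc; norm_num at hPTc
        · rw [card_top, hT] at hPTc; norm_num at hPTc
      · exact h
    exact not_normalizer_six hT hnbT PT hPTc hCT hNT hperf

end CfsgLib.Recog.G2Spectrum
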