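import Cfsg.Agent.Lib.Recog.G2Spectrum.Seven
import Cfsg.Agent.Lib.Recog.G2Spectrum.Reduction
import Cfsg.Agent.Lib.Lie.G2Two
import Cfsg.Agent.S1057
import Cfsg.Agent.S2366
import Mathlib.FieldTheory.Finite.GaloisField
import Mathlib.Tactic

/-!
Owner: helper14. The group `G₂(2)` has order `12096` and no elements of order 9, 14 or 21.
-/

set_option autoImplicit false

namespace CfsgLib.Recog.G2Spectrum

open Subgroup CfsgLib.Lie.G2Two

theorem card_G2 : Nat.card G2 = 12096 := by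
  rw [Cfsg.Agent.S1059.result (q := 2) (ZMod.card 2)]
  norm_num

theorem commutator_facts : (commutator G2).index = 2 ∧ Nat.card (commutator G2) = 6048 ∧
    ∀ g : commutator G2, orderOf g ∣ 4 ∨ orderOf g ∣ 12 ∨ orderOf g ∣ 8 ∨ orderOf g ∣ 7 := by
  classical
  haveI : Fact (Nat.Prime 3) := ⟨Nat.prime_three⟩
  let K := GaloisField 3 2
  haveI := Fintype.ofFinite K
  have hK : Fintype.card K = 9 := by
    rw [← Nat.card_eq_fintype_card, GaloisField.card 3 2 (by norm_num)]; norm_num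
  have hK' : Fintype.card K = 3 ^ 2 := by rw [hK]; norm_num
  haveI : Finite G2 := inferInstance
  obtain ⟨ψ⟩ := nonempty_commutator_equiv (K := K) hK
  have hSU : Nat.card (Cfsg.SU 3 K 3) = 6048 := by
    have := CfsgLib.Classical.Herm.card_SU hK' 3 (by norm_num)
    norm_num [Finset.prod_range_succ, Nat.even_iff] at this
    rw [Nat.card_eq_fintype_card]
    omega
  have hcen : Subgroup.center (Cfsg.SU 3 K 3) = ⊥ := by
    rw [← Subgroup.card_le_one_iff_eq_bot, CfsgLib.Classical.Herm.card_center_SU hK' 3 (le_refl 3)]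
    norm_num
  have hcard : Nat.card (commutator G2) = 6048 := by
    rw [Nat.card_congr ψ.toEquiv, ← hSU]
    exact Nat.card_congr (((QuotientGroup.quotientMulEquivOfEq hcen).trans QuotientGroup.quotientBot).toEquiv)
  refine ⟨?_, hcard, fun g => ?_⟩
  · have := (commutator G2).index_mul_card
    rw [hcard, card_G2] at this
    exact Nat.eq_of_mul_eq_mul_right (show 0 < 6048 by norm_num) (this.trans (show 12096 = 2 * 6048 by norm_num))
  · have hr := Cfsg.Agent.S2366.result (F := K) 3 (by norm_num) 3 hK'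
    have hm : orderOf (ψ g) ∈ Set.range (orderOf : Cfsg.PSU 3 K 3 → ℕ) := ⟨_, rfl⟩
    rw [hr, ψ.orderOf_eq] at hm
    simp only [Set.mem_union, Set.mem_setOf_eq] at hm
    norm_num at hm
    tauto

theorem mem_commutator_of_odd (g : G2) {n : ℕ} (hn : orderOf g = 2 * n + 1) : g ∈ commutator G2 := by
  obtain ⟨hidx, -, -⟩ := commutator_facts
  haveI : Finite G2 := inferInstance
  have h2 : g ^ 2 ∈ commutator G2 := Subgroup.sq_mem_of_index_two hidx g
  have e : g = (g ^ 2) ^ (n + 1) := by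
    rw [← pow_mul, show 2 * (n + 1) = orderOf g + 1 by omega, pow_succ, pow_orderOf_eq_one, one_mul]
  rw [e]
  exact pow_mem h2 _

/-- the element of order seven -/
def x7 : G2 := xG 2 * (xG 3 * xG 1)

/-- its action -/
def p7 (s : ℕ) : ℕ := pRoot 2 (pRoot 3 (pRoot 1 s))

theorem p7_check : (∀ s : Fin 63, p7 (p7 (p7 (p7 (p7 (p7 (p7 s)))))) = s.val ∧
    p7 s < 63 ∧ pRoot 2 (p7 (pRoot 2 (p7 s))) = s.val) ∧ p7 0 ≠ 0 := by decide +kernel

theorem x7_act {s : ℕ} (hs : s < 63) :
    ((x7 : Matrix.GeneralLinearGroup I14 Z2) : Matrix I14 I14 Z2).mulVec (vAt s) = vAt (p7 s) := by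
  have h : ∀ j t, t < 63 → pRoot j t < 63 := fun j t ht => pRoot_lt j ⟨t, ht⟩
  simp only [x7, Subgroup.coe_mul, Units.val_mul, ← Matrix.mulVec_mulVec, p7]
  rw [xG_act _ hs, xG_act _ (h _ _ hs), xG_act _ (h _ _ (h _ _ hs))]

theorem x7_facts : orderOf x7 = 7 ∧ xG 2 * x7 * (xG 2)⁻¹ = x7⁻¹ := by
  obtain ⟨hp, hne⟩ := p7_check
  have hpow : ∀ (n : ℕ) {s : ℕ}, s < 63 → p7^[n] s < 63 ∧
      (((x7 ^ n : G2) : Matrix.GeneralLinearGroup I14 Z2) : Matrix I14 I14 Z2).mulVec (vAt s) = vAt (p7^[n] s) := by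
    intro n
    induction n with
    | zero => intro s hs; exact ⟨hs, by simp⟩
    | succ n ih =>
      intro s hs
      obtain ⟨h1, h2⟩ := ih hs
      rw [Function.iterate_succ_apply', pow_succ', Subgroup.coe_mul, Units.val_mul, ← Matrix.mulVec_mulVec,
        h2, x7_act h1]
      exact ⟨(hp ⟨_, h1⟩).2.1, rfl⟩
  constructor
  · haveI : Fact (Nat.Prime 7) := ⟨by norm_num⟩
    refine orderOf_eq_prime (eq_one_of_fix fun s hs => ?_) fun e => ?_
    · rw [(hpow 7 hs).2]
      exact congrArg vAt (hp ⟨s, hs⟩).1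
    · have h0 := x7_act (show 0 < 63 by norm_num)
      rw [e] at h0
      simp only [Subgroup.coe_one, Units.val_one, Matrix.one_mulVec] at h0
      exact hne (vAt_injective (p7_check.1 ⟨0, by norm_num⟩).2.1 (by norm_num) h0.symm)
  · refine eq_inv_of_mul_eq_one_left (eq_one_of_fix fun s hs => ?_)
    have h : ∀ j t, t < 63 → pRoot j t < 63 := fun j t ht => pRoot_lt j ⟨t, ht⟩
    have h1 := (hp ⟨s, hs⟩).2.1
    simp only [xG_inv, Subgroup.coe_mul, Units.val_mul, ← Matrix.mulVec_mulVec]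
    rw [x7_act hs, xG_act _ h1, x7_act (h _ _ h1), xG_act _ (hp ⟨_, h _ _ h1⟩).2.1]
    exact congrArg vAt (hp ⟨s, hs⟩).2.2

/-- the abstract form of the argument -/
theorem noBad_of_facts {M : Type*} [Group M] [Finite M] (L : Subgroup M) (hM : Nat.card M = 12096)
    (hidx : L.index = 2) (hcard : Nat.card L = 6048)
    (hord : ∀ g : L, orderOf g ∣ 4 ∨ orderOf g ∣ 12 ∨ orderOf g ∣ 8 ∨ orderOf g ∣ 7)
    {x s : M} (hx : orderOf x = 7) (hinv : s * x * s⁻¹ = x⁻¹) (hs : s * s = 1) : NoBad M := by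
  have hsqL : ∀ (g : M) (n : ℕ), orderOf g = 2 * n + 1 → g ∈ L := by
    intro g n hn
    have e : g = (g ^ 2) ^ (n + 1) := by
      rw [← pow_mul, show 2 * (n + 1) = orderOf g + 1 by omega, pow_succ, pow_orderOf_eq_one, one_mul]
    rw [e]
    exact pow_mem (Subgroup.sq_mem_of_index_two hidx g) _
  have hodd : ∀ g : M, ∀ n, orderOf g = 2 * n + 1 → 2 * n + 1 ∣ 4 ∨ 2 * n + 1 ∣ 12 ∨ 2 * n + 1 ∣ 8 ∨ 2 * n + 1 ∣ 7 := by
    intro g n hn
    have hm := hsqL g n hn
    have := hord ⟨g, hm⟩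
    rwa [← Subgroup.orderOf_coe, hn] at this
  have hnbL : NoBad L := by
    intro g
    have := hord g
    refine ⟨fun e => ?_, fun e => ?_, fun e => ?_⟩ <;> rw [e] at this <;> norm_num at this
  haveI : L.Normal := Subgroup.normal_of_index_eq_two hidx
  haveI : Fact (Nat.Prime 7) := ⟨by norm_num⟩
  obtain ⟨P, hP⟩ := (IsPGroup.of_card (p := 7) (n := 1)
    (by rw [Nat.card_zpowers, hx, pow_one] : Nat.card (zpowers x) = 7 ^ 1)).exists_le_sylow
  have hPc := card_sylow hM P
  have hPe : zpowers x = (P : Subgroup M) :=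
    Subgroup.eq_of_le_of_card_ge hP (by rw [hPc, Nat.card_zpowers, hx])
  have hPL : (P : Subgroup M) ≤ L :=
    hPe ▸ zpowers_le.2 (hsqL x 3 (by rw [hx]))
  set PL := P.subtype hPL with hPLdef
  have hPLc : Nat.card (PL : Subgroup L) = 7 := by
    rw [hPLdef, Sylow.coe_subtype, Nat.card_congr (subgroupOfEquivOfLe hPL).toEquiv, hPc]
  have hCL := hnbL.centralizer_sylow_seven (m := 864) (by rw [hcard]) (by norm_num) PL hPLc
  obtain ⟨k, hk6, -, hkmod, hNL, -⟩ := card_normalizer_seven (m := 864) (by rw [hcard]) PL hPLc hCL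
  obtain rfl : k = 3 := by
    have := Nat.le_of_dvd (by norm_num) hk6
    omega
  set N := normalizer ((P : Subgroup M) : Set M) with hN
  have hfr := Sylow.normalizer_sup_eq_top PL
  rw [hPLdef, Sylow.coe_subtype, Subgroup.map_subgroupOf_eq_of_le hPL] at hfr
  have hNL' : Nat.card ↥(N ⊓ L) = 21 := by
    rw [← Nat.card_congr (subgroupOfEquivOfLe (inf_le_right : N ⊓ L ≤ L)).toEquiv, inf_subgroupOf_right, hN,
      subgroupOf_normalizer_eq hPL]
    exact hNL
  have hNc : Nat.card N = 42 := by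
    have := card_sup_inf N L
    rw [← hN] at hfr
    rw [hfr, Subgroup.card_top, hM, hNL', hcard] at this
    omega
  set C := centralizer ((P : Subgroup M) : Set M) with hC
  have hCN : C ≤ N := centralizer_le_normalizer _
  let φ := (P : Subgroup M).normalizerMonoidHom
  have hker : φ.ker = C.subgroupOf N := by rw [normalizerMonoidHom_ker]
  have hcardN : Nat.card C * Nat.card φ.range = 42 := by
    rw [← hNc, ← φ.ker.card_mul_index, Subgroup.index_ker, hker,
      Nat.card_congr (subgroupOfEquivOfLe hCN).toEquiv]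
  have hcent : ∀ {y : M}, y ∈ C ↔ Commute y x := by
    intro y
    rw [hC, ← hPe, zpowers_eq_closure, centralizer_closure, mem_centralizer_singleton_iff]
    rfl
  have h2 : 2 ∣ Nat.card φ.range := by
    have hsN : s ∈ N := by
      rw [hN, ← hPe, mem_normalizer_iff]
      intro y
      constructor
      · rintro ⟨i, rfl⟩
        exact ⟨-i, by simp only [← conj_zpow, hinv, zpow_neg, inv_zpow]⟩
      · rintro ⟨i, hi⟩
        simp only at hi
        refine ⟨-i, ?_⟩
        have : s * x ^ (-i) * (s)⁻¹ = x ^ i := by rw [← conj_zpow, hinv, inv_zpow, ← zpow_neg, neg_neg]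
        rw [hi] at this
        exact mul_left_cancel (mul_right_cancel this)
    let r : φ.range := ⟨φ ⟨s, hsN⟩, _, rfl⟩
    have hr : r ^ 2 = 1 := by
      have : (⟨s, hsN⟩ : N) ^ 2 = 1 := Subtype.ext (by
        show (s) ^ 2 = 1
        rw [pow_two]; exact hs)
      exact Subtype.ext (by show φ ⟨s, hsN⟩ ^ 2 = 1; rw [← map_pow, this, map_one])
    have hr1 : r ≠ 1 := by
      intro e
      have hk : (⟨s, hsN⟩ : N) ∈ φ.ker := congrArg Subtype.val e
      rw [hker, mem_subgroupOf, hcent] at hk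
      rw [hk.eq, mul_inv_cancel_right] at hinv
      have : orderOf x ∣ 2 := orderOf_dvd_of_pow_eq_one (by rw [pow_two]; exact mul_eq_one_iff_eq_inv.2 hinv)
      rw [hx] at this; norm_num at this
    haveI : Fact (Nat.Prime 2) := ⟨Nat.prime_two⟩
    have := orderOf_dvd_natCard r
    rwa [orderOf_eq_prime hr hr1] at this
  have h3 : 3 ∣ Nat.card φ.range := by
    haveI : Fact (Nat.Prime 3) := ⟨Nat.prime_three⟩
    obtain ⟨y, hy⟩ := exists_prime_orderOf_dvd_card' (G := ↥(N ⊓ L)) 3 (by rw [hNL']; norm_num)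
    have hyN : (y : M) ∈ N := y.2.1
    let r : φ.range := ⟨φ ⟨y, hyN⟩, _, rfl⟩
    have hr : r ^ 3 = 1 := by
      have : (⟨y, hyN⟩ : N) ^ 3 = 1 := Subtype.ext (by
        show ((y : M)) ^ 3 = 1
        rw [← Subgroup.coe_pow, ← hy, pow_orderOf_eq_one, Subgroup.coe_one])
      exact Subtype.ext (by show φ ⟨y, hyN⟩ ^ 3 = 1; rw [← map_pow, this, map_one])
    have hr1 : r ≠ 1 := by
      intro e
      have hk : (⟨y, hyN⟩ : N) ∈ φ.ker := congrArg Subtype.val e
      rw [hker, mem_subgroupOf] at hk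
      have hyc : (⟨y, y.2.2⟩ : L) ∈ centralizer ((PL : Subgroup L) : Set L) := by
        rw [mem_centralizer_iff]
        intro w hw
        exact Subtype.ext ((mem_centralizer_iff.1 hk) w hw)
      rw [hCL, hPLdef, Sylow.coe_subtype, mem_subgroupOf] at hyc
      have := Subgroup.orderOf_dvd_natCard (P : Subgroup M) (show (y : M) ∈ (P : Subgroup M) from hyc)
      rw [Subgroup.orderOf_coe, hy, hPc] at this
      norm_num at this
    have := orderOf_dvd_natCard r
    rwa [orderOf_eq_prime hr hr1] at this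
  have hC7 : Nat.card C ∣ 7 := by
    obtain ⟨c, hc⟩ := Nat.Coprime.mul_dvd_of_dvd_of_dvd (by norm_num) h2 h3
    rw [hc] at hcardN
    refine ⟨c, Nat.eq_of_mul_eq_mul_left (show 0 < 6 by norm_num) ?_⟩
    show 6 * 7 = _
    rw [show (6 : ℕ) * 7 = 42 by norm_num, ← hcardN]
    ring
  intro g
  refine ⟨fun e => ?_, fun e => ?_, fun e => ?_⟩
  · have := hodd g 4 e; norm_num at this
  · have h7 : orderOf (g ^ 2) = 7 := by rw [orderOf_pow' g (by norm_num), e]; norm_num
    obtain ⟨Q, hQ⟩ := (IsPGroup.of_card (p := 7) (n := 1)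
      (by rw [Nat.card_zpowers, h7, pow_one] : Nat.card (zpowers (g ^ 2)) = 7 ^ 1)).exists_le_sylow
    have hQe : zpowers (g ^ 2) = (Q : Subgroup M) :=
      Subgroup.eq_of_le_of_card_ge hQ (by rw [card_sylow hM Q, Nat.card_zpowers, h7])
    obtain ⟨c, hc⟩ := MulAction.exists_smul_eq M Q P
    have hz : c * g ^ 7 * c⁻¹ ∈ C := by
      rw [hC, mem_centralizer_iff]
      intro y hy
      rw [← hc, Sylow.coe_subgroup_smul, SetLike.mem_coe, mem_pointwise_smul_iff_inv_smul_mem, ← hQe] at hy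
      obtain ⟨i, hi⟩ := hy
      simp only [MulAut.smul_def, MulAut.inv_def, MulAut.conj_symm_apply] at hi
      have e1 : y = c * (g ^ 2) ^ i * c⁻¹ := by rw [hi]; group
      rw [e1]
      have hcm : Commute ((g ^ 2) ^ i) (g ^ 7) := ((Commute.refl g).pow_pow 2 7).zpow_left i
      calc c * (g ^ 2) ^ i * c⁻¹ * (c * g ^ 7 * c⁻¹) = c * ((g ^ 2) ^ i * g ^ 7) * c⁻¹ := by group
        _ = c * (g ^ 7 * (g ^ 2) ^ i) * c⁻¹ := by rw [hcm.eq]
        _ = _ := by group
    have h14 : orderOf (c * g ^ 7 * c⁻¹) = 2 := by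
      rw [show c * g ^ 7 * c⁻¹ = MulAut.conj c (g ^ 7) from rfl, MulEquiv.orderOf_eq,
        orderOf_pow' g (by norm_num), e]
      norm_num
    have := (Subgroup.orderOf_dvd_natCard _ hz).trans hC7
    rw [h14] at this
    norm_num at this
  · have := hodd g 10 e; norm_num at this


theorem noBad_G2 : NoBad G2 := by
  haveI : Finite G2 := inferInstance
  obtain ⟨hidx, hcard, hord⟩ := commutator_facts
  obtain ⟨hx, hinv⟩ := x7_facts
  exact noBad_of_facts (commutator G2) card_G2 hidx hcard hord hx hinv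
    ((congrArg (xG 2 * ·) (xG_inv 2).symm).trans (mul_inv_cancel _))

end CfsgLib.Recog.G2Spectrum
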