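import Cfsg.Agent.Lib.Recog.G2Spectrum.Frame
import Mathlib.Tactic

/-!
Owner: helper14. Generators of a Sylow 3-normaliser satisfying the tabulated relations.
-/

set_option autoImplicit false

namespace CfsgLib.Recog.G2Spectrum

open Cfsg CfsgLib.Char Subgroup
open scoped ComplexConjugate Classical

variable {T : Type*} [Group T] [Fintype T] {χ θ : IrrCharacter T}

/-- generators of the stabiliser of `S` adapted to the second point `S₁` -/
structure Gens (S S₁ : Sylow 3 T) (a b z t : T) : Prop where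
  heis : Heis a b z
  mem : ∀ n : ℕ, nf a b z n ∈ (S : Subgroup T)
  inj : ∀ x y : Fin 27, nf a b z x = nf a b z y → x = y
  tS : t • S = S
  tS₁ : t • S₁ = S₁
  order : orderOf t = 8
  act : ∀ x : Fin 27, t * nf a b z x * t⁻¹ = nf a b z (tpU 1 x)
  two_point : ∀ g : T, g • S = S → g • S₁ = S₁ → ∃ m : Fin 8, g = t ^ m.val

variable (h : Hyp48 T) (hc : Chars T χ θ)
include h hc

theorem exists_inverting {S S₁ : Sylow 3 T} {z : T} (hz : IsCtr χ S z) (hS₁ : S₁ ≠ S) :
    ∃ t : T, t • S = S ∧ t • S₁ = S₁ ∧ orderOf t = 8 ∧ t * z * t⁻¹ = z⁻¹ ∧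
      (∀ s ∈ (S : Subgroup T), s ∉ zpowers z → t * s * t⁻¹ ∉ zpowers s ⊔ zpowers z) := by
  haveI : Fact (Nat.Prime 3) := ⟨Nat.prime_three⟩
  set K := MulAction.stabilizer T S ⊓ MulAction.stabilizer T S₁ with hK
  have hcardK := card_two_point h hc hS₁
  rw [← hK] at hcardK
  have hKN : ∀ g : T, g • S = S → g ∈ normalizer ((zpowers z : Subgroup T) : Set T) := fun g hg =>
    normalizer_eq h hc hz ▸ Sylow.smul_eq_iff_mem_normalizer.1 hg
  have hzz : ∀ g : T, g • S = S → g * z * g⁻¹ = z ∨ g * z * g⁻¹ = z⁻¹ := by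
    intro g hg
    have hk : IsCtr χ S (g * z * g⁻¹) :=
      ⟨(mem_normalizer_iff.1 (Sylow.smul_eq_iff_mem_normalizer.1 hg) z).1 hz.1, by
      rw [show g * z * g⁻¹ = MulAut.conj g z from rfl, MulEquiv.orderOf_eq, hz.2.1], by
      rw [IsIrr.isClassFunction χ.2 z g]; exact hz.2.2⟩
    exact IsCtr.eq_or h hc hz hk
  -- some element of the two point stabiliser inverts the centre
  obtain ⟨t, htK, ht⟩ : ∃ t ∈ K, t * z * t⁻¹ = z⁻¹ := by
    by_contra hh
    push Not at hh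
    have hle : normalizer ((S : Subgroup T) : Set T) ≤ centralizer ({z} : Set T) := by
      intro g hg
      have hg' : g • S = S := Sylow.smul_eq_iff_mem_normalizer.2 hg
      obtain ⟨s, hs, e⟩ := exists_unique_translate h hc hS₁ (R := g • S₁)
        (fun e => hS₁ (MulAction.injective g (e.trans hg'.symm)))
      have hkS : (s⁻¹ * g) • S = S := by
        rw [mul_smul, hg']; exact Sylow.smul_eq_iff_mem_normalizer.2 (Subgroup.le_normalizer (inv_mem hs))
      have hkK : s⁻¹ * g ∈ K := mem_inf.2 ⟨hkS, by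
        rw [MulAction.mem_stabilizer_iff, mul_smul, ← e, inv_smul_smul]⟩
      have hkc : s⁻¹ * g * z * (s⁻¹ * g)⁻¹ = z := (hzz _ hkS).resolve_right (hh _ hkK)
      have hsc := IsCtr.central h hc hz hs
      rw [mem_centralizer_singleton_iff]
      have hkc' : Commute (s⁻¹ * g) z := mul_inv_eq_iff_eq_mul.1 hkc
      have := hsc.mul_left hkc'
      rw [mul_inv_cancel_left] at this
      exact this.eq
    have h1 := Subgroup.card_le_of_le hle
    rw [(card_sylow_normalizer h hc S).1, (IsCtr.card_facts h hc hz).1] at h1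
    omega
  obtain ⟨htS, htS₁⟩ := mem_inf.1 htK
  have hz2 : z⁻¹ ≠ z := fun e => by
    have : orderOf z ∣ 2 := orderOf_dvd_of_pow_eq_one (by rw [pow_two]; exact mul_eq_one_iff_eq_inv.2 e.symm)
    rw [hz.2.1] at this; norm_num at this
  have hnorm : ∀ g : T, g • S = S → ∀ {x : T}, x ∈ zpowers z → g * x * g⁻¹ ∈ zpowers z := fun g hg x hx =>
    (mem_normalizer_iff.1 (hKN g hg) x).1 hx
  -- powers fix modulo the centre
  have hpow : ∀ {g s : T}, g • S = S → g * s * g⁻¹ * s⁻¹ ∈ zpowers z → ∀ n : ℕ,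
      g ^ n * s * (g ^ n)⁻¹ * s⁻¹ ∈ zpowers z := by
    intro g s hg hgs n
    induction n with
    | zero => simp
    | succ n ih =>
      rw [show g ^ (n + 1) * s * (g ^ (n + 1))⁻¹ * s⁻¹ =
        g * (g ^ n * s * (g ^ n)⁻¹ * s⁻¹) * g⁻¹ * (g * s * g⁻¹ * s⁻¹) by rw [pow_succ']; group]
      exact mul_mem (hnorm g hg ih) hgs
  have hind : ∀ n : ℕ, orderOf (t ^ (2 * n)) = 2 → ∀ s ∈ (S : Subgroup T), s ∉ zpowers z →
      t * s * t⁻¹ ∉ zpowers s ⊔ zpowers z := by
    intro n hn s hs hsz hb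
    have hnS : (t ^ (2 * n)) • S = S := MulAction.mem_stabilizer_iff.1 (pow_mem htS _)
    refine hsz (no_fix h hc hz hn (hnorm _ hnS (mem_zpowers z)) hs ?_)
    rw [pow_mul]
    refine hpow (MulAction.mem_stabilizer_iff.1 (pow_mem htS 2)) ?_ n
    have hsz' : Commute s z := IsCtr.central h hc hz hs
    have hcc : ∀ (m : zpowers s) (n : zpowers z), Commute ((zpowers s).subtype m) ((zpowers z).subtype n) := by
      rintro ⟨_, i, rfl⟩ ⟨_, j, rfl⟩
      exact hsz'.zpow_zpow i j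
    have hb' : t * s * t⁻¹ ∈ (MonoidHom.noncommCoprod (zpowers s).subtype (zpowers z).subtype hcc).range := by
      rw [MonoidHom.noncommCoprod_range, Subgroup.range_subtype, Subgroup.range_subtype]; exact hb
    obtain ⟨⟨⟨_, i, rfl⟩, ⟨_, j, rfl⟩⟩, hp⟩ := hb'
    simp only [MonoidHom.noncommCoprod_apply, Subgroup.coe_subtype] at hp
    have htz : t * z ^ j * t⁻¹ = z ^ (-j) := by rw [← conj_zpow, ht, zpow_neg, inv_zpow]
    have h3 : s ^ (3 : ℤ) = 1 := by
      have := h.nobad.pow_three (card_sylow_three h S) hs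
      exact_mod_cast this
    have hs2 : (t ^ 2) * s * (t ^ 2)⁻¹ = s ^ (i * i) * z ^ (j * i + -j) := by
      calc (t ^ 2) * s * (t ^ 2)⁻¹ = t * (t * s * t⁻¹) * t⁻¹ := by rw [pow_two]; group
        _ = (t * s ^ i * t⁻¹) * (t * z ^ j * t⁻¹) := by rw [← hp]; group
        _ = _ := by
          rw [htz, ← conj_zpow, ← hp, (hsz'.zpow_zpow i j).mul_zpow, ← zpow_mul, ← zpow_mul, mul_assoc,
            ← zpow_add]
    have hi3 : i % 3 = 0 ∨ i % 3 = 1 ∨ i % 3 = 2 := by omega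
    have hmod : ∀ k : ℤ, s ^ k = s ^ (k % 3) := fun k => by
      conv_lhs => rw [← Int.emod_add_mul_ediv k 3, zpow_add, zpow_mul, h3, one_zpow, mul_one]
    rcases hi3 with e | e | e
    · exfalso
      rw [hmod i, e, zpow_zero, one_mul] at hp
      refine hsz ?_
      have := hnorm t⁻¹ (MulAction.mem_stabilizer_iff.1 (inv_mem htS)) (x := t * s * t⁻¹) (hp ▸ zpow_mem (mem_zpowers z) j)
      simpa [mul_assoc] using this
    all_goals
      rw [hs2, hmod, show i * i % 3 = 1 by rw [Int.mul_emod, e]; rfl, zpow_one,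
        ((hsz'.zpow_right (j * i + -j))).eq, mul_inv_cancel_right]
      exact zpow_mem (mem_zpowers z) _
  have ho8 : orderOf t ∣ 2 ^ 3 := by
    have := Subgroup.orderOf_dvd_natCard K htK
    rwa [hcardK] at this
  obtain ⟨k, hk, hok⟩ := (Nat.dvd_prime_pow Nat.prime_two).1 ho8
  refine ⟨t, htS, htS₁, ?_⟩
  obtain rfl | rfl | rfl | rfl : k = 0 ∨ k = 2 ∨ k = 1 ∨ k = 3 := by omega
  · exfalso
    rw [pow_zero, orderOf_eq_one_iff] at hok
    rw [hok, one_mul, inv_one, mul_one] at ht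
    exact hz2 ht.symm
  -- the two cases of an involution centralising the centre
  ·
    exfalso
    obtain ⟨s, hs, hsz⟩ := SetLike.not_le_iff_exists.1 (show ¬ (S : Subgroup T) ≤ zpowers z from fun e => by
      have := Subgroup.card_le_of_le e
      rw [card_sylow_three h, Nat.card_zpowers, hz.2.1] at this; omega)
    have hu : orderOf (t ^ (2 * 1)) = 2 := by
      rw [mul_one, orderOf_pow' t (two_ne_zero), hok]; rfl
    set b := t * s * t⁻¹ with hb
    have hbS : b ∈ (S : Subgroup T) :=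
      (mem_normalizer_iff.1 (Sylow.smul_eq_iff_mem_normalizer.1 htS) s).1 hs
    rw [mul_one] at hu
    set u := t ^ 2 with hu'
    have huS : u • S = S := MulAction.mem_stabilizer_iff.1 (pow_mem htS 2)
    have hinvz : s * (u * s * u⁻¹) ∈ zpowers z := by
      have husS : u * s * u⁻¹ ∈ (S : Subgroup T) :=
        (mem_normalizer_iff.1 (Sylow.smul_eq_iff_mem_normalizer.1 huS) s).1 hs
      refine no_fix h hc hz hu (hnorm _ huS (mem_zpowers z)) (mul_mem hs husS) ?_
      have huu : u * u = 1 := by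
        have := pow_orderOf_eq_one u
        rwa [hu, pow_two] at this
      have h1 : u * (s * (u * s * u⁻¹)) * u⁻¹ * (s * (u * s * u⁻¹))⁻¹ =
          (u * s * u⁻¹) * ((u * u) * s * (u * u)⁻¹) * (u * s * u⁻¹)⁻¹ * s⁻¹ := by group
      rw [h1, huu, one_mul, inv_one, mul_one]
      exact mem_comm h hc hz husS hs
    obtain ⟨i, hi⟩ := hinvz
    simp only at hi
    have hnc := not_commute h hc hz hs hbS hsz (hind 1 (by rwa [mul_one, ← hu']) s hs hsz)
    obtain ⟨c, hcz, hcd⟩ : ∃ c, c ∈ zpowers z ∧ c = s * b * s⁻¹ * b⁻¹ := ⟨_, mem_comm h hc hz hs hbS, rfl⟩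
    have hc1 : c ≠ 1 := fun e => hnc (mul_inv_eq_iff_eq_mul.1 (mul_inv_eq_one.1 (hcd ▸ e)))
    have htc : t * c * t⁻¹ = c := by
      have hus : u * s * u⁻¹ = s⁻¹ * z ^ i := by rw [hi]; group
      have hsc : ∀ x ∈ (S : Subgroup T), Commute x (z ^ i) := fun x hx => (IsCtr.central h hc hz hx).zpow_right i
      have hcs : Commute s c := by
        obtain ⟨j, rfl⟩ := hcz
        exact (IsCtr.central h hc hz hs).zpow_right j
      calc t * c * t⁻¹ = b * (u * s * u⁻¹) * b⁻¹ * (u * s * u⁻¹)⁻¹ := by rw [hcd, hb, hu', pow_two]; group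
        _ = b * s⁻¹ * (z ^ i * b⁻¹) * (z ^ i)⁻¹ * s := by rw [hus]; group
        _ = b * s⁻¹ * b⁻¹ * s := by rw [← (hsc _ (inv_mem hbS)).eq]; group
        _ = s⁻¹ * c * s := by rw [hcd]; group
        _ = c := by rw [mul_assoc, ← hcs.eq, inv_mul_cancel_left]
    obtain ⟨m, rfl⟩ := hcz
    simp only at htc hc1
    rw [← conj_zpow, ht] at htc
    rw [inv_zpow', zpow_neg, inv_eq_iff_mul_eq_one, ← zpow_add] at htc
    refine hc1 (orderOf_dvd_iff_zpow_eq_one.1 ?_)
    have := orderOf_dvd_iff_zpow_eq_one.2 htc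
    rw [hz.2.1] at this ⊢
    omega
  ·
    exfalso
    obtain ⟨s, hs, hsz⟩ := SetLike.not_le_iff_exists.1 (show ¬ (S : Subgroup T) ≤ zpowers z from fun e => by
      have := Subgroup.card_le_of_le e
      rw [card_sylow_three h, Nat.card_zpowers, hz.2.1] at this; omega)
    rw [pow_one] at hok
    have htt : t * t = 1 := by
      have := pow_orderOf_eq_one t
      rwa [hok, pow_two] at this
    -- an involution inverts modulo the centre, so it centralises the centre
    have hinv : ∀ x ∈ (S : Subgroup T), ∃ i : ℤ, t * x * t⁻¹ = x⁻¹ * z ^ i := by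
      intro x hx
      have hxS : t * x * t⁻¹ ∈ (S : Subgroup T) :=
        (mem_normalizer_iff.1 (Sylow.smul_eq_iff_mem_normalizer.1 htS) x).1 hx
      have hinvz : x * (t * x * t⁻¹) ∈ zpowers z := by
        refine no_fix h hc hz hok (hnorm _ htS (mem_zpowers z)) (mul_mem hx hxS) ?_
        have h1 : t * (x * (t * x * t⁻¹)) * t⁻¹ * (x * (t * x * t⁻¹))⁻¹ =
            (t * x * t⁻¹) * ((t * t) * x * (t * t)⁻¹) * (t * x * t⁻¹)⁻¹ * x⁻¹ := by group
        rw [h1, htt, one_mul, inv_one, mul_one]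
        exact mem_comm h hc hz hxS hx
      obtain ⟨i, hi⟩ := hinvz
      simp only at hi
      exact ⟨i, by rw [hi]; group⟩
    obtain ⟨w, hw, hwz⟩ := exists_not_mem_sup h hc hz hs
    have hnc := not_commute h hc hz hs hw hsz hwz
    obtain ⟨c, hcz, hcd⟩ : ∃ c, c ∈ zpowers z ∧ c = s * w * s⁻¹ * w⁻¹ := ⟨_, mem_comm h hc hz hs hw, rfl⟩
    have hc1 : c ≠ 1 := fun e => hnc (mul_inv_eq_iff_eq_mul.1 (mul_inv_eq_one.1 (hcd ▸ e)))
    obtain ⟨i, hi⟩ := hinv s hs
    obtain ⟨l, hl⟩ := hinv w hw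
    have htc : t * c * t⁻¹ = c := by
      have hsc : ∀ x ∈ (S : Subgroup T), ∀ n : ℤ, x * z ^ n = z ^ n * x := fun x hx n =>
        ((IsCtr.central h hc hz hx).zpow_right n).eq
      obtain ⟨j, hj⟩ := hcz
      simp only at hj
      have hcs : ∀ x ∈ (S : Subgroup T), x * c = c * x := fun x hx => by rw [← hj]; exact hsc x hx j
      calc t * c * t⁻¹ = (t * s * t⁻¹) * (t * w * t⁻¹) * (t * s * t⁻¹)⁻¹ * (t * w * t⁻¹)⁻¹ := by rw [hcd]; group
        _ = s⁻¹ * (z ^ i * (w⁻¹ * z ^ l)) * (z ^ i)⁻¹ * s * (z ^ l)⁻¹ * w := by rw [hi, hl]; group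
        _ = s⁻¹ * w⁻¹ * (z ^ l * s) * (z ^ l)⁻¹ * w := by
          rw [← hsc _ (mul_mem (inv_mem hw) (zpow_mem hz.1 l)) i]; group
        _ = s⁻¹ * w⁻¹ * s * w := by rw [← hsc _ hs]; group
        _ = (w * s)⁻¹ * c * (w * s) := by rw [hcd]; group
        _ = c := by rw [mul_assoc, ← hcs _ (mul_mem hw hs), inv_mul_cancel_left]
    obtain ⟨m, rfl⟩ := hcz
    simp only at htc hc1
    rw [← conj_zpow, ht, inv_zpow', zpow_neg, inv_eq_iff_mul_eq_one, ← zpow_add] at htc
    refine hc1 (orderOf_dvd_iff_zpow_eq_one.1 ?_)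
    have := orderOf_dvd_iff_zpow_eq_one.2 htc
    rw [hz.2.1] at this ⊢
    omega
  ·
    refine ⟨by rw [hok]; rfl, ht, ?_⟩
    refine hind 2 ?_
    rw [orderOf_pow' t (by norm_num), hok]; rfl

omit h hc in
/-- the image of the second generator, determined by the involution -/
theorem image_cases : ∀ n : Fin 27, commU 3 n = 2 → endU 18 6 n = mulU n n →
    n.val = 9 ∨ n.val = 13 ∨ n.val = 17 := by decide +kernel

theorem exists_rel {S : Sylow 3 T} {z : T} (hz : IsCtr χ S z) {t a : T}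
    (htS : t • S = S) (ho : orderOf t = 8) (ht : t * z * t⁻¹ = z⁻¹)
    (hind : ∀ s ∈ (S : Subgroup T), s ∉ zpowers z → t * s * t⁻¹ ∉ zpowers s ⊔ zpowers z)
    (ha : a ∈ (S : Subgroup T)) (haz : a ∉ zpowers z) (hua : t ^ 4 * a * (t ^ 4)⁻¹ = a⁻¹) :
    ∃ b c : T, b = t * a * t⁻¹ ∧ c = a * b * a⁻¹ * b⁻¹ ∧ IsCtr χ S c ∧ Heis a b c ∧
      (∀ n : ℕ, nf a b c n ∈ (S : Subgroup T)) ∧
      (∀ x y : Fin 27, nf a b c x = nf a b c y → x = y) ∧
      (t * b * t⁻¹ = nf a b c 13 ∨ t * b * t⁻¹ = nf a b c 17) := by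
  have hconjS : ∀ {g : T}, g • S = S → ∀ {x : T}, x ∈ (S : Subgroup T) → g * x * g⁻¹ ∈ (S : Subgroup T) :=
    fun hg x hx => (mem_normalizer_iff.1 (Sylow.smul_eq_iff_mem_normalizer.1 hg) x).1 hx
  obtain ⟨b, hb⟩ : ∃ b, b = t * a * t⁻¹ := ⟨_, rfl⟩
  obtain ⟨c, hcd⟩ : ∃ c, c = a * b * a⁻¹ * b⁻¹ := ⟨_, rfl⟩
  have hbS : b ∈ (S : Subgroup T) := hb ▸ hconjS htS ha
  have hbz : b ∉ zpowers a ⊔ zpowers z := hb ▸ hind a ha haz
  have hnc := not_commute h hc hz ha hbS haz hbz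
  have hcz : c ∈ zpowers z := hcd ▸ mem_comm h hc hz ha hbS
  have hc1 : c ≠ 1 := fun e => hnc (mul_inv_eq_iff_eq_mul.1 (mul_inv_eq_one.1 (hcd ▸ e)))
  have hcz' : c = z ∨ c = z⁻¹ := by
    obtain ⟨m, rfl⟩ := hcz
    simp only at hc1 ⊢
    have hz3 : z ^ (3 : ℤ) = 1 := by
      have := pow_orderOf_eq_one z
      rw [hz.2.1] at this
      exact_mod_cast this
    have hm : z ^ m = z ^ (m % 3) := by
      conv_lhs => rw [← Int.emod_add_mul_ediv m 3, zpow_add, zpow_mul, hz3, one_zpow, mul_one]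
    rw [hm] at hc1 ⊢
    rcases (by omega : m % 3 = 0 ∨ m % 3 = 1 ∨ m % 3 = 2) with e | e | e <;> rw [e] at hc1 ⊢
    · exact absurd (zpow_zero z) hc1
    · exact Or.inl (zpow_one z)
    · refine Or.inr (eq_inv_of_mul_eq_one_left ?_)
      rw [← zpow_add_one]; exact hz3
  have hctr : IsCtr χ S c := by
    rcases hcz' with e | e <;> rw [e]
    · exact hz
    · refine ⟨inv_mem hz.1, by rw [orderOf_inv, hz.2.1], ?_⟩
      rw [IsIrr.map_inv χ.2, hz.2.2]; simp [map_ofNat]
  have hzc : zpowers c = zpowers z := by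
    rcases hcz' with e | e <;> rw [e]
    exact zpowers_inv
  rw [← hzc] at haz hbz
  have htc : t * c * t⁻¹ = c⁻¹ := by
    rcases hcz' with e | e <;> rw [e]
    · exact ht
    · rw [← conj_inv, ht]
  have pow3 : ∀ {x : T}, x ∈ (S : Subgroup T) → x ^ 3 = 1 := fun hx => h.nobad.pow_three (card_sylow_three h S) hx
  have H : Heis a b c :=
    ⟨pow3 ha, pow3 hbS, pow3 hctr.1, IsCtr.central h hc hctr ha, IsCtr.central h hc hctr hbS, by
      rw [hcd]; group⟩
  have hmem : ∀ n, nf a b c n ∈ (S : Subgroup T) := fun n =>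
    mul_mem (mul_mem (pow_mem ha _) (pow_mem hbS _)) (pow_mem hctr.1 _)
  have hne : ∀ (n : Fin 27), n.val ≠ 0 → nf a b c n ≠ 1 := by
    intro n hn e
    rw [nf] at e
    by_cases hj : n.val / 3 % 3 = 0
    · rw [hj, pow_zero, mul_one] at e
      by_cases hi : n.val / 9 = 0
      · rw [hi, pow_zero, one_mul] at e
        have := orderOf_dvd_of_pow_eq_one e
        rw [hctr.2.1] at this
        omega
      · refine haz ?_
        have hai : a ^ (n.val / 9) ∈ zpowers c := by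
          rw [eq_inv_of_mul_eq_one_left e]; exact inv_mem (pow_mem (mem_zpowers c) _)
        rcases (by omega : n.val / 9 = 1 ∨ n.val / 9 = 2) with e1 | e1 <;> rw [e1] at hai
        · rwa [pow_one] at hai
        · have := inv_mem hai
          rwa [inv_eq_of_mul_eq_one_right (b := a) (by rw [← pow_succ]; exact H.a3)] at this
    · refine hbz ?_
      have hbj : b ^ (n.val / 3 % 3) ∈ zpowers a ⊔ zpowers c := by
        have e' : b ^ (n.val / 3 % 3) = (a ^ (n.val / 9))⁻¹ * (c ^ (n.val % 3))⁻¹ := by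
          have := eq_inv_of_mul_eq_one_left e
          rw [← mul_inv_cancel_left (a ^ (n.val / 9))⁻¹ (b ^ (n.val / 3 % 3)), inv_inv, this]
        rw [e']
        exact mul_mem (mem_sup_left (inv_mem (pow_mem (mem_zpowers a) _)))
          (mem_sup_right (inv_mem (pow_mem (mem_zpowers c) _)))
      rcases (by omega : n.val / 3 % 3 = 1 ∨ n.val / 3 % 3 = 2) with e1 | e1 <;> rw [e1] at hbj
      · rwa [pow_one] at hbj
      · have := inv_mem hbj
        rwa [inv_eq_of_mul_eq_one_right (b := b) (by rw [← pow_succ]; exact H.b3)] at this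
  have hinj : ∀ x y : Fin 27, nf a b c x = nf a b c y → x = y := by
    intro x y e
    have hinv : ∀ y : Fin 27, mulU (mulU y y) y = 0 := by decide +kernel
    have huniq : ∀ x y : Fin 27, mulU x (mulU y y) = 0 → x = y := by decide +kernel
    refine huniq x y ?_
    have hlt := mulU_lt x.2 (mulU_lt y.2 y.2)
    by_contra h0
    refine hne ⟨_, hlt⟩ h0 ?_
    show nf a b c (mulU x (mulU y y)) = 1
    rw [← H.nf_mul x.2 (mulU_lt y.2 y.2), ← H.nf_mul y.2 y.2, e, ← mul_assoc, ← pow_two,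
      ← pow_succ]
    exact pow3 (hmem _)
  haveI : Fact (Nat.Prime 3) := ⟨Nat.prime_three⟩
  have hbij : ∀ s ∈ (S : Subgroup T), ∃ n : Fin 27, s = nf a b c n := by
    intro s hs
    let f : Fin 27 → ↥(S : Subgroup T) := fun n => ⟨_, hmem n⟩
    have hf : Function.Injective f := fun x y e => hinj x y (congrArg Subtype.val e)
    obtain ⟨n, hn⟩ := (hf.bijective_of_nat_card_le (by rw [card_sylow_three h, Nat.card_fin])).2 ⟨s, hs⟩
    exact ⟨n, (congrArg Subtype.val hn).symm⟩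
  obtain ⟨n, hn⟩ := hbij _ (hconjS htS hbS)
  have e3 : nf a b c 3 = b := by simp [nf]
  have e9 : nf a b c 9 = a := by simp [nf]
  have e2 : nf a b c 2 = c⁻¹ := by
    have : nf a b c 2 = c ^ 2 := by simp [nf]
    rw [this]
    exact (inv_eq_of_mul_eq_one_right (by rw [← pow_succ']; exact H.z3)).symm
  -- conjugation by `t` on the commutator
  have h1 : commU 3 n.val = 2 := by
    obtain ⟨hlt, e⟩ := H.nf_comm (by norm_num : 3 < 27) n.2
    have : nf a b c (commU 3 n.val) = nf a b c 2 := by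
      rw [e, e2, e3, ← hn, ← htc, hcd, hb]; group
    exact Fin.val_eq_of_eq (hinj ⟨_, hlt⟩ ⟨2, by norm_num⟩ this)
  set u := t ^ 4 with hu
  have htu : t * u = u * t := by rw [hu, ← pow_succ, ← pow_succ']
  have hub : u * b * u⁻¹ = b⁻¹ := by
    rw [hb]
    calc u * (t * a * t⁻¹) * u⁻¹ = (u * t) * a * (u * t)⁻¹ := by group
      _ = (t * u) * a * (t * u)⁻¹ := by rw [htu]
      _ = t * (u * a * u⁻¹) * t⁻¹ := by group
      _ = _ := by rw [hua]; group
  have e18 : nf a b c 18 = a⁻¹ := by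
    have : nf a b c 18 = a ^ 2 := by simp [nf]
    rw [this]
    exact (inv_eq_of_mul_eq_one_right (by rw [← pow_succ']; exact H.a3)).symm
  have e6 : nf a b c 6 = b⁻¹ := by
    have : nf a b c 6 = b ^ 2 := by simp [nf]
    rw [this]
    exact (inv_eq_of_mul_eq_one_right (by rw [← pow_succ']; exact H.b3)).symm
  have h2 : endU 18 6 n.val = mulU n.val n.val := by
    obtain ⟨hlt, e⟩ := H.map_nf (MulAut.conj u).toMonoidHom (by norm_num : 18 < 27) (by norm_num : 6 < 27)
      (by rw [e18]; exact hua) (by rw [e6]; exact hub) n.val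
    simp only [MulEquiv.coe_toMonoidHom, MulAut.conj_apply] at e
    have : nf a b c (endU 18 6 n.val) = nf a b c (mulU n.val n.val) := by
      rw [← e, ← H.nf_mul n.2 n.2, ← hn]
      calc u * (t * b * t⁻¹) * u⁻¹ = (u * t) * b * (u * t)⁻¹ := by group
        _ = (t * u) * b * (t * u)⁻¹ := by rw [htu]
        _ = t * (u * b * u⁻¹) * t⁻¹ := by group
        _ = (t * b * t⁻¹)⁻¹ := by rw [hub]; group
        _ = _ := inv_eq_of_mul_eq_one_right (by
          rw [← mul_assoc, ← pow_two, ← pow_succ]; exact pow3 (hconjS htS hbS))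
    exact Fin.val_eq_of_eq (hinj ⟨_, hlt⟩ ⟨_, mulU_lt n.2 n.2⟩ this)
  refine ⟨b, c, hb, hcd, hctr, H, hmem, hinj, ?_⟩
  rcases image_cases n h1 h2 with e | e | e
  · exfalso
    rw [e, e9] at hn
    -- then the fourth power fixes `a`
    have ha2 : t ^ 2 * a * (t ^ 2)⁻¹ = a := by
      calc t ^ 2 * a * (t ^ 2)⁻¹ = t * (t * a * t⁻¹) * t⁻¹ := by rw [pow_two]; group
        _ = a := by rw [← hb, hn]
    have : t ^ 4 * a * (t ^ 4)⁻¹ = a := by
      calc t ^ 4 * a * (t ^ 4)⁻¹ = t ^ 2 * (t ^ 2 * a * (t ^ 2)⁻¹) * (t ^ 2)⁻¹ := by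
              rw [pow_add t 2 2, mul_inv_rev]; simp only [mul_assoc]
        _ = a := by rw [ha2, ha2]
    rw [hua] at this
    refine haz ?_
    have h1' : a = 1 := by
      calc a = a ^ 3 * (a * a)⁻¹ := by group
        _ = _ := by rw [H.a3, one_mul, mul_eq_one_iff_eq_inv.2 this.symm, inv_one]
    exact h1' ▸ one_mem _
  · left; rw [hn, e]
  · right; rw [hn, e]

theorem exists_gens (S : Sylow 3 T) : ∃ S₁ : Sylow 3 T, ∃ a b z t : T, S₁ ≠ S ∧ Gens S S₁ a b z t := by
  haveI : Fact (Nat.Prime 3) := ⟨Nat.prime_three⟩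
  obtain ⟨S₁, hS₁⟩ := exists_second h hc S
  obtain ⟨z, hz, -⟩ := exists_ctr h hc S
  obtain ⟨t, htS, htS₁, ho, ht, hind⟩ := exists_inverting h hc hz hS₁
  have hpowS : ∀ n : ℕ, (t ^ n) • S = S := fun n =>
    MulAction.mem_stabilizer_iff.1 (pow_mem (show t ∈ MulAction.stabilizer T S from htS) n)
  have hconjS : ∀ {g : T}, g • S = S → ∀ {x : T}, x ∈ (S : Subgroup T) → g * x * g⁻¹ ∈ (S : Subgroup T) :=
    fun hg x hx => (mem_normalizer_iff.1 (Sylow.smul_eq_iff_mem_normalizer.1 hg) x).1 hx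
  have hu2 : orderOf (t ^ 4) = 2 := by rw [orderOf_pow' t (by norm_num), ho]; rfl
  -- adjust a generator inside its coset
  obtain ⟨s, hs, hsz⟩ := SetLike.not_le_iff_exists.1 (show ¬ (S : Subgroup T) ≤ zpowers z from fun e => by
    have := Subgroup.card_le_of_le e
    rw [card_sylow_three h, Nat.card_zpowers, hz.2.1] at this; omega)
  set u := t ^ 4 with hu
  have huu : u * u = 1 := by
    have := pow_orderOf_eq_one u
    rwa [hu2, pow_two] at this
  have huz : u * z * u⁻¹ = z := by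
    have h1 : t ^ 2 * z * (t ^ 2)⁻¹ = z := by
      calc t ^ 2 * z * (t ^ 2)⁻¹ = t * (t * z * t⁻¹) * t⁻¹ := by rw [pow_two]; group
        _ = (t * z * t⁻¹)⁻¹ := by rw [ht, ← conj_inv, ht]
        _ = z := by rw [ht, inv_inv]
    calc u * z * u⁻¹ = t ^ 2 * (t ^ 2 * z * (t ^ 2)⁻¹) * (t ^ 2)⁻¹ := by rw [hu]; group
      _ = z := by rw [h1, h1]
  have husS := hconjS (hpowS 4) hs
  rw [← hu] at husS
  have hinvz : s * (u * s * u⁻¹) ∈ zpowers z := by
    refine no_fix h hc hz hu2 (by rw [huz]; exact mem_zpowers z) (mul_mem hs husS) ?_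
    have h1 : u * (s * (u * s * u⁻¹)) * u⁻¹ * (s * (u * s * u⁻¹))⁻¹ =
        (u * s * u⁻¹) * ((u * u) * s * (u * u)⁻¹) * (u * s * u⁻¹)⁻¹ * s⁻¹ := by group
    rw [h1, huu, one_mul, inv_one, mul_one]
    exact mem_comm h hc hz husS hs
  obtain ⟨i, hi⟩ := hinvz
  simp only at hi
  obtain ⟨a, hadef⟩ : ∃ a, a = s * z ^ i := ⟨_, rfl⟩
  have ha : a ∈ (S : Subgroup T) := hadef ▸ mul_mem hs (zpow_mem hz.1 i)
  have haz : a ∉ zpowers z := fun e => hsz (by
    rw [hadef] at e
    simpa using mul_mem e (inv_mem (zpow_mem (mem_zpowers z) i)))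
  have hzc : ∀ n : ℤ, Commute s (z ^ n) := fun n => (IsCtr.central h hc hz hs).zpow_right n
  have hua : u * a * u⁻¹ = a⁻¹ := by
    have hzi : u * z ^ i * u⁻¹ = z ^ i := by rw [← conj_zpow, huz]
    have hus : u * s * u⁻¹ = s⁻¹ * z ^ i := by rw [hi]; group
    have h3 : z ^ i * z ^ i = (z ^ i)⁻¹ := eq_inv_of_mul_eq_one_left (by
      rw [← pow_two, ← pow_succ]
      exact h.nobad.pow_three (card_sylow_three h S) (zpow_mem hz.1 i))
    calc u * a * u⁻¹ = (u * s * u⁻¹) * (u * z ^ i * u⁻¹) := by rw [hadef]; group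
      _ = s⁻¹ * (z ^ i)⁻¹ := by rw [hus, hzi, mul_assoc, h3]
      _ = a⁻¹ := by rw [hadef, (hzc i).eq, mul_inv_rev]
  obtain ⟨b, c, hb, hcd, hctr, H, hmem, hinj, hcases⟩ := exists_rel h hc hz htS ho ht hind ha haz hua
  -- assemble
  have mk : ∀ {t' b' c' : T}, t' • S = S → t' • S₁ = S₁ → orderOf t' = 8 → Heis a b' c' →
      (∀ n : ℕ, nf a b' c' n ∈ (S : Subgroup T)) →
      (∀ x y : Fin 27, nf a b' c' x = nf a b' c' y → x = y) → b' = t' * a * t'⁻¹ →
      t' * b' * t'⁻¹ = nf a b' c' 13 → Gens S S₁ a b' c' t' := by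
    intro t' b' c' h1 h2 h3 H' hm hi' hb' hq
    refine ⟨H', hm, hi', h1, h2, h3, fun x => ?_, fun g hg hg₁ => ?_⟩
    · obtain ⟨-, e⟩ := H'.map_nf (MulAut.conj t').toMonoidHom (by norm_num : 3 < 27) (by norm_num : 13 < 27)
        (by simp [nf, hb']) (by simpa using hq) x.val
      rw [← (tp_one x).1] at e
      simpa using e
    · set K := MulAction.stabilizer T S ⊓ MulAction.stabilizer T S₁ with hK
      have hcardK := card_two_point h hc hS₁
      rw [← hK] at hcardK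
      have hle : zpowers t' ≤ K := zpowers_le.2 (mem_inf.2 ⟨h1, h2⟩)
      have heq : zpowers t' = K := Subgroup.eq_of_le_of_card_ge hle (by rw [hcardK, Nat.card_zpowers, h3])
      have hgK : g ∈ zpowers t' := heq ▸ mem_inf.2 ⟨hg, hg₁⟩
      obtain ⟨m, hm'⟩ := (mem_powers_iff_mem_zpowers (y := g) (x := t')).2 hgK
      refine ⟨⟨m % 8, Nat.mod_lt _ (by norm_num)⟩, ?_⟩
      simp only at hm' ⊢
      rw [← hm', ← h3, pow_mod_orderOf]
  rcases hcases with hq | hq
  · exact ⟨S₁, a, b, c, t, hS₁, mk htS htS₁ ho H hmem hinj hb hq⟩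
  · -- replace `t` by its fifth power
    have htu : t * u = u * t := by rw [hu, ← pow_succ, ← pow_succ']
    have ho5 : orderOf (t ^ 5) = 8 := by rw [orderOf_pow' t (by norm_num), ho]; rfl
    have h5 : t ^ 5 = u * t := by rw [hu, ← pow_succ]
    have hconj5 : ∀ x : T, t ^ 5 * x * (t ^ 5)⁻¹ = u * (t * x * t⁻¹) * u⁻¹ := fun x => by rw [h5]; group
    have ht5 : t ^ 5 * z * (t ^ 5)⁻¹ = z⁻¹ := by rw [hconj5, ht, ← conj_inv, huz]
    have hu5 : (t ^ 5) ^ 4 = u := by
      rw [hu, ← pow_mul, ← pow_mod_orderOf, ho]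
    have hub : u * b * u⁻¹ = b⁻¹ := by
      rw [hb]
      calc u * (t * a * t⁻¹) * u⁻¹ = (u * t) * a * (u * t)⁻¹ := by group
        _ = (t * u) * a * (t * u)⁻¹ := by rw [htu]
        _ = t * (u * a * u⁻¹) * t⁻¹ := by group
        _ = _ := by rw [hua]; group
    have hb5 : t ^ 5 * a * (t ^ 5)⁻¹ = b⁻¹ := by rw [hconj5, ← hb, hub]
    have hind5 : ∀ s ∈ (S : Subgroup T), s ∉ zpowers z → t ^ 5 * s * (t ^ 5)⁻¹ ∉ zpowers s ⊔ zpowers z := by
      intro x hx hxz hm
      refine hind x hx hxz ?_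
      have hxS := hconjS htS hx
      obtain ⟨j, hj⟩ : t * x * t⁻¹ * (u * (t * x * t⁻¹) * u⁻¹) ∈ zpowers z := by
        have hyS := hconjS (hpowS 4) hxS
        rw [← hu] at hyS
        refine no_fix h hc hz hu2 (by rw [huz]; exact mem_zpowers z) (mul_mem hxS hyS) ?_
        generalize t * x * t⁻¹ = y at hxS hyS ⊢
        have h1 : u * (y * (u * y * u⁻¹)) * u⁻¹ * (y * (u * y * u⁻¹))⁻¹ =
            (u * y * u⁻¹) * ((u * u) * y * (u * u)⁻¹) * (u * y * u⁻¹)⁻¹ * y⁻¹ := by group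
        rw [h1, huu, one_mul, inv_one, mul_one]
        exact mem_comm h hc hz hyS hxS
      simp only at hj
      rw [hconj5] at hm
      have : t * x * t⁻¹ = z ^ j * (u * (t * x * t⁻¹) * u⁻¹)⁻¹ := by rw [hj]; group
      rw [this]
      exact mul_mem (mem_sup_right (zpow_mem (mem_zpowers z) j)) (inv_mem hm)
    obtain ⟨b', c', hb', hcd', hctr', H', hmem', hinj', hcases'⟩ :=
      exists_rel h hc hz (hpowS 5) ho5 ht5 hind5 ha haz (by rw [hu5]; exact hua)
    rcases hcases' with hq' | hq'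
    · exact ⟨S₁, a, b', c', t ^ 5, hS₁, mk (hpowS 5)
        (MulAction.mem_stabilizer_iff.1 (pow_mem (show t ∈ MulAction.stabilizer T S₁ from htS₁) 5))
        ho5 H' hmem' hinj' hb' hq'⟩
    · exfalso
      -- both images would have the exponent `2`
      have hbb : b' = b⁻¹ := by rw [hb', hb5]
      have hq5 : t ^ 5 * b' * (t ^ 5)⁻¹ = t * b * t⁻¹ := by
        rw [hbb, hconj5]
        calc u * (t * b⁻¹ * t⁻¹) * u⁻¹ = (u * t) * b⁻¹ * (u * t)⁻¹ := by group
          _ = (t * u) * b⁻¹ * (t * u)⁻¹ := by rw [htu]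
          _ = t * (u * b * u⁻¹)⁻¹ * t⁻¹ := by group
          _ = _ := by rw [hub, inv_inv]
      rw [hq', hq] at hq5
      have e17 : ∀ x y : T, nf a x y 17 = a * x ^ 2 * y ^ 2 := fun x y => by simp [nf]
      rw [e17, e17, hbb, mul_assoc, mul_assoc, mul_left_cancel_iff] at hq5
      -- compare coordinates
      have hc'z : c' ∈ zpowers c := by
        rw [hcd', hbb]
        exact mem_comm h hc hctr ha (inv_mem (by simpa [nf] using hmem 3))
      obtain ⟨k, hk⟩ := (mem_powers_iff_mem_zpowers (y := c') (x := c)).2 hc'z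
      simp only at hk
      have hb2 : b⁻¹ ^ 2 = b := by
        rw [inv_pow]
        exact inv_eq_of_mul_eq_one_left (by rw [← pow_succ']; exact H.b3)
      rw [hb2, ← hk, ← pow_mul, pow_mod_three H.z3 (k * 2)] at hq5
      have hlt : 3 + k * 2 % 3 < 27 := by omega
      have := hinj ⟨3 + k * 2 % 3, hlt⟩ ⟨8, by norm_num⟩ (by
        show nf a b c (3 + k * 2 % 3) = nf a b c 8
        have e1 : (3 + k * 2 % 3) / 9 = 0 ∧ (3 + k * 2 % 3) / 3 % 3 = 1 ∧ (3 + k * 2 % 3) % 3 = k * 2 % 3 := by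
          have : ∀ r : ℕ, r < 3 → (3 + r) / 9 = 0 ∧ (3 + r) / 3 % 3 = 1 ∧ (3 + r) % 3 = r := by intro r _; omega
          exact this _ (Nat.mod_lt _ (by norm_num))
        rw [nf, e1.1, e1.2.1, e1.2.2, pow_zero, one_mul, pow_one, hq5]
        simp [nf])
      have := congrArg Fin.val this
      simp only at this
      omega

end CfsgLib.Recog.G2Spectrum
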