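import Cfsg.Agent.Lib.Recog.G2Spectrum.Degrees
import Cfsg.Agent.Lib.Perm.SylowNormalizer
import Mathlib.Tactic

/-!
Owner: helper14. A simple group of order `6048` without elements of order 9, 14 or 21 has twenty eight
Sylow 3-subgroups, any two meeting trivially.
-/

set_option autoImplicit false

namespace CfsgLib.Recog.G2Spectrum

open Cfsg CfsgLib.Char Subgroup
open scoped ComplexConjugate Classical commutatorElement

variable {T : Type*} [Group T] [Fintype T] {χ θ : IrrCharacter T}

/-- `z` is the distinguished element of a Sylow 3-subgroup -/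
def IsCtr (χ : IrrCharacter T) (S : Sylow 3 T) (z : T) : Prop :=
  z ∈ (S : Subgroup T) ∧ orderOf z = 3 ∧ (χ : T → ℂ) z = -3

variable (h : Hyp48 T) (hc : Chars T χ θ)
include h

theorem card_sylow_three (S : Sylow 3 T) : Nat.card (S : Subgroup T) = 27 := by
  haveI : Fact (Nat.Prime 3) := ⟨Nat.prime_three⟩
  exact CfsgLib.Perm.sylow_card_eq S (k := 3) (m := 224) (by rw [h.card]; norm_num) (by norm_num)

theorem orderOf_mem_sylow {S : Sylow 3 T} {g : T} (hg : g ∈ (S : Subgroup T)) (hg1 : g ≠ 1) :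
    orderOf g = 3 :=
  haveI : Fact (Nat.Prime 3) := ⟨Nat.prime_three⟩
  orderOf_eq_prime (h.nobad.pow_three (card_sylow_three h S) hg) hg1

include hc

theorem exists_ctr (S : Sylow 3 T) : ∃ z, IsCtr χ S z ∧
    ∀ g, IsCtr χ S g → g = z ∨ g = z⁻¹ := by
  haveI : Fact (Nat.Prime 3) := ⟨Nat.prime_three⟩
  obtain ⟨d, hd⟩ := CfsgLib.Perm.CharAverage.exists_sum_eq (S : Subgroup T) (IsIrr.isCharacter χ.2)
  set M := Finset.univ.filter fun g : (S : Subgroup T) => (χ : T → ℂ) g = -3 with hM
  have hval : ∀ g : (S : Subgroup T), (χ : T → ℂ) g =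
      (if g = 1 then 6 else 0) - 3 * (if (χ : T → ℂ) g = -3 then 1 else 0) := by
    intro g
    by_cases hg : g = 1
    · rw [if_pos hg, hg, OneMemClass.coe_one, hc.deg]; norm_num
    · rw [if_neg hg]
      rcases hc.three _ (orderOf_mem_sylow h g.2 fun e => hg (Subtype.ext e)) with e | e <;>
        rw [e] <;> norm_num
  rw [Finset.sum_congr rfl (fun g _ => hval g), Finset.sum_sub_distrib, ← Finset.mul_sum,
    Finset.sum_boole, Finset.sum_ite_eq', if_pos (Finset.mem_univ _), card_sylow_three h, ← hM] at hd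
  have h6 : 6 = 27 * d + 3 * M.card := by
    have : ((6 : ℕ) : ℂ) = ((27 * d + 3 * M.card : ℕ) : ℂ) := by push_cast at hd ⊢; linear_combination hd
    exact_mod_cast this
  have hM2 : M.card = 2 := by omega
  obtain ⟨z, z', hne, hzz⟩ := Finset.card_eq_two.1 hM2
  have hzM : z ∈ M := by rw [hzz]; simp
  rw [hM, Finset.mem_filter] at hzM
  have hz1 : (z : T) ≠ 1 := fun e => by
    have := hzM.2; rw [e, hc.deg] at this; norm_num at this
  have hzo := orderOf_mem_sylow h z.2 hz1
  have hinv : z⁻¹ ∈ M := by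
    rw [hM, Finset.mem_filter]
    refine ⟨Finset.mem_univ _, ?_⟩
    rw [InvMemClass.coe_inv, IsIrr.map_inv χ.2, hzM.2]
    simp [map_ofNat]
  have hz' : z⁻¹ = z' := by
    rw [hzz] at hinv
    rcases Finset.mem_insert.1 hinv with e | e
    · exfalso
      have : (z : T) * z = 1 := by
        have e2 := congrArg (fun w : (S : Subgroup T) => (w : T) * z) e
        simpa using e2.symm
      have h2 : orderOf (z : T) ∣ 2 := orderOf_dvd_of_pow_eq_one (by rw [pow_two, this])
      rw [hzo] at h2; norm_num at h2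
    · exact Finset.mem_singleton.1 e
  refine ⟨z, ⟨z.2, hzo, hzM.2⟩, fun g hg => ?_⟩
  have : (⟨g, hg.1⟩ : (S : Subgroup T)) ∈ M := by rw [hM, Finset.mem_filter]; exact ⟨Finset.mem_univ _, hg.2.2⟩
  rw [hzz, ← hz'] at this
  rcases Finset.mem_insert.1 this with e | e
  · exact Or.inl (congrArg Subtype.val e)
  · exact Or.inr (by simpa using congrArg Subtype.val (Finset.mem_singleton.1 e))

theorem IsCtr.eq_or {S : Sylow 3 T} {z g : T} (hz : IsCtr χ S z) (hg : IsCtr χ S g) : g = z ∨ g = z⁻¹ := by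
  obtain ⟨w, -, hw⟩ := exists_ctr h hc S
  rcases hw z hz with rfl | rfl <;> rcases hw g hg with rfl | rfl <;> simp

theorem IsCtr.central {S : Sylow 3 T} {z s : T} (hz : IsCtr χ S z) (hs : s ∈ (S : Subgroup T)) :
    Commute s z := by
  have hconj : IsCtr χ S (s * z * s⁻¹) :=
    ⟨mul_mem (mul_mem hs hz.1) (inv_mem hs), by
      rw [show s * z * s⁻¹ = MulAut.conj s z from rfl, MulEquiv.orderOf_eq, hz.2.1], by
      rw [IsIrr.isClassFunction χ.2 z s]; exact hz.2.2⟩
  rcases IsCtr.eq_or h hc hz hconj with e | e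
  · exact mul_inv_eq_iff_eq_mul.1 e
  · exfalso
    have hs3 := h.nobad.pow_three (card_sylow_three h S) hs
    have h2 : s * s * z * (s * s)⁻¹ = z := by
      rw [show s * s * z * (s * s)⁻¹ = s * (s * z * s⁻¹) * s⁻¹ by group, e,
        show s * z⁻¹ * s⁻¹ = (s * z * s⁻¹)⁻¹ by group, e, inv_inv]
    have h4 : s * z * s⁻¹ = z := by
      have : s * s * (s * s * z * (s * s)⁻¹) * (s * s)⁻¹ = z := by rw [h2, h2]
      rw [show s * s * (s * s * z * (s * s)⁻¹) * (s * s)⁻¹ = s ^ 3 * (s * z * s⁻¹) * (s ^ 3)⁻¹ by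
          simp only [pow_succ, pow_zero, one_mul, mul_inv_rev, mul_assoc],
        hs3, one_mul, inv_one, mul_one] at this
      exact this
    rw [h4] at e
    have : orderOf z ∣ 2 := orderOf_dvd_of_pow_eq_one (by rw [pow_two]; exact mul_eq_one_iff_eq_inv.2 e)
    rw [hz.2.1] at this; norm_num at this

theorem IsCtr.le_centralizer {S : Sylow 3 T} {z : T} (hz : IsCtr χ S z) :
    (S : Subgroup T) ≤ centralizer ({z} : Set T) :=
  fun _ hs => mem_centralizer_singleton_iff.2 (IsCtr.central h hc hz hs).eq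

theorem IsCtr.card_facts {S : Sylow 3 T} {z : T} (hz : IsCtr χ S z) :
    Nat.card (centralizer ({z} : Set T)) = 108 ∧
      Nat.card (normalizer ((zpowers z : Subgroup T) : Set T)) = 216 := by
  haveI : Fact (Nat.Prime 3) := ⟨Nat.prime_three⟩
  set C := centralizer ({z} : Set T) with hC
  set N := normalizer ((zpowers z : Subgroup T) : Set T) with hN
  obtain ⟨h8, h42, h84⟩ := hc.index_dvd z hz.2.1 hz.2.2
  rw [← hC] at h8 h42 h84
  have h27 : 27 ∣ Nat.card C := card_sylow_three h S ▸ Subgroup.card_dvd_of_le (IsCtr.le_centralizer h hc hz)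
  have h7 : ¬ 7 ∣ Nat.card C := h.nobad.not_seven_dvd_centralizer (Or.inr hz.2.1)
  have h756 : Nat.card C ∣ 756 := by
    obtain ⟨c, hc'⟩ := h8
    refine ⟨c, ?_⟩
    have := C.card_mul_index
    rw [hc', h.card] at this
    nlinarith
  have hC' : Nat.card C = 54 ∨ Nat.card C = 108 := by
    have hlt : Nat.card C < 757 := Nat.lt_succ_of_le (Nat.le_of_dvd (by norm_num) h756)
    have key : ∀ c : Fin 757, c.val ∣ 756 → 27 ∣ c.val → ¬ 7 ∣ c.val → 42 ≤ c.val →
        c.val = 54 ∨ c.val = 108 := by decide +kernel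
    exact key ⟨_, hlt⟩ h756 h27 h7 h42
  have hCN : C ≤ N := fun y hy => by
    rw [hN, mem_normalizer_iff]
    intro w
    have hyz : Commute y z := mem_centralizer_singleton_iff.1 hy
    constructor
    · rintro ⟨i, rfl⟩
      exact ⟨i, by simp only [(hyz.zpow_right i).eq, mul_inv_cancel_right]⟩
    · rintro ⟨i, hi⟩
      refine ⟨i, ?_⟩
      simp only at hi ⊢
      rw [← mul_left_cancel_iff (a := y), (hyz.zpow_right i).eq, hi]
      group
  let ψ := (zpowers z).normalizerMonoidHom
  have hker : ψ.ker = C.subgroupOf N := by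
    rw [normalizerMonoidHom_ker, show centralizer ((zpowers z : Subgroup T) : Set T) = C by
      rw [hC, zpowers_eq_closure, centralizer_closure]]
  have hcardN : Nat.card N = Nat.card C * Nat.card ψ.range := by
    rw [← ψ.ker.card_mul_index, Subgroup.index_ker, hker,
      Nat.card_congr (subgroupOfEquivOfLe hCN).toEquiv]
  have hr : Nat.card ψ.range ∣ 2 := by
    haveI : IsCyclic (zpowers z) := inferInstance
    have := Subgroup.card_subgroup_dvd_card ψ.range
    rwa [IsCyclic.card_mulAut, Nat.card_zpowers, hz.2.1, Nat.totient_prime Nat.prime_three] at this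
  have hreal : Nat.card ψ.range = 1 → ¬ IsConj z z⁻¹ := by
    intro h1 hconj
    obtain ⟨g, hg⟩ := isConj_iff.1 hconj
    have hgN : g ∈ N := by
      rw [hN, mem_normalizer_iff]
      intro w
      constructor
      · rintro ⟨i, rfl⟩
        exact ⟨-i, by simp only [← conj_zpow, hg, zpow_neg, inv_zpow]⟩
      · rintro ⟨i, hi⟩
        refine ⟨-i, ?_⟩
        have : g * z ^ (-i) * g⁻¹ = g * w * g⁻¹ := by
          rw [← conj_zpow, hg, inv_zpow, ← zpow_neg, neg_neg]; exact hi
        exact mul_left_cancel (mul_right_cancel this)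
    have hgk : (⟨g, hgN⟩ : N) ∈ ψ.ker := by
      rw [MonoidHom.mem_ker]
      have : ψ ⟨g, hgN⟩ ∈ ψ.range := ⟨_, rfl⟩
      rw [Subgroup.card_eq_one.1 h1, mem_bot] at this
      exact this
    rw [hker, mem_subgroupOf] at hgk
    rw [hC, mem_centralizer_singleton_iff] at hgk
    rw [hgk, mul_inv_cancel_right] at hg
    have : orderOf z ∣ 2 := orderOf_dvd_of_pow_eq_one (by rw [pow_two]; exact mul_eq_one_iff_eq_inv.2 hg)
    rw [hz.2.1] at this; norm_num at this
  -- the Sylow numbers
  obtain ⟨S₁, hS₁⟩ : ∃ S₁ : Sylow 3 N, (S₁ : Subgroup N) = (S : Subgroup T).subgroupOf N :=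
    ⟨S.subtype ((IsCtr.le_centralizer h hc hz).trans hCN), rfl⟩
  have hNS : normalizer ((S : Subgroup T) : Set T) ≤ N := by
    intro g hg
    have hg' := mem_normalizer_iff.1 hg
    have hi : ∀ g ∈ normalizer ((S : Subgroup T) : Set T), g * z * g⁻¹ ∈ zpowers z := by
      intro g hg
      have hk : IsCtr χ S (g * z * g⁻¹) := ⟨(mem_normalizer_iff.1 hg z).1 hz.1, by
        rw [show g * z * g⁻¹ = MulAut.conj g z from rfl, MulEquiv.orderOf_eq, hz.2.1], by
        rw [IsIrr.isClassFunction χ.2 z g]; exact hz.2.2⟩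
      rcases IsCtr.eq_or h hc hz hk with e | e <;> rw [e]
      · exact mem_zpowers z
      · exact inv_mem (mem_zpowers z)
    rw [hN, mem_normalizer_iff]
    intro w
    constructor
    · rintro ⟨i, rfl⟩
      simp only [← conj_zpow]
      exact zpow_mem (hi g hg) i
    · rintro ⟨i, hi'⟩
      have := zpow_mem (hi g⁻¹ (inv_mem hg)) i
      rw [conj_zpow, show z ^ i = g * w * g⁻¹ from hi'] at this
      simpa [mul_assoc] using this
  have hcardS := CfsgLib.Perm.card_normalizer_mul_card_sylow S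
  have hcardS₁ := CfsgLib.Perm.card_normalizer_mul_card_sylow S₁
  have hnn : Nat.card (normalizer ((S₁ : Subgroup N) : Set N)) =
      Nat.card (normalizer ((S : Subgroup T) : Set T)) := by
    rw [hS₁, ← subgroupOf_normalizer_eq ((IsCtr.le_centralizer h hc hz).trans hCN),
      Nat.card_congr (subgroupOfEquivOfLe hNS).toEquiv]
  have hm1 : Nat.card (Sylow 3 T) % 3 = 1 := card_sylow_modEq_one 3 T
  have hm2 : Nat.card (Sylow 3 N) % 3 = 1 := card_sylow_modEq_one 3 N
  rw [hnn] at hcardS₁
  rw [h.card] at hcardS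
  have hpos : 0 < Nat.card (normalizer ((S : Subgroup T) : Set T)) := Nat.card_pos
  have hmul : ∀ j, Nat.card N * j = 6048 → Nat.card (Sylow 3 T) = j * Nat.card (Sylow 3 N) := by
    intro j hj
    apply Nat.eq_of_mul_eq_mul_left hpos
    rw [hcardS, ← hj, ← hcardS₁]; ring
  rcases (Nat.dvd_prime Nat.prime_two).1 hr with e | e <;> rcases hC' with ec | ec <;>
    rw [e, ec] at hcardN
  · exact absurd (h84 (hreal e)) (by omega)
  · exfalso
    have := hmul 56 (by omega); omega
  · exfalso
    have := hmul 56 (by omega); omega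
  · exact ⟨ec, hcardN⟩

theorem IsCtr.eq_sylow {S S' : Sylow 3 T} {z : T} (hz : IsCtr χ S z)
    (hS' : (S' : Subgroup T) ≤ centralizer ({z} : Set T)) : S' = S := by
  haveI : Fact (Nat.Prime 3) := ⟨Nat.prime_three⟩
  by_contra hne
  set C := centralizer ({z} : Set T) with hC
  set D := (S : Subgroup T) ⊓ (S' : Subgroup T) with hD
  have hSC := IsCtr.le_centralizer h hc hz
  have hzS' : z ∈ (S' : Subgroup T) := by
    -- a central element of order three lies in every Sylow subgroup of its centralizer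
    have hp : IsPGroup 3 ↥((zpowers z) ⊔ (S' : Subgroup T)) := by
      refine IsPGroup.to_sup_of_normal_left' (IsPGroup.of_card (n := 1) (by rw [Nat.card_zpowers, hz.2.1, pow_one]))
        S'.isPGroup' ?_
      intro s hs
      rw [mem_normalizer_iff]
      intro w
      have hsz : Commute s z := mem_centralizer_singleton_iff.1 (hS' hs)
      constructor
      · rintro ⟨i, rfl⟩
        exact ⟨i, by simp only [(hsz.zpow_right i).eq, mul_inv_cancel_right]⟩
      · rintro ⟨i, hi⟩
        refine ⟨i, ?_⟩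
        simp only at hi ⊢
        rw [← mul_left_cancel_iff (a := s), (hsz.zpow_right i).eq, hi]
        group
    rw [← S'.is_maximal' hp le_sup_right]
    exact mem_sup_left (mem_zpowers z)
  -- the intersection is larger than the centre
  have hbig : 6 < Nat.card D := by
    have hSS := card_sylow_three h S
    have hS'' := card_sylow_three h S'
    have hr : ∀ {H : Subgroup T}, H ≤ C → Nat.card H * H.relIndex C = 108 := fun {H} hH => by
      rw [← Subgroup.relIndex_bot_left, Subgroup.relIndex_mul_relIndex _ _ _ bot_le hH,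
        Subgroup.relIndex_bot_left, (IsCtr.card_facts h hc hz).1]
    have e1 := hr hSC
    have e2 := hr hS'
    have e3 := hr ((inf_le_left : D ≤ _).trans hSC)
    have e4 : D.relIndex C ≤ _ := Subgroup.relIndex_inf_le
    rw [hSS] at e1
    rw [hS''] at e2
    rw [show (S : Subgroup T).relIndex C = 4 by omega, show (S' : Subgroup T).relIndex C = 4 by omega] at e4
    nlinarith
  obtain ⟨g, hgD, hgz⟩ : ∃ g ∈ D, g ∉ zpowers z := by
    by_contra hh
    push Not at hh
    have := Subgroup.card_le_of_le hh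
    rw [Nat.card_zpowers, hz.2.1] at this
    omega
  rw [hD, mem_inf] at hgD
  have hg1 : g ≠ 1 := fun e => hgz (e ▸ one_mem _)
  have hgo := orderOf_mem_sylow h hgD.1 hg1
  have hχg : (χ : T → ℂ) g = 0 := by
    rcases hc.three g hgo with e | e
    · exact e
    · exfalso
      rcases IsCtr.eq_or h hc hz ⟨hgD.1, hgo, e⟩ with e' | e' <;> rw [e'] at hgz
      · exact hgz (mem_zpowers z)
      · exact hgz (inv_mem (mem_zpowers z))
  let W : Subgroup T :=
    { carrier := {n | n ∈ C ∧ ∃ k : ℤ, n * g * n⁻¹ = g * z ^ k}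
      mul_mem' := by
        rintro a b ⟨ha, k, hk⟩ ⟨hb, l, hl⟩
        refine ⟨mul_mem ha hb, k + l, ?_⟩
        have hcl : a * z ^ l * a⁻¹ = z ^ l := by
          rw [((show Commute a z from mem_centralizer_singleton_iff.1 ha).zpow_right l).eq, mul_inv_cancel_right]
        calc a * b * g * (a * b)⁻¹ = a * (b * g * b⁻¹) * a⁻¹ := by group
          _ = (a * g * a⁻¹) * (a * z ^ l * a⁻¹) := by rw [hl]; group
          _ = g * z ^ (k + l) := by rw [hk, hcl, zpow_add, mul_assoc]
      one_mem' := ⟨one_mem _, 0, by simp⟩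
      inv_mem' := by
        rintro a ⟨ha, k, hk⟩
        refine ⟨inv_mem ha, -k, ?_⟩
        have hcl : a⁻¹ * z ^ k * a = z ^ k := by
          rw [mul_assoc, ← ((show Commute a z from mem_centralizer_singleton_iff.1 ha).zpow_right k).eq,
            inv_mul_cancel_left]
        have e : g = (a⁻¹ * g * a) * z ^ k := by
          calc g = a⁻¹ * (a * g * a⁻¹) * a := by group
            _ = (a⁻¹ * g * a) * (a⁻¹ * z ^ k * a) := by rw [hk]; group
            _ = _ := by rw [hcl]
        rw [inv_inv, zpow_neg, eq_mul_inv_iff_mul_eq]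
        exact e.symm }
  have hW2 : ∀ w ∈ W, w * w = 1 → w = 1 := by
    rintro w ⟨hw, k, hk⟩ hww
    by_contra hw1
    refine hc.no_involution g w hgo hχg (orderOf_eq_prime (by rw [pow_two, hww]) hw1) ?_
    have hcl : w * z ^ k * w⁻¹ = z ^ k := by
      rw [((show Commute w z from mem_centralizer_singleton_iff.1 hw).zpow_right k).eq, mul_inv_cancel_right]
    have h2 : g = g * z ^ (k + k) := by
      calc g = (w * w) * g * (w * w)⁻¹ := by rw [hww]; group
        _ = w * (w * g * w⁻¹) * w⁻¹ := by group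
        _ = w * (g * z ^ k) * w⁻¹ := by rw [hk]
        _ = (w * g * w⁻¹) * (w * z ^ k * w⁻¹) := by group
        _ = _ := by rw [hk, hcl, zpow_add, mul_assoc]
    have h3 : (3 : ℤ) ∣ k + k := by
      have := orderOf_dvd_iff_zpow_eq_one.2 (left_eq_mul.1 h2)
      rwa [hz.2.1] at this
    have hk0 : z ^ k = 1 := orderOf_dvd_iff_zpow_eq_one.1 (by rw [hz.2.1]; push_cast; omega)
    rw [hk0, mul_one, mul_inv_eq_iff_eq_mul] at hk
    exact hk.symm
  have hWC : W ≤ C := fun w hw => hw.1
  have hW27 : Nat.card W ≤ 27 := by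
    have hd : Nat.card W ∣ 108 := (IsCtr.card_facts h hc hz).1 ▸ Subgroup.card_dvd_of_le hWC
    have hodd : ¬ 2 ∣ Nat.card W := by
      intro h2
      haveI : Fact (Nat.Prime 2) := ⟨Nat.prime_two⟩
      obtain ⟨w, hw⟩ := exists_prime_orderOf_dvd_card' (G := W) 2 h2
      have hw' : (w : T) = 1 := hW2 w w.2 (by
        have := pow_orderOf_eq_one w
        rw [hw, pow_two] at this
        exact congrArg Subtype.val this)
      have : w = 1 := Subtype.ext hw'
      rw [this, orderOf_one] at hw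
      norm_num at hw
    have hlt : Nat.card W < 109 := Nat.lt_succ_of_le (Nat.le_of_dvd (by norm_num) hd)
    have key : ∀ c : Fin 109, c.val ∣ 108 → ¬ 2 ∣ c.val → c.val ≤ 27 := by decide +kernel
    exact key ⟨_, hlt⟩ hd hodd
  have hSW : ∀ R : Sylow 3 T, g ∈ (R : Subgroup T) → z ∈ (R : Subgroup T) →
      (R : Subgroup T) ≤ C → (R : Subgroup T) ≤ W := by
    intro R hgR hzR hRC s hs
    refine ⟨hRC hs, ?_⟩
    -- the quotient by the central subgroup has order nine
    set Z := (zpowers z).subgroupOf (R : Subgroup T) with hZ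
    have hZn : Z.Normal := ⟨fun n hn a => by
      rw [hZ, mem_subgroupOf] at hn ⊢
      have haz : Commute (a : T) z := mem_centralizer_singleton_iff.1 (hRC a.2)
      obtain ⟨i, hi⟩ := hn
      refine ⟨i, ?_⟩
      simp only at hi
      simp only [Subgroup.coe_mul, InvMemClass.coe_inv, ← hi, (haz.zpow_right i).eq, mul_inv_cancel_right]⟩
    haveI := hZn
    have hidx : Nat.card ((R : Subgroup T) ⧸ Z) = 3 ^ 2 := by
      have hZ3 : Nat.card Z = 3 := by
        rw [hZ, Nat.card_congr (subgroupOfEquivOfLe (zpowers_le.2 hzR)).toEquiv, Nat.card_zpowers, hz.2.1]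
      have := Z.card_eq_card_quotient_mul_card_subgroup
      rw [card_sylow_three h R, hZ3] at this
      omega
    have hcomm := IsPGroup.commutative_of_card_eq_prime_sq hidx
      ((⟨g, hgR⟩ : (R : Subgroup T)) : (R : Subgroup T) ⧸ Z) ((⟨s, hs⟩ : (R : Subgroup T)) : _ ⧸ Z)
    rw [← QuotientGroup.mk_mul, ← QuotientGroup.mk_mul, QuotientGroup.eq, hZ, mem_subgroupOf] at hcomm
    obtain ⟨i, hi⟩ := hcomm
    simp only [Subgroup.coe_mul, InvMemClass.coe_inv] at hi
    refine ⟨i, ?_⟩
    have hsz : s⁻¹ * z ^ i = z ^ i * s⁻¹ :=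
      (((show Commute s z from mem_centralizer_singleton_iff.1 (hRC hs)).zpow_right i).inv_left).eq
    calc s * g * s⁻¹ = g * s * ((g * s)⁻¹ * (s * g)) * s⁻¹ := by group
      _ = g * s * (z ^ i * s⁻¹) := by rw [← hi]; group
      _ = g * z ^ i := by rw [← hsz]; group
  have e1 := Subgroup.eq_of_le_of_card_ge (hSW S hgD.1 hz.1 hSC) (by rw [card_sylow_three h S]; exact hW27)
  have e2 := Subgroup.eq_of_le_of_card_ge (hSW S' hgD.2 hzS' hS') (by rw [card_sylow_three h S']; exact hW27)
  exact hne (Sylow.ext (e2.trans e1.symm))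

theorem normalizer_eq {S : Sylow 3 T} {z : T} (hz : IsCtr χ S z) :
    normalizer ((S : Subgroup T) : Set T) = normalizer ((zpowers z : Subgroup T) : Set T) := by
  haveI : Fact (Nat.Prime 3) := ⟨Nat.prime_three⟩
  apply le_antisymm
  · intro g hg
    have hi : ∀ g ∈ normalizer ((S : Subgroup T) : Set T), g * z * g⁻¹ ∈ zpowers z := by
      intro g hg
      have hk : IsCtr χ S (g * z * g⁻¹) := ⟨(mem_normalizer_iff.1 hg z).1 hz.1, by
        rw [show g * z * g⁻¹ = MulAut.conj g z from rfl, MulEquiv.orderOf_eq, hz.2.1], by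
        rw [IsIrr.isClassFunction χ.2 z g]; exact hz.2.2⟩
      rcases IsCtr.eq_or h hc hz hk with e | e <;> rw [e]
      · exact mem_zpowers z
      · exact inv_mem (mem_zpowers z)
    rw [mem_normalizer_iff]
    intro w
    constructor
    · rintro ⟨i, rfl⟩
      simp only [← conj_zpow]
      exact zpow_mem (hi g hg) i
    · rintro ⟨i, hi'⟩
      have := zpow_mem (hi g⁻¹ (inv_mem hg)) i
      rw [conj_zpow, show z ^ i = g * w * g⁻¹ from hi'] at this
      simpa [mul_assoc] using this
  · intro g hg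
    have hle : ((g • S : Sylow 3 T) : Subgroup T) ≤ centralizer ({z} : Set T) := by
      intro y hy
      rw [Sylow.coe_subgroup_smul, mem_pointwise_smul_iff_inv_smul_mem] at hy
      obtain ⟨i, hi⟩ : g⁻¹ * z * g ∈ zpowers z := by
        have := (mem_normalizer_iff.1 (inv_mem hg) z).1 (mem_zpowers z)
        simpa using this
      have hy' : Commute (g⁻¹ * y * g) z := by
        have := mem_centralizer_singleton_iff.1 (IsCtr.le_centralizer h hc hz hy)
        refine (?_ : g⁻¹ * y * g * z = z * (g⁻¹ * y * g))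
        simpa [← map_inv, mul_assoc] using this
      have h2 : Commute (g⁻¹ * y * g) (g⁻¹ * z * g) := by
        simp only at hi; rw [← hi]; exact hy'.zpow_right i
      have h3 : g⁻¹ * (y * z) * g = g⁻¹ * (z * y) * g := by
        calc g⁻¹ * (y * z) * g = (g⁻¹ * y * g) * (g⁻¹ * z * g) := by group
          _ = (g⁻¹ * z * g) * (g⁻¹ * y * g) := h2.eq
          _ = _ := by group
      exact mem_centralizer_singleton_iff.2 (mul_left_cancel (mul_right_cancel h3))
    exact Sylow.smul_eq_iff_mem_normalizer.1 (IsCtr.eq_sylow h hc hz hle)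

theorem card_sylow_normalizer (S : Sylow 3 T) :
    Nat.card (normalizer ((S : Subgroup T) : Set T)) = 216 ∧ Nat.card (Sylow 3 T) = 28 := by
  haveI : Fact (Nat.Prime 3) := ⟨Nat.prime_three⟩
  obtain ⟨z, hz, -⟩ := exists_ctr h hc S
  have h1 := normalizer_eq h hc hz
  have h2 : Nat.card (normalizer ((S : Subgroup T) : Set T)) = 216 := by
    rw [h1]; exact (IsCtr.card_facts h hc hz).2
  refine ⟨h2, ?_⟩
  have h3 := CfsgLib.Perm.card_normalizer_mul_card_sylow S
  rw [h2, h.card] at h3
  omega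

theorem eq_of_mem_inter {S S' : Sylow 3 T} {g : T} (hg : g ∈ (S : Subgroup T)) (hg' : g ∈ (S' : Subgroup T))
    (hg1 : g ≠ 1) : S' = S := by
  haveI : Fact (Nat.Prime 3) := ⟨Nat.prime_three⟩
  obtain ⟨z, hz, -⟩ := exists_ctr h hc S
  obtain ⟨z', hz', -⟩ := exists_ctr h hc S'
  have hgo := orderOf_mem_sylow h hg hg1
  have hkey : ∀ R : Sylow 3 T, IsCtr χ R z → IsCtr χ R z' → S' = S := by
    intro R h1 h2
    refine IsCtr.eq_sylow h hc hz fun y hy => ?_
    have hy' := mem_centralizer_singleton_iff.1 (IsCtr.le_centralizer h hc hz' hy)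
    rw [mem_centralizer_singleton_iff]
    rcases IsCtr.eq_or h hc h2 h1 with e | e <;> rw [e]
    · exact hy'
    · exact ((show Commute y z' from hy').inv_right).eq
  rcases hc.three g hgo with e | e
  · set C := centralizer ({g} : Set T) with hC
    have hzC : ∀ {R : Sylow 3 T} {w : T}, g ∈ (R : Subgroup T) → IsCtr χ R w → w ∈ C :=
      fun hgR hw => mem_centralizer_singleton_iff.2 (IsCtr.central h hc hw hgR).eq.symm
    have hp : IsPGroup 3 C := by
      have hd : Nat.card C ∣ 6048 := h.card ▸ Subgroup.card_subgroup_dvd_card C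
      have h7 : ¬ 7 ∣ Nat.card C := h.nobad.not_seven_dvd_centralizer (Or.inr hgo)
      have h2 : ¬ 2 ∣ Nat.card C := by
        intro h2
        haveI : Fact (Nat.Prime 2) := ⟨Nat.prime_two⟩
        obtain ⟨w, hw⟩ := exists_prime_orderOf_dvd_card' (G := C) 2 h2
        exact hc.no_involution g w hgo e (by rw [Subgroup.orderOf_coe, hw])
          (mem_centralizer_singleton_iff.1 w.2).symm
      have hlt : Nat.card C < 6049 := Nat.lt_succ_of_le (Nat.le_of_dvd (by norm_num) hd)
      have key : Nat.card C ∣ 3 ^ 3 := by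
        have c1 : (Nat.card C).Coprime (2 ^ 5 * 7) :=
          Nat.Coprime.mul_right ((Nat.prime_two.coprime_iff_not_dvd.2 h2).symm.pow_right 5)
            ((Nat.Prime.coprime_iff_not_dvd (by norm_num)).2 h7).symm
        exact c1.dvd_of_dvd_mul_left (n := 3 ^ 3) hd
      obtain ⟨k, -, hk⟩ := (Nat.dvd_prime_pow Nat.prime_three).1 key
      exact IsPGroup.of_card hk
    obtain ⟨R, hR⟩ := hp.exists_le_sylow
    exact hkey R ⟨hR (hzC hg hz), hz.2⟩ ⟨hR (hzC hg' hz'), hz'.2⟩
  · rcases IsCtr.eq_or h hc hz ⟨hg, hgo, e⟩ with rfl | rfl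
    · exact hkey S' ⟨hg', hz.2⟩ hz'
    · exact hkey S' ⟨by simpa using inv_mem hg', hz.2⟩ hz'

end CfsgLib.Recog.G2Spectrum
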