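import Cfsg.Agent.Lib.Recog.G2Spectrum.Coords
import Mathlib.Tactic

/-!
Owner: helper14. The normaliser of the tabulated group of degree 28 has order at most `28 * 27 * 16`.
-/

set_option autoImplicit false

namespace CfsgLib.Recog.G2Spectrum

open Subgroup

/-- the stabiliser of the fixed point consists of translations times powers of the automorphism -/
def StabShape : Prop :=
  ∀ g ∈ model, g ⟨27, by norm_num⟩ = ⟨27, by norm_num⟩ →
    ∃ u < 27, ∃ m : Fin 8, ∀ p : Fin 28, ((g p : Fin 28) : ℕ) = lU u (tpU m p)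

/-- powers of a translation -/
def powL (u : ℕ) : ℕ → ℕ → ℕ
  | 0, p => p
  | n + 1, p => lU u (powL u n p)

theorem trans_check : (∀ u : Fin 27, ∀ p : Fin 28,
      lU u p = powL 9 (u.val / 9) (powL 3 (u.val / 3 % 3) (powL 1 (u.val % 3) p)) ∧
      lU 1 p = lU 9 (lU 3 (lU 9 (lU 9 (lU 3 (lU 3 p)))))) ∧
    fld w0C 27 = 0 ∧ fld w0C 0 = 27 ∧ (∀ u : Fin 27, lU u 0 = u.val ∧ lU u 27 = 27) ∧
    tpU 1 9 = 3 ∧ (∀ x : Fin 27, endU 9 3 x = x.val) := by decide +kernel

theorem exists_translation : ∀ u < 27, ∃ g ∈ model, ∀ p : Fin 28, ((g p : Fin 28) : ℕ) = lU u p := by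
  intro u hu
  have hla : laP ∈ model := subset_closure (by simp)
  have hlb : lbP ∈ model := subset_closure (by simp)
  set lz := laP * lbP * laP * laP * lbP * lbP with hlz
  have hz : lz ∈ model := mul_mem (mul_mem (mul_mem (mul_mem (mul_mem hla hlb) hla) hla) hlb) hlb
  have hzv : ∀ p : Fin 28, ((lz p : Fin 28) : ℕ) = lU 1 p := fun p => by
    rw [(trans_check.1 ⟨u, hu⟩ p).2]
    simp [hlz, Equiv.Perm.mul_apply, laP, lbP]
  have hpow : ∀ {g : Equiv.Perm (Fin 28)} {v : ℕ}, (∀ p : Fin 28, ((g p : Fin 28) : ℕ) = lU v p) →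
      ∀ (n : ℕ) (p : Fin 28), (((g ^ n) p : Fin 28) : ℕ) = powL v n p := by
    intro g v hg n
    induction n with
    | zero => intro p; simp [powL]
    | succ n ih => intro p; rw [pow_succ', Equiv.Perm.mul_apply, hg, ih]; rfl
  refine ⟨laP ^ (u / 9) * lbP ^ (u / 3 % 3) * lz ^ (u % 3),
    mul_mem (mul_mem (pow_mem hla _) (pow_mem hlb _)) (pow_mem hz _), fun p => ?_⟩
  rw [(trans_check.1 ⟨u, hu⟩ p).1, Equiv.Perm.mul_apply, Equiv.Perm.mul_apply,
    hpow (g := laP) (v := 9) (fun q => tablePerm_apply _ _ _ q), hpow (g := lbP) (v := 3) (fun q => tablePerm_apply _ _ _ q),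
    hpow (v := 1) hzv]

theorem endU_hom (σ : ℕ → ℕ) (h0 : σ 0 = 0) (hlt : ∀ x < 27, σ x < 27)
    (hmul : ∀ x y, x < 27 → y < 27 → σ (mulU x y) = mulU (σ x) (σ y)) :
    ∀ x < 27, σ x = endU (σ 9) (σ 3) x := by
  intro x hx
  have hp : ∀ y, y < 27 → ∀ n, powU y n < 27 ∧ σ (powU y n) = powU (σ y) n := by
    intro y hy n
    induction n with
    | zero => exact ⟨by norm_num [powU], h0⟩
    | succ n ih => exact ⟨mulU_lt ih.1 hy, by rw [powU, hmul _ _ ih.1 hy, ih.2]; rfl⟩
  have hc : commU 9 3 < 27 ∧ σ (commU 9 3) = commU (σ 9) (σ 3) := by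
    have l : mulU (mulU 9 3) (mulU 9 9) < 27 :=
      mulU_lt (mulU_lt (by norm_num) (by norm_num)) (mulU_lt (by norm_num) (by norm_num))
    refine ⟨mulU_lt l (mulU_lt (by norm_num) (by norm_num)), ?_⟩
    rw [commU, commU, hmul _ _ l (mulU_lt (by norm_num) (by norm_num)),
      hmul _ _ (mulU_lt (by norm_num) (by norm_num)) (mulU_lt (by norm_num) (by norm_num)),
      hmul _ _ (by norm_num) (by norm_num), hmul _ _ (by norm_num) (by norm_num), hmul _ _ (by norm_num) (by norm_num)]
  obtain ⟨p1, e1⟩ := hp 9 (by norm_num) (x / 9)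
  obtain ⟨p2, e2⟩ := hp 3 (by norm_num) (x / 3 % 3)
  obtain ⟨p3, e3⟩ := hp _ hc.1 (x % 3)
  conv_lhs => rw [show x = endU 9 3 x from (trans_check.2.2.2.2.2 ⟨x, hx⟩).symm]
  rw [endU, hmul _ _ (mulU_lt p1 p2) p3, hmul _ _ p1 p2, e1, e2, e3, hc.2]
  rfl

theorem card_normalizer_model (hm : StabShape) :
    Nat.card (normalizer (model : Set (Equiv.Perm (Fin 28)))) ≤ 28 * 27 * 16 := by
  classical
  set N := normalizer (model : Set (Equiv.Perm (Fin 28))) with hN
  let inf : Fin 28 := ⟨27, by norm_num⟩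
  let o : Fin 28 := ⟨0, by norm_num⟩
  obtain ⟨-, hw27, hw0, hl, htp, -⟩ := trans_check
  have hwm : w0P ∈ model := subset_closure (by simp)
  choose tr htrm htr using exists_translation
  -- translations moving the two base points
  have hA : ∀ p : Fin 28, ∃ r ∈ model, r inf = p := by
    intro p
    by_cases hp : p = inf
    · exact ⟨1, one_mem _, by rw [hp]; rfl⟩
    · have hp' : p.val < 27 := by
        have := p.2
        have : p.val ≠ 27 := fun e => hp (Fin.ext e)
        omega
      refine ⟨tr p hp' * w0P, mul_mem (htrm _ _) hwm, Fin.ext ?_⟩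
      have : w0P inf = o := Fin.ext (by rw [w0P, tablePerm_apply]; exact hw27)
      rw [Equiv.Perm.mul_apply, this, htr, (hl ⟨p, hp'⟩).1]
  choose r hrm hr using hA
  have hB : ∀ q : Fin 28, ∃ l ∈ model, l inf = inf ∧ (q ≠ inf → l o = q) := by
    intro q
    by_cases hq : q = inf
    · exact ⟨1, one_mem _, rfl, fun e => absurd hq e⟩
    · have hq' : q.val < 27 := by
        have := q.2
        have : q.val ≠ 27 := fun e => hq (Fin.ext e)
        omega
      exact ⟨tr q hq', htrm _ _, Fin.ext (by rw [htr]; exact (hl ⟨q, hq'⟩).2),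
        fun _ => Fin.ext (by rw [htr]; exact (hl ⟨q, hq'⟩).1)⟩
  choose l hlm hl1 hl2 using hB
  have hMN : model ≤ N := Subgroup.le_normalizer
  -- elements fixing both points are determined by a pair in the list
  have hpair : ∀ n ∈ N, n inf = inf → n o = o → ∃ q ∈ autPairs,
      ∀ p : Fin 28, ((n p : Fin 28) : ℕ) = if p.val = 27 then 27 else endU q.1 (tpU q.2 q.1) p := by
    intro n hn h1 h0
    let σ : ℕ → ℕ := fun x => if hx : x < 28 then ((n ⟨x, hx⟩ : Fin 28) : ℕ) else 0
    have hσv : ∀ p : Fin 28, σ p = ((n p : Fin 28) : ℕ) := fun p => by simp [σ]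
    have hσ27 : σ 27 = 27 := by simp only [σ, show (27:ℕ) < 28 by norm_num, dite_true]; rw [show (⟨27, _⟩ : Fin 28) = inf from rfl, h1]
    have hσ0 : σ 0 = 0 := by simp only [σ, show (0:ℕ) < 28 by norm_num, dite_true]; rw [show (⟨0, _⟩ : Fin 28) = o from rfl, h0]
    have hσinj : ∀ x y, x < 28 → y < 28 → σ x = σ y → x = y := by
      intro x y hx hy e
      simp only [σ, hx, hy, dite_true] at e
      simpa using n.injective (Fin.ext e)
    have hσlt : ∀ x < 27, σ x < 27 := by
      intro x hx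
      have h28 : σ x < 28 := by
        simp only [σ, show x < 28 by omega, dite_true]; exact Fin.isLt _
      have : σ x ≠ 27 := fun e => by
        have := hσinj x 27 (by omega) (by norm_num) (e.trans hσ27.symm)
        omega
      omega
    have hconj : ∀ g ∈ model, n * g * n⁻¹ ∈ model := fun g hg => (mem_normalizer_iff.1 hn g).1 hg
    have hninv : ∀ {p q : Fin 28}, n p = q → n⁻¹ q = p := fun e => by rw [← e]; exact n.symm_apply_apply _
    -- translations
    have hmul : ∀ u < 27, ∀ p < 28, σ (lU u p) = lU (σ u) (σ p) := by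
      intro u hu p hp
      set g := n * tr u hu * n⁻¹ with hg
      have hgf : ∀ p : Fin 28, g (n p) = n (tr u hu p) := fun p => by simp [hg, Equiv.Perm.mul_apply]
      have hg27 : g inf = inf := by
        conv_lhs => rw [← h1]
        rw [hgf, show tr u hu inf = inf from Fin.ext (by rw [htr]; exact (hl ⟨u, hu⟩).2), h1]
      obtain ⟨x, hx, m, hxm⟩ := hm g (hconj _ (htrm u hu)) hg27
      have hg3 : g ^ 3 = 1 := by
        have : tr u hu ^ 3 = 1 := Equiv.ext fun p => Fin.ext (by
          have hc : ∀ u : Fin 27, ∀ p : Fin 28, lU u (lU u (lU u p)) = p.val := by decide +kernel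
          simp only [pow_succ, pow_zero, one_mul, Equiv.Perm.mul_apply, htr, Equiv.Perm.one_apply]
          exact hc ⟨u, hu⟩ p)
        rw [hg, conj_pow, this, mul_one, mul_inv_cancel]
      have hm0 : m.val = 0 := order_three ⟨x, hx⟩ m fun p => by
        have := congrArg (fun f : Equiv.Perm (Fin 28) => ((f p : Fin 28) : ℕ)) hg3
        simp only [pow_succ, pow_zero, one_mul, Equiv.Perm.mul_apply, hxm, Equiv.Perm.one_apply] at this
        exact this
      have htp0 : ∀ p : Fin 28, tpU 0 p = p.val := fun p => (tp_succ 0 p).2.2.2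
      have hxu : x = σ u := by
        have e := congrArg Fin.val (hgf o)
        rw [hxm, hm0, htp0, h0] at e
        rw [show (lU x (o : Fin 28).val) = x from (hl ⟨x, hx⟩).1] at e
        rw [e, ← hσv, htr, (hl ⟨u, hu⟩).1]
      have e := congrArg Fin.val (hgf ⟨p, hp⟩)
      rw [hxm, hm0, htp0, hxu] at e
      simp only [← hσv, htr] at e
      exact e.symm
    -- the automorphism
    have htm : tP ∈ model := subset_closure (by simp)
    set g := n * tP * n⁻¹ with hg
    have hgf : ∀ p : Fin 28, g (n p) = n (tP p) := fun p => by simp [hg, Equiv.Perm.mul_apply]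
    have ht27 : tP inf = inf := Fin.ext (by rw [tP, tablePerm_apply]; exact (tp_table 1).2.1)
    have ht0 : tP o = o := Fin.ext (by rw [tP, tablePerm_apply]; exact (tp_table 1).1)
    have hg27 : g inf = inf := by
      conv_lhs => rw [← h1]
      rw [hgf, ht27, h1]
    obtain ⟨x, hx, m, hxm⟩ := hm g (hconj _ htm) hg27
    have hx0 : x = 0 := by
      have e := congrArg Fin.val (hgf o)
      rw [hxm, h0, ht0, h0] at e
      simp only [o, (tp_table m).1, (hl ⟨x, hx⟩).1] at e
      exact e
    have htp' : ∀ p < 27, σ (tpU 1 p) = tpU m (σ p) := by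
      intro p hp
      have e := congrArg Fin.val (hgf ⟨p, by omega⟩)
      rw [hxm, hx0, ← hσv, ← hσv, tP, tablePerm_apply] at e
      have hlt := hσlt p hp
      obtain ⟨-, h28, hiff, -⟩ := tp_succ m ⟨σ p, by omega⟩
      simp only at hiff h28 e
      have hne : tpU m (σ p) ≠ 27 := fun h => by have := hiff.1 h; omega
      rw [lU, if_neg hne, (tp_one ⟨tpU m (σ p), by omega⟩).2.2] at e
      exact e.symm
    have hmulU : ∀ x y, x < 27 → y < 27 → σ (mulU x y) = mulU (σ x) (σ y) := by
      intro x y hx hy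
      have := hmul x hx y (by omega)
      have hy' := hσlt y hy
      rwa [lU, if_neg (show y ≠ 27 by omega), lU, if_neg (show σ y ≠ 27 by omega)] at this
    have hend := endU_hom σ hσ0 hσlt hmulU
    have h3 : σ 3 = tpU m (σ 9) := by rw [← htp' 9 (by norm_num), htp]
    refine ⟨(σ 9, m.val), ?_, fun p => ?_⟩
    · simp only [autPairs, List.mem_filter, List.mem_flatMap, List.mem_map, List.mem_range, Bool.and_eq_true,
        List.all_eq_true, beq_iff_eq, Bool.or_eq_true, Bool.not_eq_true', beq_eq_false_iff_ne, ne_eq]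
      refine ⟨⟨σ 9, hσlt 9 (by norm_num), m.val, m.2, rfl⟩, fun x hx => ?_, fun x hx => ?_⟩
      · rw [← h3, ← hend x hx]
        have hlt : tpU 1 x < 27 := by
          obtain ⟨-, h28, hiff, -⟩ := tp_succ 1 ⟨x, by omega⟩
          simp only [Fin.val_one] at hiff h28
          have : tpU 1 x ≠ 27 := fun h => by have := hiff.1 h; omega
          omega
        rw [← hend _ hlt]
        exact htp' x hx
      · rw [← h3, ← hend x hx]
        by_cases e : x = 0
        · exact Or.inl e
        · exact Or.inr fun e' => e (hσinj x 0 (by omega) (by norm_num) (e'.trans hσ0.symm))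
    · rw [← hσv, ← h3]
      split_ifs with e
      · rw [e, hσ27]
      · exact hend p (by have := p.2; omega)
  -- the injection
  have hfix : ∀ n ∈ N, ∃ n' ∈ N, n' inf = inf ∧ n' o = o ∧
      n = r (n inf) * (l ((r (n inf))⁻¹ (n o)) * n') := by
    intro n hn
    set r₀ := r (n inf)
    set q := r₀⁻¹ (n o) with hq
    have hqne : q ≠ inf := by
      intro e
      have : n o = n inf := by
        rw [hq, Equiv.Perm.inv_eq_iff_eq, hr] at e
        exact e
      exact absurd (congrArg Fin.val (n.injective this)) (by simp [o, inf])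
    refine ⟨(l q)⁻¹ * (r₀⁻¹ * n), mul_mem (inv_mem (hMN (hlm q))) (mul_mem (inv_mem (hMN (hrm _))) hn),
      ?_, ?_, by simp⟩
    · rw [Equiv.Perm.mul_apply, Equiv.Perm.mul_apply, Equiv.Perm.inv_eq_iff_eq, hl1, Equiv.Perm.inv_eq_iff_eq]
      exact (hr _).symm
    · rw [Equiv.Perm.mul_apply, Equiv.Perm.mul_apply, Equiv.Perm.inv_eq_iff_eq, hl2 q hqne]
  choose n' hn' hn'1 hn'2 hdec using hfix
  choose q hq hqp using fun (n : N) => hpair (n' n n.2) (hn' n n.2) (hn'1 n n.2) (hn'2 n n.2)
  have hne : ∀ n : N, (r ((n : Equiv.Perm (Fin 28)) inf))⁻¹ ((n : Equiv.Perm (Fin 28)) o) ≠ inf := by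
    intro n e
    rw [Equiv.Perm.inv_eq_iff_eq, hr] at e
    exact absurd (congrArg Fin.val (n.1.injective e)) (by simp [o, inf])
  let F : N → Fin 28 × Fin 27 × autPairs.toFinset := fun n =>
    (n.1 inf,
      ⟨((r (n.1 inf))⁻¹ (n.1 o) : Fin 28).val, by
        have := ((r (n.1 inf))⁻¹ (n.1 o) : Fin 28).isLt
        have : ((r (n.1 inf))⁻¹ (n.1 o) : Fin 28).val ≠ 27 := fun e => hne n (Fin.ext e)
        omega⟩,
      ⟨q n, List.mem_toFinset.2 (hq n)⟩)
  have hF : Function.Injective F := by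
    intro a b e
    simp only [F, Prod.mk.injEq, Subtype.mk.injEq, Fin.mk.injEq] at e
    obtain ⟨e1, e2, e3⟩ := e
    have e2' : (r (a.1 inf))⁻¹ (a.1 o) = (r (b.1 inf))⁻¹ (b.1 o) := Fin.ext e2
    have e4 : n' a a.2 = n' b b.2 := Equiv.ext fun p => Fin.ext (by rw [hqp a p, hqp b p, e3])
    apply Subtype.ext
    rw [hdec a a.2, hdec b b.2, e4, e2', e1]
  refine (Nat.card_le_card_of_injective F hF).trans ?_
  rw [Nat.card_prod, Nat.card_prod, Nat.card_fin, Nat.card_fin, Nat.card_eq_finsetCard, ← mul_assoc]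
  exact Nat.mul_le_mul_left _ ((List.toFinset_card_le _).trans autPairs_length)

end CfsgLib.Recog.G2Spectrum
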