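import Cfsg.Agent.Lib.Recog.G2Spectrum.Degrees
import Mathlib.Tactic

/-!
Owner: helper14. No simple group of order `12096` without elements of order 9, 14 or 21 has a
Sylow 7-normaliser of order 42.
-/

set_option autoImplicit false

namespace CfsgLib.Recog.G2Spectrum

open Cfsg CfsgLib.Char Subgroup
open CfsgLib.Perm.FewSylow
open scoped ComplexConjugate Classical commutatorElement

/-- the possible signed degrees with the signed values at an involution -/
def sixOpts : Fin 9 → ℤ × ℤ :=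
  ![(8, 0), (-27, -3), (36, 0), (36, 4), (36, -4), (-48, 0), (-48, 4), (-48, -4), (64, 0)]

/-- `1728` times the term of the class multiplication sum -/
def sixTerm (q : ℤ × ℤ) : ℤ := q.2 * q.2 * (1728 / q.1)

theorem six_deg_list : ∀ y : Fin 110, y.val ≠ 1 → y.val ∣ 12096 →
    (y.val % 7 = 1 → y.val = 8 ∨ y.val = 36 ∨ y.val = 64) ∧
    (y.val % 7 = 6 → y.val = 6 ∨ y.val = 27 ∨ y.val = 48) := by decide +kernel

theorem six_solve (n : Fin 9 → ℕ)
    (h6 : n 0 + n 1 + n 2 + n 3 + n 4 + n 5 + n 6 + n 7 + n 8 = 6)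
    (hd : 8 * (n 0 : ℤ) - 27 * n 1 + 36 * (n 2 + n 3 + n 4) - 48 * (n 5 + n 6 + n 7) + 64 * n 8 = -1)
    (hv : -3 * (n 1 : ℤ) + 4 * n 3 - 4 * n 4 + 4 * n 6 - 4 * n 7 = -1)
    (hq : 64 * n 0 + 729 * n 1 + 1296 * (n 2 + n 3 + n 4) + 2304 * (n 5 + n 6 + n 7) + 4096 * n 8 ≤ 12095) :
    n 0 = 1 ∧ n 1 = 3 ∧ n 2 = 0 ∧ n 3 = 2 ∧ n 4 = 0 ∧ n 5 = 0 ∧ n 6 = 0 ∧ n 7 = 0 ∧ n 8 = 0 := by
  omega

theorem no_square_1536 (c : ℕ) : c * c ≠ 1536 := by
  intro h
  have hc : c < 40 := by nlinarith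
  interval_cases c <;> omega

variable {G : Type*} [Group G] [Fintype G]

/-- the pairs of conjugates of an involution with given product -/
theorem card_pairs {P : Subgroup G} (hP : Nat.card P = 7) {x u : G} (hx : x ∈ P)
    (hcx : centralizer ({x} : Set G) = P) (hu : u * u = 1) (hinv : ∀ y ∈ P, u * y * u⁻¹ = y⁻¹) :
    Nat.card {p : G × G // p.1 * u * p.1⁻¹ * (p.2 * u * p.2⁻¹ * x) = 1} =
      7 * (Nat.card (centralizer ({u} : Set G)) * Nat.card (centralizer ({u} : Set G))) := by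
  set C := centralizer ({u} : Set G) with hC
  have hcomm : ∀ y ∈ P, ∀ y' ∈ P, y * y' = y' * y := by
    intro y hy y' hy'
    haveI : Fact (Nat.Prime 7) := ⟨by norm_num⟩
    haveI : IsCyclic P := isCyclic_of_prime_card hP
    exact congrArg Subtype.val ((IsCyclic.commGroup (α := P)).mul_comm ⟨y, hy⟩ ⟨y', hy'⟩)
  have h7 : ∀ y ∈ P, y ^ 7 = 1 := fun y hy => by
    have := orderOf_dvd_iff_pow_eq_one.1 (hP ▸ Subgroup.orderOf_dvd_natCard P hy)
    exact this
  have hmove : ∀ y ∈ P, ∀ k : C, (y ^ 4 * (k : G)) * u * (y ^ 4 * (k : G))⁻¹ = y * u := by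
    intro y hy k
    have hk : (k : G) * u = u * k := mem_centralizer_singleton_iff.1 k.2
    have e : u * (y ^ 4)⁻¹ = y ^ 4 * u := by
      have := hinv _ (inv_mem (pow_mem hy 4))
      rw [inv_inv] at this
      rw [← mul_inv_eq_iff_eq_mul]
      exact this
    calc (y ^ 4 * (k : G)) * u * (y ^ 4 * (k : G))⁻¹ = y ^ 4 * ((k : G) * u) * (k : G)⁻¹ * (y ^ 4)⁻¹ := by group
      _ = y ^ 4 * (u * (y ^ 4)⁻¹) := by rw [hk]; group
      _ = y ^ 8 * u := by rw [e, ← mul_assoc, ← pow_add]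
      _ = y * u := by rw [show y ^ 8 = y ^ 7 * y from pow_succ y 7, h7 y hy, one_mul]
  let F : ↥P × ↥C × ↥C → {p : G × G // p.1 * u * p.1⁻¹ * (p.2 * u * p.2⁻¹ * x) = 1} := fun q =>
    ⟨((q.1 : G) ^ 4 * q.2.1, (x * q.1) ^ 4 * q.2.2), by
      have hxp := mul_mem hx q.1.2
      simp only
      rw [hmove _ q.1.2, hmove _ hxp]
      have e : u * (x * (q.1 : G)) * u = (x * (q.1 : G))⁻¹ := by
        have := hinv _ hxp
        rwa [inv_eq_of_mul_eq_one_right hu] at this
      calc (q.1 : G) * u * (x * (q.1 : G) * u * x) = (q.1 : G) * (u * (x * (q.1 : G)) * u) * x := by group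
        _ = (q.1 : G) * ((q.1 : G)⁻¹ * x⁻¹) * x := by rw [e, mul_inv_rev]
        _ = 1 := by group⟩
  have hinj : Function.Injective F := by
    rintro ⟨p, k, l⟩ ⟨p', k', l'⟩ e
    have e1 : (p : G) ^ 4 * k = (p' : G) ^ 4 * k' := congrArg (fun r => r.1.1) e
    have e2 : (x * (p : G)) ^ 4 * l = (x * (p' : G)) ^ 4 * l' := congrArg (fun r => r.1.2) e
    have hp : (p : G) = p' := by
      have := hmove _ p.2 k
      rw [e1, hmove _ p'.2 k'] at this
      exact (mul_right_cancel this).symm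
    rw [hp, mul_left_cancel_iff] at e1
    rw [hp, mul_left_cancel_iff] at e2
    exact Prod.ext (Subtype.ext hp) (Prod.ext (Subtype.ext e1) (Subtype.ext e2))
  have hsurj : Function.Surjective F := by
    rintro ⟨⟨c, d⟩, hcd⟩
    simp only at hcd
    have hcomm' : ∀ {c y : G}, y ∈ P → c * u * c⁻¹ = y * u → (y ^ 4)⁻¹ * c ∈ C := by
      intro c y hy e
      have h1 := hmove y hy 1
      rw [OneMemClass.coe_one, mul_one, ← e] at h1
      rw [hC, mem_centralizer_singleton_iff]
      calc (y ^ 4)⁻¹ * c * u = (y ^ 4)⁻¹ * (c * u * c⁻¹) * c := by group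
        _ = (y ^ 4)⁻¹ * (y ^ 4 * u * (y ^ 4)⁻¹) * c := by rw [h1]
        _ = u * ((y ^ 4)⁻¹ * c) := by group
    obtain ⟨v, hv⟩ : ∃ v, v = c * u * c⁻¹ := ⟨_, rfl⟩
    obtain ⟨v', hv'⟩ : ∃ v, v = d * u * d⁻¹ := ⟨_, rfl⟩
    rw [← hv, ← hv'] at hcd
    have hvv : v * v = 1 := by
      rw [hv, show c * u * c⁻¹ * (c * u * c⁻¹) = c * (u * u) * c⁻¹ by group, hu]; group
    have hvv' : v' * v' = 1 := by
      rw [hv', show d * u * d⁻¹ * (d * u * d⁻¹) = d * (u * u) * d⁻¹ by group, hu]; group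
    have hxv : x = v' * v := by
      have e : v' * x = v⁻¹ := eq_inv_of_mul_eq_one_right hcd
      rw [inv_eq_of_mul_eq_one_right hvv] at e
      rw [← e, ← mul_assoc, hvv', one_mul]
    have hvx : v * x * v⁻¹ = x⁻¹ := by
      rw [hxv, mul_inv_rev, inv_eq_of_mul_eq_one_right hvv, inv_eq_of_mul_eq_one_right hvv']
      calc v * (v' * v) * v = v * v' * (v * v) := by group
        _ = v * v' := by rw [hvv, mul_one]
    have hp : v * u ∈ P := by
      rw [← hcx, mem_centralizer_singleton_iff]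
      have h1 := hinv x hx
      calc v * u * x = v * (u * x * u⁻¹) * u := by group
        _ = (v * x * v⁻¹)⁻¹ * (v * u) := by rw [h1]; group
        _ = x * (v * u) := by rw [hvx, inv_inv]
    have hvu : v = v * u * u := by rw [mul_assoc, hu, mul_one]
    have hv'u : v' = x * (v * u) * u := by
      rw [mul_assoc x, mul_assoc v, hu, mul_one, hxv, mul_assoc, hvv, mul_one]
    refine ⟨(⟨v * u, hp⟩, ⟨_, hcomm' hp (hv.symm.trans hvu)⟩, ⟨_, hcomm' (mul_mem hx hp) (hv'.symm.trans hv'u)⟩), ?_⟩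
    exact Subtype.ext (Prod.ext (by simp [F]) (by simp [F]))
  rw [← Nat.card_congr (Equiv.ofBijective F ⟨hinj, hsurj⟩), Nat.card_prod, Nat.card_prod, hP]

theorem not_normalizer_six [IsSimpleGroup G] (hG : Nat.card G = 12096) (hnb : NoBad G) [Fact (Nat.Prime 7)]
    (P : Sylow 7 G) (hP : Nat.card (P : Subgroup G) = 7)
    (hC : centralizer ((P : Subgroup G) : Set G) = (P : Subgroup G))
    (hN : Nat.card (normalizer ((P : Subgroup G) : Set G)) = 7 * 6)
    (hperf : commutator G = ⊤) : False := by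
  haveI := Fintype.ofFinite (IrrCharacter G)
  obtain ⟨a, e, t, n, F⟩ := exists_frame P hP hC hperf
  obtain rfl : e = 6 := by have := F.cardN; rw [hN] at this; omega
  obtain rfl : t = 1 := by have := F.et; omega
  obtain ⟨X, Y, δ, ε, hdisj, hT, hT1, hXc, hYc, hX, hε, hYdeg, -, hrel, -, hK, -⟩ := exists_values F
  obtain ⟨θ, rfl⟩ := Finset.card_eq_one.1 hYc
  have hθ : θ ∈ ({θ} : Finset (IrrCharacter G)) := Finset.mem_singleton_self θ
  have h1 : ¬ 7 ∣ orderOf (1 : G) := by rw [orderOf_one]; norm_num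
  have hθx : ∀ x ∈ star (P : Subgroup G), (θ : G → ℂ) x = -(ε : ℂ) := by
    intro x hx
    have horth := CfsgLib.CharDegree.sum_degree_mul_eq_ite x
    rw [if_neg (mem_star.1 hx).1, ← Finset.sum_subset (Finset.subset_univ (X ∪ {θ})) (fun χ _ hχ => by
      rw [hK χ hχ x hx, mul_zero]), Finset.sum_union hdisj, Finset.sum_singleton] at horth
    have eX : ∑ χ ∈ X, (χ : G → ℂ) 1 * (χ : G → ℂ) x = (ε : ℂ) * (θ : G → ℂ) 1 := by
      rw [hrel θ hθ 1 h1]
      exact Finset.sum_congr rfl fun χ h => by rw [(hX χ h).2.2 x hx, mul_comm]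
    rw [eX] at horth
    refine mul_left_cancel₀ (IsIrr.apply_one_ne_zero θ.2) ?_
    linear_combination horth
  -- the six non-principal characters with their signs
  set Z := insert θ (X.erase (trivChar G)) with hZ
  let σ : IrrCharacter G → ℤ := fun χ => if χ = θ then -ε else δ χ
  have hθX : θ ∉ X := fun h => Finset.disjoint_left.1 hdisj h hθ
  have hθT : θ ≠ trivChar G := fun h => hθX (h ▸ hT)
  have hθE : θ ∉ X.erase (trivChar G) := fun h => hθX (Finset.mem_of_mem_erase h)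
  have hZc : Z.card = 6 := by
    rw [hZ, Finset.card_insert_of_notMem hθE, Finset.card_erase_of_mem hT, hXc]
  have hσX : ∀ χ ∈ X.erase (trivChar G), σ χ = δ χ := fun χ h => if_neg fun e : χ = θ => hθE (e ▸ h)
  have hZT : ∀ χ ∈ Z, χ ≠ trivChar G := by
    intro χ h
    rcases Finset.mem_insert.1 h with rfl | h
    · exact hθT
    · exact Finset.ne_of_mem_erase h
  have hZsign : ∀ χ ∈ Z, (σ χ = 1 ∨ σ χ = -1) ∧ (charDegree (χ : G → ℂ) : ℤ) ≡ σ χ [ZMOD 7] ∧
      ∀ x ∈ star (P : Subgroup G), (χ : G → ℂ) x = (σ χ : ℂ) := by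
    intro χ h
    rcases Finset.mem_insert.1 h with rfl | h
    · have e : σ χ = -ε := if_pos rfl
      rw [e]
      refine ⟨by rcases hε with e | e <;> simp [e], ?_, fun x hx => by rw [hθx x hx]; push_cast; rfl⟩
      have h' := Int.modEq_iff_dvd.1 (hYdeg χ hθ)
      rw [Int.modEq_iff_dvd]
      push_cast at h' ⊢
      rcases hε with e | e <;> rw [e] at h' ⊢ <;> omega
    · rw [hσX χ h]
      exact hX χ (Finset.mem_of_mem_erase h)
  have hrelZ : ∀ g : G, ¬ 7 ∣ orderOf g → ∑ χ ∈ Z, (σ χ : ℂ) * (χ : G → ℂ) g = -1 := by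
    intro g hg
    have e := hrel θ hθ g hg
    rw [← Finset.add_sum_erase _ _ hT, hT1, trivChar_apply] at e
    rw [hZ, Finset.sum_insert hθE, Finset.sum_congr rfl (fun χ h => by rw [hσX χ h]),
      show σ θ = -ε from if_pos rfl]
    push_cast at e ⊢
    linear_combination -e
  -- an involution inverting the Sylow subgroup
  have hordu : orderOf (a ^ 3) = 2 := by rw [orderOf_pow' a (by norm_num), F.ord]; rfl
  set u := a ^ 3 with hu
  have huu : u * u = 1 := by
    have := pow_orderOf_eq_one u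
    rwa [hordu, pow_two] at this
  have hcomm : ∀ y ∈ (P : Subgroup G), ∀ y' ∈ (P : Subgroup G), y * y' = y' * y := by
    intro y hy y' hy'
    haveI : IsCyclic (P : Subgroup G) := isCyclic_of_prime_card hP
    exact congrArg Subtype.val ((IsCyclic.commGroup (α := (P : Subgroup G))).mul_comm ⟨y, hy⟩ ⟨y', hy'⟩)
  have hinv : ∀ y ∈ (P : Subgroup G), u * y * u⁻¹ = y⁻¹ := by
    intro y hy
    have hy' : u * y * u⁻¹ ∈ (P : Subgroup G) := (mem_normalizer_iff.1 (pow_mem F.mem 3) y).1 hy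
    refine eq_inv_of_mul_eq_one_left ?_
    by_contra hne
    have hfix : u * (u * y * u⁻¹ * y) = (u * y * u⁻¹ * y) * u := by
      calc u * (u * y * u⁻¹ * y) = (u * u) * y * (u⁻¹ * y) := by group
        _ = y * (u * u) * (u⁻¹ * y * u⁻¹) * u := by rw [huu]; group
        _ = y * (u * y * u⁻¹) * u := by group
        _ = _ := by rw [hcomm y hy _ hy']
    have : u ∈ (P : Subgroup G) := by
      rw [← F.cent _ (mul_mem hy' hy) hne]
      exact mem_centralizer_singleton_iff.2 hfix
    have := Subgroup.orderOf_dvd_natCard (P : Subgroup G) this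
    rw [hP, hordu] at this
    norm_num at this
  have hu7 : ¬ 7 ∣ orderOf u := by rw [hordu]; norm_num
  choose k hk hk1 hk2 using fun χ : IrrCharacter G => value_involution χ huu
  -- the average over the coset
  have hbound : ∀ χ ∈ Z, 7 * |k χ| ≤ (charDegree (χ : G → ℂ) : ℤ) + 6 * σ χ := by
    intro χ hχ
    have hle := CfsgLib.Perm.CharAverage.norm_sum_le (P : Subgroup G) (IsIrr.isCharacter χ.2)
      (u := u) (pow_mem F.mem 3)
    have hL : ∑ y : (P : Subgroup G), (χ : G → ℂ) ((y : G) * u) = ((7 * k χ : ℤ) : ℂ) := by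
      rw [Finset.sum_congr rfl (g := fun _ => (χ : G → ℂ) u) (fun y _ => ?_), Finset.sum_const,
        Finset.card_univ, ← Nat.card_eq_fintype_card, hP, hk]
      · simp
      · have e : u * ((y : G) ^ 4)⁻¹ = (y : G) ^ 4 * u := by
          have := hinv _ (inv_mem (pow_mem y.2 4))
          rw [inv_inv] at this
          rw [← mul_inv_eq_iff_eq_mul]
          exact this
        have h7 : (y : G) ^ 7 = 1 := by
          have := pow_card_eq_one' (x := y)
          rw [hP] at this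
          exact congrArg Subtype.val this
        rw [← IsIrr.isClassFunction χ.2 u ((y : G) ^ 4), mul_assoc, e, ← mul_assoc, ← pow_add,
          show (y : G) ^ 8 = (y : G) ^ 7 * y from pow_succ _ 7, h7, one_mul]
    have hR : ∑ y : (P : Subgroup G), (χ : G → ℂ) y =
        (((charDegree (χ : G → ℂ) : ℤ) + 6 * σ χ : ℤ) : ℂ) := by
      rw [sum_subgroup, Finset.sum_congr rfl (fun y hy => (hZsign χ hχ).2.2 y hy), Finset.sum_const,
        F.card_Pstar, ← CfsgLib.CharDegree.cast_irrDegree]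
      push_cast
      ring
    rw [hL, hR, Complex.norm_intCast, Complex.intCast_re] at hle
    have hle' : (((|7 * k χ| : ℤ)) : ℝ) ≤ (((charDegree (χ : G → ℂ) : ℤ) + 6 * σ χ : ℤ) : ℝ) := by
      rw [Int.cast_abs]; exact hle
    have := Int.cast_le.1 hle'
    rwa [abs_mul, abs_of_pos (by norm_num : (0 : ℤ) < 7)] at this
  have h3C : 3 ∣ Nat.card (centralizer ({u} : Set G)) := by
    have ha2 : a ^ 2 ∈ centralizer ({u} : Set G) :=
      mem_centralizer_singleton_iff.2 (by rw [hu, ← pow_add, ← pow_add, add_comm])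
    have := Subgroup.orderOf_dvd_natCard _ ha2
    rwa [orderOf_pow' a (by norm_num), F.ord] at this
  have hsqle : ∑ χ ∈ Z, charDegree (χ : G → ℂ) ^ 2 ≤ 12095 := by
    have h2 : ∑ ψ : IrrCharacter G, charDegree (ψ : G → ℂ) ^ 2 = 12096 := by
      rw [← hG, ← Nat.cast_inj (R := ℂ), Nat.cast_sum, ← sum_sq_degree]
      exact Finset.sum_congr rfl fun ψ _ => by rw [Nat.cast_pow, CfsgLib.CharDegree.cast_irrDegree]
    have h3 := Finset.sum_le_sum_of_subset_of_nonneg (f := fun ψ : IrrCharacter G => charDegree (ψ : G → ℂ) ^ 2)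
      (Finset.subset_univ (insert (trivChar G) Z)) (fun _ _ _ => Nat.zero_le _)
    rw [h2, Finset.sum_insert (fun h => hZT _ h rfl)] at h3
    have : charDegree ((trivChar G : IrrCharacter G) : G → ℂ) = 1 := by
      simp [trivChar_apply, Cfsg.charDegree]
    rw [this] at h3
    omega
  -- the options
  have hopt : ∀ χ ∈ Z, ∃ i : Fin 9, σ χ * (charDegree (χ : G → ℂ) : ℤ) = (sixOpts i).1 ∧
      σ χ * k χ = (sixOpts i).2 := by
    intro χ hχ
    obtain ⟨hs, hm, -⟩ := hZsign χ hχ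
    have hb := hbound χ hχ
    have h4 : (4 : ℤ) ∣ (charDegree (χ : G → ℂ) : ℤ) - k χ :=
      CfsgLib.Perm.ThreePrimeOrder.four_dvd_degree_sub hperf χ huu (hk χ)
    have hle : charDegree (χ : G → ℂ) < 110 := by
      have := Finset.single_le_sum (f := fun ψ : IrrCharacter G => charDegree (ψ : G → ℂ) ^ 2)
        (fun _ _ => Nat.zero_le _) hχ
      nlinarith
    have hd : charDegree (χ : G → ℂ) ∣ 12096 := hG ▸ CfsgLib.CharDegree.charDegree_dvd_card χ
    have hne : charDegree (χ : G → ℂ) ≠ 1 := fun e => hZT χ hχ (eq_trivChar hperf χ e)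
    obtain ⟨hp, hq⟩ := six_deg_list ⟨_, hle⟩ hne hd
    simp only at hp hq
    have habs := abs_le.1 (le_refl |k χ|)
    have hm' := Int.modEq_iff_dvd.1 hm
    have h27 : charDegree (χ : G → ℂ) = 27 → (3 : ℤ) ∣ k χ := by
      intro e27
      have hi := CfsgLib.CharDegree.isIntegral_centralChar χ u
      rw [Cfsg.centralChar, hk, ← CfsgLib.CharDegree.cast_irrDegree, e27] at hi
      have hdv := dvd_of_isIntegral_intDiv (n := ((centralizer ({u} : Set G)).index : ℤ) * k χ) (d := 27)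
        (by norm_num) (by simpa using hi)
      by_contra h3
      have hcop : IsCoprime (27 : ℤ) (k χ) := by
        rw [show (27 : ℤ) = 3 ^ 3 by norm_num]
        exact IsCoprime.pow_left ((Int.prime_three.coprime_iff_not_dvd).2 h3)
      have hdi := hcop.dvd_of_dvd_mul_right hdv
      have hdn : 27 ∣ (centralizer ({u} : Set G)).index := by exact_mod_cast hdi
      have := Nat.mul_dvd_mul h3C hdn
      rw [Subgroup.card_mul_index, hG] at this
      norm_num at this
    have h64 : charDegree (χ : G → ℂ) = 64 → k χ = 0 := by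
      intro e64
      have := CfsgLib.Perm.ThreePrimeOrder.vanish_of_full (χ := χ) Nat.prime_two
        (by rw [e64, hG]; norm_num) (g := u) (by rw [hordu])
      rw [hk] at this
      exact_mod_cast this
    rcases hs with e | e <;> rw [e] at hb hm' ⊢
    · rcases hp (by omega) with ef | ef | ef <;> rw [ef] at hb h4 ⊢ <;> push_cast at hb h4 ⊢
      · exact ⟨0, by simp [sixOpts], by simp [sixOpts]; omega⟩
      · rcases (by omega : k χ = 0 ∨ k χ = 4 ∨ k χ = -4) with ek | ek | ek <;> rw [ek]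
        · exact ⟨2, by simp [sixOpts], by simp [sixOpts]⟩
        · exact ⟨3, by simp [sixOpts], by simp [sixOpts]⟩
        · exact ⟨4, by simp [sixOpts], by simp [sixOpts]⟩
      · exact ⟨8, by simp [sixOpts], by simp [sixOpts, h64 ef]⟩
    · rcases hq (by omega) with ef | ef | ef <;> rw [ef] at hb h4 ⊢ <;> push_cast at hb h4 ⊢
      · omega
      · have := h27 ef
        exact ⟨1, by simp [sixOpts], by simp [sixOpts]; omega⟩
      · rcases (by omega : k χ = 0 ∨ k χ = -4 ∨ k χ = 4) with ek | ek | ek <;> rw [ek]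
        · exact ⟨5, by simp [sixOpts], by simp [sixOpts]⟩
        · exact ⟨6, by simp [sixOpts], by simp [sixOpts]⟩
        · exact ⟨7, by simp [sixOpts], by simp [sixOpts]⟩
  choose i hi1 hi2 using hopt
  let I : IrrCharacter G → Fin 9 := fun χ => if h : χ ∈ Z then i χ h else 0
  have hI : ∀ (χ : IrrCharacter G) (h : χ ∈ Z), I χ = i χ h := fun χ h => dif_pos h
  set m : Fin 9 → ℕ := fun q => (Z.filter fun χ => I χ = q).card with hm
  have hfib : ∀ f : Fin 9 → ℤ, ∑ χ ∈ Z, f (I χ) = ∑ q, (m q : ℤ) * f q := by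
    intro f
    rw [← Finset.sum_fiberwise Z I (fun χ => f (I χ))]
    refine Finset.sum_congr rfl fun q _ => ?_
    rw [Finset.sum_congr rfl (fun χ hχ => by rw [(Finset.mem_filter.1 hχ).2]), Finset.sum_const,
      nsmul_eq_mul]
  have e0 : ∑ χ ∈ Z, (1 : ℤ) = 6 := by simp [hZc]
  have e1 : ∑ χ ∈ Z, (sixOpts (I χ)).1 = -1 := by
    rw [Finset.sum_congr rfl (fun χ h => by rw [hI χ h, ← hi1 χ h])]
    apply Int.cast_injective (α := ℂ)
    have := hrelZ 1 h1
    simp only [← CfsgLib.CharDegree.cast_irrDegree] at this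
    push_cast
    exact this
  have e2 : ∑ χ ∈ Z, (sixOpts (I χ)).2 = -1 := by
    rw [Finset.sum_congr rfl (fun χ h => by rw [hI χ h, ← hi2 χ h])]
    apply Int.cast_injective (α := ℂ)
    have := hrelZ u hu7
    simp only [hk] at this
    push_cast
    exact this
  have e3 : ∑ χ ∈ Z, (sixOpts (I χ)).1 * (sixOpts (I χ)).1 ≤ 12095 := by
    have e : ∀ χ ∈ Z, (sixOpts (I χ)).1 * (sixOpts (I χ)).1 =
        ((charDegree (χ : G → ℂ) ^ 2 : ℕ) : ℤ) := by
      intro χ h
      rw [hI χ h, ← hi1 χ h]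
      push_cast
      rcases (hZsign χ h).1 with e | e <;> rw [e] <;> ring
    rw [Finset.sum_congr rfl e, ← Nat.cast_sum]
    exact_mod_cast hsqle
  rw [hfib (fun _ => 1)] at e0
  rw [hfib (fun q => (sixOpts q).1)] at e1
  rw [hfib (fun q => (sixOpts q).2)] at e2
  rw [hfib (fun q => (sixOpts q).1 * (sixOpts q).1)] at e3
  have hsum9 : ∀ f : Fin 9 → ℤ, ∑ q, f q = f 0 + f 1 + f 2 + f 3 + f 4 + f 5 + f 6 + f 7 + f 8 := fun f => by
    rw [Fin.sum_univ_castSucc, Fin.sum_univ_eight]; rfl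
  rw [hsum9] at e0 e1 e2 e3
  simp [sixOpts] at e0 e1 e2 e3
  obtain ⟨m0, m1, m2, m3, m4, m5, m6, m7, m8⟩ := six_solve m (by omega) (by omega) (by omega) (by omega)
  have e4 : ∑ χ ∈ Z, sixTerm (sixOpts (I χ)) = -192 := by
    rw [hfib (fun q => sixTerm (sixOpts q))]
    rw [hsum9]
    simp [sixOpts, sixTerm]
    omega
  -- the class multiplication coefficient
  obtain ⟨x, hx⟩ : (star (P : Subgroup G)).Nonempty :=
    Finset.card_pos.1 (by rw [F.card_Pstar]; norm_num)
  obtain ⟨hx1, hxP⟩ := mem_star.1 hx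
  have h3 := CfsgLib.CharDegree.sum_three u u x
  rw [card_pairs hP hxP (F.cent x hxP hx1) huu hinv, hG] at h3
  have hmemZ : ∀ χ ∈ X ∪ {θ}, χ ∈ insert (trivChar G) Z := by
    intro χ hm
    rcases Finset.mem_union.1 hm with hm | hm
    · by_cases e : χ = trivChar G
      · exact Finset.mem_insert.2 (Or.inl e)
      · exact Finset.mem_insert.2 (Or.inr (Finset.mem_insert.2 (Or.inr (Finset.mem_erase.2 ⟨e, hm⟩))))
    · rw [Finset.mem_singleton.1 hm]
      exact Finset.mem_insert.2 (Or.inr (Finset.mem_insert.2 (Or.inl rfl)))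
  have hsum : (1728 : ℂ) * ∑ χ : IrrCharacter G,
      (χ : G → ℂ) u * (χ : G → ℂ) u * (χ : G → ℂ) x / (χ : G → ℂ) 1 = ((1728 + -192 : ℤ) : ℂ) := by
    rw [← Finset.sum_subset (Finset.subset_univ (insert (trivChar G) Z)) (fun χ _ hχ => by
      rw [hK χ (fun hm => hχ (hmemZ χ hm)) x hx, mul_zero, zero_div]), Finset.sum_insert (fun h => hZT _ h rfl),
      mul_add, trivChar_apply, trivChar_apply, trivChar_apply, Finset.mul_sum, ← e4, Int.cast_add,
      Int.cast_sum]
    congr 1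
    · norm_num
    · refine Finset.sum_congr rfl fun χ h => ?_
      have hterm : sixTerm (sixOpts (I χ)) * (charDegree (χ : G → ℂ) : ℤ) =
          1728 * (k χ * k χ * σ χ) := by
        have key : ∀ q : Fin 9, sixTerm (sixOpts q) * (sixOpts q).1 =
            1728 * ((sixOpts q).2 * (sixOpts q).2) := by decide +kernel
        have hq := key (I χ)
        conv_rhs at hq => rw [hI χ h, ← hi2 χ h]
        rw [show (sixOpts (I χ)).1 = σ χ * (charDegree (χ : G → ℂ) : ℤ) by rw [hI χ h, hi1]] at hq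
        rcases (hZsign χ h).1 with e | e <;> rw [e] at hq ⊢ <;> linarith
      rw [(hZsign χ h).2.2 x hx, hk, ← CfsgLib.CharDegree.cast_irrDegree]
      have hpos : ((charDegree (χ : G → ℂ) : ℕ) : ℂ) ≠ 0 :=
        Nat.cast_ne_zero.2 (CfsgLib.CharDegree.charDegree_pos χ).ne'
      rw [mul_div_assoc', div_eq_iff hpos]
      have := congrArg (fun q : ℤ => (q : ℂ)) hterm
      push_cast at this ⊢
      linear_combination -this
  have hc : ((Nat.card (centralizer ({u} : Set G)) * Nat.card (centralizer ({u} : Set G)) : ℕ) : ℂ) =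
      ((1536 : ℕ) : ℂ) := by
    push_cast at h3 hsum ⊢
    linear_combination (-(1 : ℂ) / 7) * h3 + hsum
  exact no_square_1536 _ (Nat.cast_inj.1 hc)

end CfsgLib.Recog.G2Spectrum
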