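import Cfsg.Agent.Lib.Recog.G2Spectrum.Reduction
import Cfsg.Agent.Lib.Recog.G2Spectrum.Model
import Mathlib.Tactic

/-!
Owner: helper14. A group of order `12096` without elements of order 9, 14 or 21 is the normaliser of
the tabulated permutation group of degree 28.
-/

set_option autoImplicit false

namespace CfsgLib.Recog.G2Spectrum

open Subgroup

theorem model_ne_bot : model ≠ ⊥ := by
  intro e
  have hw : w0P ∈ model := subset_closure (by simp)
  rw [e, mem_bot] at hw
  have h := congrArg (fun f : Equiv.Perm (Fin 28) => ((f ⟨0, by norm_num⟩ : Fin 28) : ℕ)) hw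
  have hv : fld w0C 0 = 27 := trans_check.2.2.1
  simp only [w0P, tablePerm_apply, hv, Equiv.Perm.one_apply] at h
  norm_num at h

/-- A group of order `12096` without elements of order 9, 14 or 21 is determined. -/
theorem nonempty_mulEquiv {G : Type*} [Group G] [Finite G] (hG : Nat.card G = 12096) (hnb : NoBad G) :
    Nonempty (G ≃* normalizer (model : Set (Equiv.Perm (Fin 28)))) := by
  classical
  obtain ⟨T, hTn, hT, hcent⟩ := exists_hyp48 hG hnb
  haveI := hTn
  haveI := Fintype.ofFinite T
  obtain ⟨χ, θ, hc⟩ := hT.exists_chars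
  obtain ⟨e, hrange, hshape⟩ := exists_coords hT hc
  set φ := (e.permCongrHom).toMonoidHom.comp (MulAction.toPermHom T (Sylow 3 T)) with hφ
  let ψ : G →* Equiv.Perm (Fin 28) := (e.permCongrHom).toMonoidHom.comp
    ((MulAction.toPermHom (MulAut T) (Sylow 3 T)).comp (MulAut.conjNormal : G →* MulAut T))
  have hres : ∀ t : T, ψ (t : G) = φ t := by
    intro t
    have e1 : (MulAut.conjNormal (t : G) : MulAut T) = MulAut.conj t := by
      ext y
      simp
    show e.permCongrHom (MulAction.toPerm (MulAut.conjNormal (t : G) : MulAut T)) = _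
    rw [e1]
    exact congrArg e.permCongrHom (Equiv.ext fun S => rfl)
  haveI := hT.simple
  have hφinj : Function.Injective φ := by
    rw [← MonoidHom.ker_eq_bot_iff]
    rcases (MonoidHom.normal_ker φ).eq_bot_or_eq_top with h | h
    · exact h
    · exfalso
      refine model_ne_bot ?_
      rw [← hrange, MonoidHom.range_eq_map, ← h, Subgroup.map_eq_bot_iff]
  have hnorm : ∀ (g : G) (t : T), ψ g * φ t * (ψ g)⁻¹ = φ ⟨g * t * g⁻¹, hTn.conj_mem t t.2 g⟩ := by
    intro g t
    rw [← hres, ← hres, ← map_inv, ← map_mul, ← map_mul]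
  have hψinj : Function.Injective ψ := by
    rw [← MonoidHom.ker_eq_bot_iff, eq_bot_iff, ← hcent]
    intro g hg
    rw [mem_centralizer_iff]
    intro t ht
    have := hnorm g ⟨t, ht⟩
    rw [MonoidHom.mem_ker.1 hg, one_mul, inv_one, mul_one] at this
    have h2 : t = g * t * g⁻¹ := congrArg Subtype.val (hφinj this)
    calc t * g = g * t * g⁻¹ * g := by rw [← h2]
      _ = g * t := by rw [inv_mul_cancel_right]
  have hle : ψ.range ≤ normalizer (model : Set (Equiv.Perm (Fin 28))) := by
    have key : ∀ g : G, ∀ y ∈ model, ψ g * y * (ψ g)⁻¹ ∈ model := by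
      intro g y hy
      rw [← hrange] at hy ⊢
      obtain ⟨t, rfl⟩ := hy
      rw [hnorm]
      exact ⟨_, rfl⟩
    rintro _ ⟨g, rfl⟩
    rw [mem_normalizer_iff]
    intro y
    refine ⟨key g y, fun hy => ?_⟩
    have := key g⁻¹ _ hy
    simpa [mul_assoc] using this
  have heq : ψ.range = normalizer (model : Set (Equiv.Perm (Fin 28))) := by
    refine Subgroup.eq_of_le_of_card_ge hle ((card_normalizer_model hshape).trans ?_)
    rw [← Nat.card_congr (MonoidHom.ofInjective hψinj).toEquiv, hG]
  exact ⟨(MonoidHom.ofInjective hψinj).trans (MulEquiv.subgroupCongr heq)⟩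

/-- Any two such groups are isomorphic. -/
theorem nonempty_mulEquiv_of_card {G : Type*} {H : Type*} [Group G] [Finite G] [Group H] [Finite H]
    (hG : Nat.card G = 12096) (hnG : NoBad G) (hH : Nat.card H = 12096) (hnH : NoBad H) :
    Nonempty (G ≃* H) := by
  obtain ⟨f⟩ := nonempty_mulEquiv hG hnG
  obtain ⟨g⟩ := nonempty_mulEquiv hH hnH
  exact ⟨f.trans g.symm⟩

end CfsgLib.Recog.G2Spectrum
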